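import Cfsg.Agent.H75.TwoDeg3
import Cfsg.Agent.H76.AlperinDade2
import Cfsg.Agent.H67.CopDeg
import Cfsg.Agent.S0887

/-!
# Groups with few character degrees: basic facts (owner: helper53)
-/

set_option autoImplicit false
set_option linter.style.haveILetI false
set_option linter.unusedSectionVars false

namespace Cfsg.Agent.H53.D3

open scoped ComplexConjugate BigOperators
open Cfsg Cfsg.Agent.CharBase Cfsg.Agent.Char Cfsg.Agent.H75

universe u

variable {G : Type u} [Group G] [Finite G]

/-- `χ` lies over `θ` -/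
def Over (N : Subgroup G) (χ : IrrCharacter G) (θ : IrrCharacter N) : Prop :=
  haveI := Fintype.ofFinite N
  classInner (fun n : N => (χ : G → ℂ) n) (θ : N → ℂ) ≠ 0

theorem over_iff (N : Subgroup G) [Fintype N] (χ : IrrCharacter G) (θ : IrrCharacter N) :
    Over N χ θ ↔ classInner (fun n : N => (χ : G → ℂ) n) (θ : N → ℂ) ≠ 0 := by
  unfold Over
  have : (Fintype.ofFinite N) = (inferInstance : Fintype N) := Subsingleton.elim _ _
  rw [this]

theorem exists_under (N : Subgroup G) (χ : IrrCharacter G) : ∃ θ : IrrCharacter N, Over N χ θ := by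
  haveI := Fintype.ofFinite N
  obtain ⟨θ, hθ, h⟩ := exists_constituent_restrict N (irr_isCharacter χ) (irr_one_ne_zero χ.2)
  exact ⟨⟨θ, hθ⟩, (over_iff N _ _).mpr h⟩

theorem exists_above (N : Subgroup G) (θ : IrrCharacter N) : ∃ χ : IrrCharacter G, Over N χ θ := by
  haveI := Fintype.ofFinite N
  haveI := Fintype.ofFinite G
  obtain ⟨χ, hχ, h⟩ := exists_over N θ.2
  exact ⟨⟨χ, hχ⟩, (over_iff N _ _).mpr h⟩

theorem Over.deg_dvd {N : Subgroup G} [N.Normal] {χ : IrrCharacter G} {θ : IrrCharacter N}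
    (h : Over N χ θ) : ∃ m : ℕ, deg χ = deg θ * m ∧ m ∣ N.index := by
  haveI := Fintype.ofFinite G
  haveI := Fintype.ofFinite N
  have h1 := S0887.result N χ χ.2 θ θ.2 ((over_iff N _ _).mp h) (deg χ) (deg θ) (deg_spec χ) (deg_spec θ)
  obtain ⟨m, hm⟩ := h1.1
  refine ⟨m, hm, ?_⟩
  have h2 := h1.2
  rw [hm, Nat.mul_div_cancel_left _ (deg_pos θ)] at h2
  exact h2

theorem Over.dvd {N : Subgroup G} [N.Normal] {χ : IrrCharacter G} {θ : IrrCharacter N}
    (h : Over N χ θ) : deg θ ∣ deg χ := by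
  obtain ⟨m, hm, -⟩ := h.deg_dvd
  exact ⟨m, hm⟩

/-- if the degree is prime to the index then the restriction is irreducible -/
theorem restrict_irr {N : Subgroup G} [N.Normal] (χ : IrrCharacter G)
    (h : (deg χ).Coprime N.index) : IsIrrCharacter N (fun n : N => (χ : G → ℂ) n) := by
  haveI := Fintype.ofFinite N
  obtain ⟨θ, hθ⟩ := exists_under N χ
  obtain ⟨m, hm, hmi⟩ := hθ.deg_dvd
  have h1 : m = 1 := by
    apply Nat.dvd_one.mp
    rw [← h]
    exact Nat.dvd_gcd (hm ▸ Dvd.intro_left _ rfl) hmi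
  have h2 := eq_of_degree_le (isCharacter_restrict (irr_isCharacter χ) N) θ.2
    ((over_iff N _ _).mp hθ) (deg_spec θ) (n := deg χ) (by
      show (χ : G → ℂ) 1 = _
      exact deg_spec χ) (by rw [hm, h1, mul_one])
  rw [h2]
  exact θ.2

/-- Gallagher: the product with a character of the quotient -/
theorem gallagher_mul (N : Subgroup G) [N.Normal] (χ : IrrCharacter G)
    (hχ : IsIrrCharacter N (fun n : N => (χ : G → ℂ) n)) (β : IrrCharacter (G ⧸ N)) :
    ∃ ψ : IrrCharacter G, (∀ g, (ψ : G → ℂ) g = (β : G ⧸ N → ℂ) (QuotientGroup.mk g) * (χ : G → ℂ) g) ∧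
      deg ψ = deg β * deg χ := by
  classical
  haveI := Fintype.ofFinite G
  haveI := Fintype.ofFinite N
  set θ : N → ℂ := fun n : N => (χ : G → ℂ) n with hθ
  have e1 : (fun _ => 1 : N → ℂ) * θ = θ := by funext n; simp
  have hinv : ∀ g : G, cj N g θ = θ := fun g =>
    cj_restrict N g (isClassFunction_of_isCharacter (irr_isCharacter χ))
  have hbij := gallagher_bijOn N (fun _ => 1) θ Char.isIrrCharacter_one (fun g => rfl) hinv
    (by rw [e1]; exact hχ) χ χ.2 (fun n => rfl)
  let β' : G → ℂ := fun g => (β : G ⧸ N → ℂ) (QuotientGroup.mk g)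
  have hβ : IsIrrCharacter G β' := isIrrCharacter_inflate N β.2
  have hβN : classInner (indFun N (fun _ => 1)) β' ≠ 0 := by
    rw [frobenius_reciprocity N _ _ (isClassFunction_of_isCharacter (isCharacter_of_isIrr hβ))]
    have : (fun k : N => β' k) = (deg β : ℂ) • (fun _ => (1 : ℂ)) := by
      funext k
      show (β : G ⧸ N → ℂ) (QuotientGroup.mk (k : G)) = _
      rw [(QuotientGroup.eq_one_iff (k : G)).mpr k.2, deg_spec]
      simp
    rw [this, classInner_smul_right, classInner_self_of_irr Char.isIrrCharacter_one]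
    simpa using (deg_pos β).ne'
  have hmem := hbij.1 (show β' ∈ _ from ⟨hβ, hβN⟩)
  refine ⟨⟨_, hmem.1⟩, fun g => rfl, ?_⟩
  have h6 : ((deg (⟨_, hmem.1⟩ : IrrCharacter G) : ℕ) : ℂ) = ((deg β * deg χ : ℕ) : ℂ) := by
    rw [← deg_spec]
    show β' 1 * (χ : G → ℂ) 1 = _
    push_cast
    rw [← deg_spec β, ← deg_spec χ]
    rfl
  exact_mod_cast h6

/-- inflation -/
theorem inflate (N : Subgroup G) [N.Normal] (β : IrrCharacter (G ⧸ N)) :
    ∃ ψ : IrrCharacter G, (∀ g, (ψ : G → ℂ) g = (β : G ⧸ N → ℂ) (QuotientGroup.mk g)) ∧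
      deg ψ = deg β := by
  have hβ := isIrrCharacter_inflate N β.2
  refine ⟨⟨_, hβ⟩, fun g => rfl, ?_⟩
  have h6 : ((deg (⟨_, hβ⟩ : IrrCharacter G) : ℕ) : ℂ) = ((deg β : ℕ) : ℂ) := by
    rw [← deg_spec, ← deg_spec]
    rfl
  exact_mod_cast h6

/-- a nonabelian finite group has a nonlinear character -/
theorem exists_nonlinear (h : ¬ ∀ a b : G, a * b = b * a) : ∃ χ : IrrCharacter G, deg χ ≠ 1 := by
  by_contra hcon
  push Not at hcon
  apply h
  apply comm_of_forall_linear
  intro χ
  rw [deg_spec, hcon χ, Nat.cast_one]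

/-- a character extended to its inertia group gives a character of the right degree -/
theorem exists_inertia_deg (L T : Subgroup G) [hL : L.Normal] (θ : IrrCharacter L)
    (hT : T = inertia L (θ : L → ℂ))
    (hLT : L ≤ T) (η : IrrCharacter T)
    (hη : ∀ n : L, (η : T → ℂ) ⟨n, hLT n.2⟩ = (θ : L → ℂ) n) :
    ∃ χ : IrrCharacter G, Over L χ θ ∧ deg χ = T.index * deg θ := by
  classical
  haveI := Fintype.ofFinite G
  haveI := Fintype.ofFinite L
  haveI := Fintype.ofFinite T
  have hres : (fun n : L => (η : T → ℂ) ⟨n, hLT n.2⟩) = (θ : L → ℂ) := funext hη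
  have hne : classInner (fun n : L => (η : T → ℂ) ⟨n, hLT n.2⟩) (θ : L → ℂ) ≠ 0 := by
    rw [hres, classInner_self_of_irr θ.2]
    exact one_ne_zero
  obtain ⟨χ, hχ, hχη⟩ := exists_over T η.2
  obtain ⟨h1, h2⟩ := correspondence_key L T θ.2 hT hLT hχ η.2 hχη hne
  have hη1 : (η : T → ℂ) 1 = deg θ := by
    rw [← deg_spec, ← hη 1]
    rfl
  refine ⟨⟨χ, hχ⟩, ?_, ?_⟩
  · rw [over_iff]
    show classInner (fun n : L => χ n) (θ : L → ℂ) ≠ 0
    rw [← h2]
    exact hne
  have h6 : ((deg (⟨χ, hχ⟩ : IrrCharacter G) : ℕ) : ℂ) = ((T.index * deg θ : ℕ) : ℂ) := by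
    rw [← deg_spec]
    show χ 1 = _
    rw [← h1, Char.indFun_one_apply, hη1]
    push_cast
    rfl
  exact_mod_cast h6

theorem le_inertia' (L : Subgroup G) [hL : L.Normal] (θ : IrrCharacter L) :
    L ≤ inertia L (θ : L → ℂ) := le_inertia L (irr_isClassFunction θ)

/-- characters of normal Hall subgroups -/
theorem hall_inertia_deg (L : Subgroup G) [hL : L.Normal] (hcop : (Nat.card L).Coprime L.index)
    (θ : IrrCharacter L) :
    ∃ χ : IrrCharacter G, Over L χ θ ∧ deg χ = (inertia L (θ : L → ℂ)).index * deg θ := by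
  classical
  haveI := Fintype.ofFinite G
  haveI := Fintype.ofFinite L
  have hLT := le_inertia' L θ
  let T := inertia L (θ : L → ℂ)
  haveI := Fintype.ofFinite T
  let K : Subgroup T := L.subgroupOf T
  haveI : K.Normal := inferInstance
  let e : K ≃* L := Subgroup.subgroupOfEquivOfLe hLT
  have hec : ∀ k : K, ((e k : L) : G) = ((k : T) : G) := fun k => rfl
  let θ' : K → ℂ := (θ : L → ℂ) ∘ e
  have hθ' : IsIrrCharacter K θ' :=
    isIrrCharacter_comp_surjective θ.2 (e : K →* L) e.surjective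
  have hcopK : (Nat.card K).Coprime K.index := by
    have e1 : Nat.card K = Nat.card L := Nat.card_congr e.toEquiv
    have e2 : K.index ∣ L.index := Subgroup.relIndex_dvd_index_of_le hLT
    rw [e1]
    exact Nat.Coprime.coprime_dvd_right e2 hcop
  have hinv : ∀ g : T, Char.cj K g θ' = θ' := by
    intro g
    funext k
    rw [Char.cj_apply]
    have h2 := congrFun (Char.mem_inertia L |>.mp g.2) (e k)
    rw [Char.cj_apply] at h2
    simp only [θ', Function.comp]
    rw [← h2]
    congr 1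
  obtain ⟨η, hη, hηK⟩ := Glaub.exists_extension_of_hall K hcopK hθ' hinv
  refine exists_inertia_deg L T θ rfl hLT ⟨η, hη⟩ ?_
  intro n
  exact hηK ⟨⟨n, hLT n.2⟩, n.2⟩

/-- a `p`-element fixing all irreducible characters of a normal `p'`-subgroup centralises it -/
theorem commute_of_fix {p : ℕ} [hp : Fact p.Prime] (N : Subgroup G) [N.Normal]
    (hN : ¬ p ∣ Nat.card N) {x : G} {j : ℕ} (hx : x ^ p ^ j = 1)
    (hfix : ∀ θ : IrrCharacter N, x ∈ inertia N (θ : N → ℂ)) {n : G} (hn : n ∈ N) :
    x * n = n * x := by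
  classical
  open Subgroup Cfsg.Agent.H67 in
  have := Fintype.ofFinite N
  let α : N ≃* N := MulAut.conjNormal x
  have hα : ∀ y : N, ((α y : N) : G) = x * y * x⁻¹ := fun y => MulAut.conjNormal_apply x y
  have hall : ∀ χ : IrrCharacter N, (χ : N → ℂ) ∘ α = (χ : N → ℂ) := by
    intro χ
    have h1 : x ∈ inertia N (χ : N → ℂ) := hfix χ
    rw [mem_inertia_iff] at h1
    funext y
    have h2 := h1 y
    rw [Function.comp_apply, ← h2]
    congr 1
  have hc := S0173.result (G := N) α
  have hc1 : Nat.card {χ : IrrCharacter N // (χ : N → ℂ) ∘ α = (χ : N → ℂ)} = Nat.card (IrrCharacter N) :=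
    Nat.card_congr (Equiv.subtypeUnivEquiv hall)
  have hc2 := S0173.result (G := N) (MulEquiv.refl N)
  have hc3 : Nat.card {χ : IrrCharacter N // (χ : N → ℂ) ∘ (MulEquiv.refl N) = (χ : N → ℂ)} =
      Nat.card (IrrCharacter N) := Nat.card_congr (Equiv.subtypeUnivEquiv (fun _ => rfl))
  have hc4 : Nat.card {C : ConjClasses N // ConjClasses.map (MulEquiv.refl N).toMonoidHom C = C} =
      Nat.card (ConjClasses N) := by
    apply Nat.card_congr (Equiv.subtypeUnivEquiv ?_)
    intro C
    induction C using Quotient.inductionOn with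
    | h y => rfl
  have hc5 : Nat.card {C : ConjClasses N // ConjClasses.map α.toMonoidHom C = C} = Nat.card (ConjClasses N) := by
    rw [hc, hc1, ← hc3, ← hc2, hc4]
  have hfixC : ∀ C : ConjClasses N, ConjClasses.map α.toMonoidHom C = C := by
    have : Fintype (ConjClasses N) := Fintype.ofFinite _
    by_contra hcon
    push Not at hcon
    obtain ⟨C, hC⟩ := hcon
    have := Finite.card_subtype_lt (p := fun C : ConjClasses N => ConjClasses.map α.toMonoidHom C = C) hC
    omega
  -- powers of α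
  have hαp : (α : MulAut N) ^ p ^ j = 1 := by
    show (MulAut.conjNormal x) ^ p ^ j = 1
    rw [← map_pow, hx, map_one]
  -- the fixed points
  let H : Subgroup N := (Subgroup.centralizer ({x} : Set G)).subgroupOf N
  have hH : H = ⊤ := by
    apply Cfsg.Agent.H67.eq_top_of_conj_cover
    intro y
    let C := ConjClasses.mk y
    have hiff : ∀ z : N, α z ∈ C.carrier ↔ z ∈ C.carrier := by
      intro z
      rw [ConjClasses.mem_carrier_iff_mk_eq, ConjClasses.mem_carrier_iff_mk_eq]
      have h1 : ConjClasses.mk (α z) = ConjClasses.mk z := hfixC (ConjClasses.mk z)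
      rw [h1]
    let σ : Equiv.Perm {z : N // z ∈ C.carrier} := Equiv.Perm.subtypePerm (α.toEquiv : Equiv.Perm N) hiff
    have hσ : σ ^ p ^ j = 1 := by
      rw [Equiv.Perm.subtypePerm_pow]
      apply Equiv.ext
      intro z
      apply Subtype.ext
      have h1 : ∀ (m : ℕ) (w : N), ((α.toEquiv : Equiv.Perm N) ^ m) w = ((α : MulAut N) ^ m) w := by
        intro m
        induction m with
        | zero => intro w; rfl
        | succ m ih => intro w; rw [pow_succ, pow_succ, Equiv.Perm.mul_apply, MulAut.mul_apply, ih]; rfl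
      show ((α.toEquiv : Equiv.Perm N) ^ p ^ j) z.1 = z.1
      rw [h1, hαp]
      rfl
    have hcard : ¬ p ∣ Fintype.card {z : N // z ∈ C.carrier} := by
      intro hdvd
      apply hN
      refine hdvd.trans ?_
      have : Fintype.card {z : N // z ∈ C.carrier} = (Subgroup.centralizer ({y} : Set N)).index := by
        rw [← Nat.card_eq_fintype_card]
        rw [← ncard_carrier_eq_index]
        rfl
      rw [this]
      exact Subgroup.index_dvd_card _
    obtain ⟨z, hz⟩ := Equiv.Perm.exists_fixed_point_of_prime hcard hσ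
    have hz1 : α z.1 = z.1 := congrArg Subtype.val hz
    have hz2 : IsConj y z.1 := by
      have := z.2
      rw [ConjClasses.mem_carrier_iff_mk_eq] at this
      exact (ConjClasses.mk_eq_mk_iff_isConj.mp this).symm
    obtain ⟨c, hc⟩ := isConj_iff.mp hz2
    refine ⟨c, ?_⟩
    rw [hc]
    show (z.1 : G) ∈ Subgroup.centralizer ({x} : Set G)
    rw [Subgroup.mem_centralizer_singleton_iff]
    have h3 := hα z.1
    rw [hz1] at h3
    calc (z.1 : G) * x = (x * (z.1 : G) * x⁻¹) * x := by rw [← h3]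
      _ = x * z.1 := by group
  have h1 : (⟨n, hn⟩ : N) ∈ H := by rw [hH]; exact Subgroup.mem_top _
  have h2 : n ∈ Subgroup.centralizer ({x} : Set G) := h1
  rw [Subgroup.mem_centralizer_singleton_iff] at h2
  exact h2.symm

end Cfsg.Agent.H53.D3
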