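import Cfsg.Agent.H53.D3CaseIIb

/-!
# Two components, no divisibility: character lemmas (owner: helper53)
-/

set_option autoImplicit false
set_option linter.style.haveILetI false
set_option linter.unusedSectionVars false

namespace Cfsg.Agent.H53.D3

open scoped ComplexConjugate BigOperators commutatorElement
open Cfsg Cfsg.Agent.CharBase Cfsg.Agent.Char Cfsg.Agent.H75

universe u

variable {G : Type u} [Group G] [Finite G]

/-- Clifford degree divisibility -/
theorem Over.inertia_dvd {N : Subgroup G} [N.Normal] {χ : IrrCharacter G} {θ : IrrCharacter N}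
    (h : Over N χ θ) : (inertia N (θ : N → ℂ)).index * deg θ ∣ deg χ := by
  classical
  haveI := Fintype.ofFinite G
  haveI := Fintype.ofFinite N
  have h1 := clifford_degree N χ.2 θ.2 ((over_iff N _ _).mp h)
  obtain ⟨e, he⟩ := classInner_natCast (isCharacter_restrict (irr_isCharacter χ) N) (irr_isCharacter θ)
  rw [he, deg_spec, deg_spec] at h1
  refine ⟨e, ?_⟩
  have h2 : ((deg χ : ℕ) : ℂ) = (((inertia N (θ : N → ℂ)).index * deg θ * e : ℕ) : ℂ) := by
    rw [h1]; push_cast; ring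
  exact_mod_cast h2

theorem exists_inertia_deg2 (L T : Subgroup G) [hL : L.Normal] (θ : IrrCharacter L)
    (hT : T = inertia L (θ : L → ℂ)) (hLT : L ≤ T) (η : IrrCharacter T) {m : ℕ} (hm : m ≠ 0)
    (hη : ∀ n : L, (η : T → ℂ) ⟨n, hLT n.2⟩ = (m : ℂ) * (θ : L → ℂ) n) :
    ∃ χ : IrrCharacter G, Over L χ θ ∧ deg χ = T.index * deg η := by
  classical
  haveI := Fintype.ofFinite G
  haveI := Fintype.ofFinite L
  haveI := Fintype.ofFinite T
  have hres : (fun n : L => (η : T → ℂ) ⟨n, hLT n.2⟩) = (m : ℂ) • (θ : L → ℂ) := by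
    funext n
    rw [hη, Pi.smul_apply, smul_eq_mul]
  have hne : classInner (fun n : L => (η : T → ℂ) ⟨n, hLT n.2⟩) (θ : L → ℂ) ≠ 0 := by
    rw [hres, classInner_smul_left, classInner_self_of_irr θ.2, mul_one]
    exact_mod_cast hm
  obtain ⟨χ, hχ, hχη⟩ := exists_over T η.2
  obtain ⟨h1, h2⟩ := correspondence_key L T θ.2 hT hLT hχ η.2 hχη hne
  refine ⟨⟨χ, hχ⟩, ?_, ?_⟩
  · rw [over_iff]
    show classInner (fun n : L => χ n) (θ : L → ℂ) ≠ 0
    rw [← h2]
    exact hne
  have h6 : ((deg (⟨χ, hχ⟩ : IrrCharacter G) : ℕ) : ℂ) = ((T.index * deg η : ℕ) : ℂ) := by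
    rw [← deg_spec]
    show χ 1 = _
    rw [← h1, Char.indFun_one_apply, deg_spec]
    push_cast
    rfl
  exact_mod_cast h6

/-- characters over linear characters of complemented normal subgroups -/
theorem compl_deg2 (V N : Subgroup G) [hV : V.Normal] (h1 : V ⊓ N = ⊥) (h2 : V ⊔ N = ⊤)
    (φ : V →* ℂˣ) (T : Subgroup G) (hT : T = inertia V (linIrr φ : V → ℂ))
    (β : IrrCharacter ↥(N ⊓ T)) :
    ∃ χ : IrrCharacter G, Over V χ (linIrr φ) ∧ deg χ = T.index * deg β := by
  classical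
  have hVT : V ≤ T := by rw [hT]; exact le_inertia' V (linIrr φ)
  have hex : ∀ x : T, ∃ v : V, (v : G)⁻¹ * (x : G) ∈ N := by
    intro x
    have hx : (x : G) ∈ V ⊔ N := by rw [h2]; trivial
    obtain ⟨v, hv, n, hn, hvn⟩ := Subgroup.mem_sup_of_normal_left.mp hx
    refine ⟨⟨v, hv⟩, ?_⟩
    rw [← hvn]
    show v⁻¹ * (v * n) ∈ N
    rw [inv_mul_cancel_left]
    exact hn
  choose π hπ using hex
  have huniq : ∀ (x : T) (w : V), (w : G)⁻¹ * (x : G) ∈ N → π x = w := by
    intro x w hw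
    have h3 : (w : G)⁻¹ * (π x : G) ∈ V ⊓ N := by
      refine ⟨V.mul_mem (V.inv_mem w.2) (π x).2, ?_⟩
      have h4 := N.mul_mem hw (N.inv_mem (hπ x))
      have h5 : (w : G)⁻¹ * (x : G) * ((π x : G)⁻¹ * (x : G))⁻¹ = (w : G)⁻¹ * (π x : G) := by group
      rwa [h5] at h4
    rw [h1, Subgroup.mem_bot, inv_mul_eq_one] at h3
    exact Subtype.ext h3.symm
  have hφT : ∀ (g : G) (hg : g ∈ T) (v : V), φ ⟨g * v * g⁻¹, hV.conj_mem v v.2 g⟩ = φ v := by
    intro g hg v
    rw [hT, mem_inertia_iff] at hg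
    exact Units.ext (hg v)
  have hπmul : ∀ x y : T, π (x * y) = π x * ⟨((π x : G)⁻¹ * (x : G)) * π y * ((π x : G)⁻¹ * (x : G))⁻¹,
      hV.conj_mem _ (π y).2 _⟩ := by
    intro x y
    set n : G := (π x : G)⁻¹ * (x : G) with hn
    have hnN : n ∈ N := hπ x
    apply huniq
    have h4 : ((π x * ⟨n * π y * n⁻¹, hV.conj_mem _ (π y).2 n⟩ : V) : G)⁻¹ * ((x * y : T) : G) =
        n * ((π y : G)⁻¹ * (y : G)) := by
      show ((π x : G) * (n * (π y : G) * n⁻¹))⁻¹ * ((x : G) * (y : G)) = _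
      rw [hn]; group
    rw [h4]
    exact N.mul_mem hnN (hπ y)
  let η : T →* ℂˣ :=
    { toFun := fun x => φ (π x)
      map_one' := by
        have : π 1 = 1 := huniq 1 1 (by simp)
        rw [this, map_one]
      map_mul' := by
        intro x y
        have hnT : (π x : G)⁻¹ * (x : G) ∈ T := T.mul_mem (T.inv_mem (hVT (π x).2)) x.2
        rw [hπmul, map_mul, hφT _ hnT] }
  let ρ : T →* ↥(N ⊓ T) :=
    { toFun := fun x => ⟨(π x : G)⁻¹ * (x : G), hπ x, T.mul_mem (T.inv_mem (hVT (π x).2)) x.2⟩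
      map_one' := by
        have : π 1 = 1 := huniq 1 1 (by simp)
        apply Subtype.ext
        show (π 1 : G)⁻¹ * ((1 : T) : G) = 1
        rw [this]; simp
      map_mul' := by
        intro x y
        apply Subtype.ext
        show (π (x * y) : G)⁻¹ * ((x * y : T) : G) = ((π x : G)⁻¹ * (x : G)) * ((π y : G)⁻¹ * (y : G))
        rw [hπmul]
        show ((π x : G) * (((π x : G)⁻¹ * (x : G)) * π y * ((π x : G)⁻¹ * (x : G))⁻¹))⁻¹ * ((x : G) * (y : G)) = _
        group }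
  have hρs : Function.Surjective ρ := by
    intro n
    refine ⟨⟨n, n.2.2⟩, ?_⟩
    have h3 : π ⟨n, n.2.2⟩ = 1 := huniq _ 1 (by
      show ((1 : V) : G)⁻¹ * (n : G) ∈ N
      simpa using n.2.1)
    apply Subtype.ext
    show (π ⟨n, n.2.2⟩ : G)⁻¹ * (n : G) = n
    rw [h3]; simp
  have hβ' : IsIrrCharacter T ((β : ↥(N ⊓ T) → ℂ) ∘ ρ) := isIrrCharacter_comp_surjective β.2 ρ hρs
  obtain ⟨ψ, hψ, hψd⟩ := exists_lin_mul ⟨_, hβ'⟩ η
  have hβd : deg (⟨_, hβ'⟩ : IrrCharacter T) = deg β := by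
    have h6 : ((deg (⟨_, hβ'⟩ : IrrCharacter T) : ℕ) : ℂ) = ((deg β : ℕ) : ℂ) := by
      rw [← deg_spec, ← deg_spec]
      show (β : ↥(N ⊓ T) → ℂ) (ρ 1) = _
      rw [map_one]
    exact_mod_cast h6
  obtain ⟨χ, hχ, hd⟩ := exists_inertia_deg2 V T (linIrr φ) hT hVT ψ (deg_pos β).ne' (by
    intro n
    have h3 : π ⟨n, hVT n.2⟩ = n := huniq ⟨n, hVT n.2⟩ n (by
      show (n : G)⁻¹ * (n : G) ∈ N
      rw [inv_mul_cancel]
      exact N.one_mem)
    have h4 : ρ ⟨n, hVT n.2⟩ = 1 := by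
      apply Subtype.ext
      show (π ⟨n, hVT n.2⟩ : G)⁻¹ * (n : G) = 1
      rw [h3, inv_mul_cancel]
    rw [hψ, linIrr_apply]
    show ((φ (π ⟨n, hVT n.2⟩) : ℂˣ) : ℂ) * (β : ↥(N ⊓ T) → ℂ) (ρ ⟨n, hVT n.2⟩) = _
    rw [h3, h4, deg_spec, mul_comm])
  exact ⟨χ, hχ, by rw [hd, hψd, hβd]⟩

/-- number of linear characters -/
theorem card_hom {X : Type u} [Group X] [Finite X] : Nat.card (X →* ℂˣ) = (commutator X).index := by
  have e : (Abelianization X →* ℂˣ) ≃ (X →* ℂˣ) :=
    { toFun := fun f => f.comp Abelianization.of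
      invFun := fun f => Abelianization.lift f
      left_inv := by
        intro f
        apply Abelianization.hom_ext
        ext x
        simp
      right_inv := by
        intro f
        ext x
        simp }
  haveI : Finite (Abelianization X) := inferInstanceAs (Finite (X ⧸ commutator X))
  rw [← Nat.card_congr e, CommGroup.card_monoidHom_of_hasEnoughRootsOfUnity]
  rfl

theorem linIrr_surj {X : Type u} [Group X] [Finite X] (χ : IrrCharacter X) (h : deg χ = 1) :
    ∃ φ : X →* ℂˣ, linIrr φ = χ := by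
  have h1 : (χ : X → ℂ) 1 = 1 := by rw [deg_spec, h, Nat.cast_one]
  let f := linHom (irr_isCharacter χ) h1
  refine ⟨f.toHomUnits, ?_⟩
  apply Subtype.ext
  funext x
  rfl

theorem linIrr_inj {X : Type u} [Group X] [Finite X] : Function.Injective (linIrr : (X →* ℂˣ) → IrrCharacter X) := by
  intro a b hab
  ext x
  have := congrArg (fun χ : IrrCharacter X => (χ : X → ℂ) x) hab
  exact this

theorem card_linear_irr {X : Type u} [Group X] [Finite X] :
    Nat.card {χ : IrrCharacter X // deg χ = 1} = (commutator X).index := by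
  rw [← card_hom]
  symm
  refine Nat.card_congr (Equiv.ofBijective (fun φ : X →* ℂˣ => ⟨linIrr φ, deg_linIrr φ⟩) ⟨?_, ?_⟩)
  · intro a b hab
    exact linIrr_inj (congrArg Subtype.val hab)
  · rintro ⟨χ, hχ⟩
    obtain ⟨φ, hφ⟩ := linIrr_surj χ hχ
    exact ⟨φ, Subtype.ext hφ⟩

/-- elements on which all nonlinear characters vanish -/
theorem card_cent_of_vanish {X : Type u} [Group X] [Finite X] (x : X)
    (h : ∀ ψ : IrrCharacter X, deg ψ ≠ 1 → (ψ : X → ℂ) x = 0) :
    Nat.card (Subgroup.centralizer ({x} : Set X)) = (commutator X).index := by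
  classical
  haveI := Fintype.ofFinite (IrrCharacter X)
  have h1 := column_orthogonality_of_isConj (IsConj.refl x)
  have h2 : ∀ χ : IrrCharacter X, (χ : X → ℂ) x * conj ((χ : X → ℂ) x) = if deg χ = 1 then 1 else 0 := by
    intro χ
    split_ifs with hd
    · obtain ⟨φ, rfl⟩ := linIrr_surj χ hd
      rw [linIrr_apply]
      have h3 : (φ x) ^ Nat.card X = 1 := by rw [← map_pow, pow_card_eq_one', map_one]
      have h4 : ((φ x : ℂˣ) : ℂ) ^ Nat.card X = 1 := by
        rw [← Units.val_pow_eq_pow_val, h3, Units.val_one]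
      have h5 : ‖((φ x : ℂˣ) : ℂ)‖ = 1 := Complex.norm_eq_one_of_pow_eq_one h4 Nat.card_pos.ne'
      rw [Complex.mul_conj, Complex.normSq_eq_norm_sq, h5]
      simp
    · rw [h χ hd, zero_mul]
  simp only [h2] at h1
  rw [Finset.sum_boole] at h1
  have h3 : (Finset.univ.filter (fun χ : IrrCharacter X => deg χ = 1)).card = (commutator X).index := by
    rw [← card_linear_irr, Nat.card_eq_fintype_card, Fintype.card_subtype]
  rw [h3] at h1
  exact_mod_cast h1.symm

end Cfsg.Agent.H53.D3
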