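import Cfsg.Agent.H53.D3Solv

/-!
# Three character degrees: a nonabelian p-quotient (owner: helper53)
-/

set_option autoImplicit false
set_option linter.style.haveILetI false
set_option linter.unusedSectionVars false

namespace Cfsg.Agent.H53.D3

open scoped ComplexConjugate BigOperators commutatorElement
open Cfsg Cfsg.Agent.CharBase Cfsg.Agent.Char Cfsg.Agent.H75

universe u

variable {G : Type u} [Group G] [Finite G]

/-- a purely group theoretic step -/
theorem grpB (N : Subgroup G) [hN : N.Normal] (hcop : (Nat.card N).Coprime N.index)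
    (h1 : ∀ a ∈ commutator G, ∀ b ∈ commutator G, a * b * a⁻¹ * b⁻¹ ∈ N)
    (h2 : ∀ x ∈ commutator G, ∀ n ∈ N, x * n * x⁻¹ * n⁻¹ ∈ ⁅N, N⁆)
    (h3 : ∀ a ∈ ⁅N, N⁆, ∀ b ∈ ⁅N, N⁆, a * b = b * a) : derivedSeries G 3 = ⊥ := by
  have hD1 : derivedSeries G 1 = commutator G := derivedSeries_one G
  have key : derivedSeries G 2 ≤ ⁅N, N⁆ := by
    rw [derivedSeries_succ, hD1, Subgroup.commutator_le]
    intro a ha b hb
    rw [← QuotientGroup.eq_one_iff]
    set c : G := ⁅a, b⁆ with hc
    have hcN : c ∈ N := h1 a ha b hb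
    have hcomm : ∀ x ∈ commutator G, ∀ n ∈ N, (x : G ⧸ ⁅N, N⁆) * n = n * x := by
      intro x hx n hn
      have h4 := (QuotientGroup.eq_one_iff (N := ⁅N, N⁆) _).mpr (h2 x hx n hn)
      rw [QuotientGroup.mk_mul, QuotientGroup.mk_mul, QuotientGroup.mk_mul, QuotientGroup.mk_inv,
        QuotientGroup.mk_inv, mul_inv_eq_one, mul_inv_eq_iff_eq_mul] at h4
      exact h4
    have hab : (a : G ⧸ ⁅N, N⁆) * b = c * (b * a) := by
      rw [← QuotientGroup.mk_mul, ← QuotientGroup.mk_mul, ← QuotientGroup.mk_mul]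
      congr 1
      rw [hc, commutatorElement_def]; group
    have hac := hcomm a ha c hcN
    have hpow : ∀ i : ℕ, (a : G ⧸ ⁅N, N⁆) ^ i * b = c ^ i * (b * (a : G ⧸ ⁅N, N⁆) ^ i) := by
      intro i
      induction i with
      | zero => simp
      | succ i ih =>
        have h5 : (a : G ⧸ ⁅N, N⁆) * (c : G ⧸ ⁅N, N⁆) ^ i = (c : G ⧸ ⁅N, N⁆) ^ i * a := by
          have : Commute (a : G ⧸ ⁅N, N⁆) c := hac
          exact (this.pow_right i).eq
        calc (a : G ⧸ ⁅N, N⁆) ^ (i + 1) * b = a * ((a : G ⧸ ⁅N, N⁆) ^ i * b) := by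
              rw [pow_succ', mul_assoc]
          _ = (a * (c : G ⧸ ⁅N, N⁆) ^ i) * (b * (a : G ⧸ ⁅N, N⁆) ^ i) := by rw [ih, mul_assoc]
          _ = (c : G ⧸ ⁅N, N⁆) ^ i * ((a * b) * (a : G ⧸ ⁅N, N⁆) ^ i) := by
              rw [h5]; simp only [mul_assoc]
          _ = (c : G ⧸ ⁅N, N⁆) ^ (i + 1) * (b * (a : G ⧸ ⁅N, N⁆) ^ (i + 1)) := by
              rw [hab, pow_succ, pow_succ']; simp only [mul_assoc]
    have h6 : a ^ N.index ∈ N := Subgroup.pow_index_mem N a
    have h7 := hpow N.index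
    have h8 := hcomm b hb _ h6
    rw [QuotientGroup.mk_pow] at h8
    rw [h8] at h7
    have h9 : (c : G ⧸ ⁅N, N⁆) ^ N.index = 1 := by
      have := h7
      rw [eq_comm, mul_eq_right] at this
      exact this
    have h10 : (c : G ⧸ ⁅N, N⁆) ^ Nat.card N = 1 := by
      rw [← QuotientGroup.mk_pow]
      have : c ^ Nat.card N = 1 := by
        have h11 : (⟨c, hcN⟩ : N) ^ Nat.card N = 1 := pow_card_eq_one'
        exact congrArg Subtype.val h11
      rw [this, QuotientGroup.mk_one]
    have h11 := (pow_gcd_eq_one (a := (c : G ⧸ ⁅N, N⁆))).mpr ⟨h10, h9⟩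
    rw [hcop, pow_one] at h11
    exact h11
  rw [derivedSeries_succ, eq_bot_iff, Subgroup.commutator_le]
  intro a ha b hb
  rw [Subgroup.mem_bot, commutatorElement_eq_one_iff_mul_comm]
  exact h3 a (key ha) b (key hb)

/-- invariance under all linear characters -/
theorem mem_comm_of_lin (N : Subgroup G) [hN : N.Normal] {x : G}
    (hx : ∀ l : IrrCharacter N, deg l = 1 → x ∈ inertia N (l : N → ℂ)) {n : G} (hn : n ∈ N) :
    x * n * x⁻¹ * n⁻¹ ∈ ⁅N, N⁆ := by
  have hmem : x * n * x⁻¹ * n⁻¹ ∈ N := N.mul_mem (hN.conj_mem n hn x) (N.inv_mem hn)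
  by_contra hcon
  have h1 : (⟨_, hmem⟩ : N) ∉ commutator N := by
    intro h
    apply hcon
    rw [← Subgroup.map_subtype_commutator]
    exact ⟨_, h, rfl⟩
  obtain ⟨μ, hμc, hμ1, hμ⟩ := TwoDeg.exists_linear_ne h1
  have hμi := linChar_isIrr hμc hμ1
  have hd : deg (⟨μ, hμi⟩ : IrrCharacter N) = 1 := by
    have := deg_spec (⟨μ, hμi⟩ : IrrCharacter N)
    change μ 1 = _ at this
    rw [hμ1] at this
    exact_mod_cast this.symm
  have h2 := hx ⟨μ, hμi⟩ hd
  rw [mem_inertia_iff] at h2
  have h3 := h2 ⟨n, hn⟩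
  change μ ⟨x * n * x⁻¹, _⟩ = μ ⟨n, hn⟩ at h3
  apply hμ
  have h4 : (⟨_, hmem⟩ : N) = ⟨x * n * x⁻¹, hN.conj_mem n hn x⟩ * (⟨n, hn⟩ : N)⁻¹ := rfl
  rw [h4, Char.linChar_mul hμc hμ1, h3, ← Char.linChar_mul hμc hμ1, mul_inv_cancel, hμ1]

/-- inertia groups of `p`-power index -/
theorem comm_le_of_index (N T : Subgroup G) [N.Normal] (hNT : N ≤ T) {f : ℕ} (h : T.index = f)
    (hcd : ∀ γ : IrrCharacter (G ⧸ N), deg γ = 1 ∨ deg γ = f) : commutator G ≤ T := by
  classical
  haveI := Fintype.ofFinite (G ⧸ N)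
  let U : Subgroup (G ⧸ N) := T.map (QuotientGroup.mk' N)
  have hU : U.index = f := by
    rw [← h]
    exact Subgroup.index_map_eq T (QuotientGroup.mk'_surjective N)
      (by rw [QuotientGroup.ker_mk']; exact hNT)
  rw [commutator_def, Subgroup.commutator_le]
  intro a _ b _
  have h1 := TwoDeg.comm_mem_of_induced f hcd U hU (QuotientGroup.mk' N a) (QuotientGroup.mk' N b)
  rw [← map_mul, ← map_inv, ← map_mul, ← map_inv, ← map_mul] at h1
  obtain ⟨t, ht, hta⟩ := h1
  have h2 : t⁻¹ * (a * b * a⁻¹ * b⁻¹) ∈ N := by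
    rw [← QuotientGroup.eq]
    exact hta
  have h3 : a * b * a⁻¹ * b⁻¹ ∈ T := by
    have := T.mul_mem ht (hNT h2)
    rwa [mul_inv_cancel_left] at this
  exact h3

/-- **Case I** -/
theorem caseI (hs : Group.IsSolvable G) (f g : ℕ)
    (hcd : ∀ χ : IrrCharacter G, deg χ = 1 ∨ deg χ = f ∨ deg χ = g) (K : Subgroup G) [hK : K.Normal]
    (hKc : ¬ commutator G ≤ K) {p : ℕ} (hp : p.Prime) (hKp : IsPGroup p (G ⧸ K)) :
    derivedSeries G 3 = ⊥ := by
  classical
  haveI : Fact p.Prime := ⟨hp⟩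
  obtain ⟨β, hβ⟩ := exists_nonlinear_quot K hKc
  obtain ⟨φ, -, hφ⟩ := inflate K β
  obtain ⟨k, hk⟩ := card_eq_pow hp hKp
  rw [← Subgroup.index_eq_card] at hk
  have h1 := deg_quot_dvd K β
  rw [hk] at h1
  obtain ⟨e, -, he⟩ := (Nat.dvd_prime_pow hp).mp h1
  have he0 : e ≠ 0 := by
    rintro rfl
    exact hβ (by rw [he, pow_zero])
  wlog hf : f = p ^ e generalizing f g
  · refine this g f (fun χ => by rcases hcd χ with h | h | h <;> tauto) ?_
    rcases hcd φ with h | h | h
    · exact absurd (hφ.symm.trans h) hβ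
    · exact absurd (h.symm.trans (hφ.trans he)) hf
    · exact h.symm.trans (hφ.trans he)
  have hf1 : 1 < f := by rw [hf]; exact Nat.one_lt_pow he0 hp.one_lt
  -- all nonlinear degrees are divisible by p
  have hall : ∀ χ : IrrCharacter G, deg χ ≠ 1 → p ∣ deg χ := by
    intro χ hχ
    by_contra hpd
    have h2 : (deg χ).Coprime K.index := by
      rw [hk]
      exact Nat.Coprime.pow_right k ((Nat.Prime.coprime_iff_not_dvd hp).mpr hpd).symm
    obtain ⟨ψ, -, hψ⟩ := gallagher_mul K χ (restrict_irr χ h2) β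
    have h3 : deg χ = g := by
      rcases hcd χ with h | h | h
      · exact absurd h hχ
      · exfalso
        apply hpd
        rw [h, hf]
        exact dvd_pow_self p he0
      · exact h
    have hg : 0 < g := by rw [← h3]; exact deg_pos χ
    rw [he, ← hf, h3] at hψ
    rcases hcd ψ with h | h | h
    · rw [h] at hψ
      have := Nat.eq_one_of_mul_eq_one_right hψ.symm
      omega
    · rw [h] at hψ
      have h4 : g = 1 := by
        have h5 : f * 1 = f * g := by rw [mul_one]; exact hψ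
        exact (Nat.eq_of_mul_eq_mul_left (by omega) h5).symm
      exact hχ (h3.trans h4)
    · rw [h] at hψ
      have h5 : 1 * g = f * g := by rw [one_mul]; exact hψ
      have := Nat.eq_of_mul_eq_mul_right hg h5
      omega
  obtain ⟨N, hN, hNp, k', hk'⟩ := S4456.result (G := G) p hp (fun χ hχ => by
    rw [charDegree_eq_deg] at hχ ⊢
    exact hall χ hχ)
  haveI := hN
  have hcop : (Nat.card N).Coprime N.index := by
    rw [hk']; exact Nat.Coprime.pow_right k' hNp
  have hGN : IsPGroup p (G ⧸ N) := by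
    rw [IsPGroup.iff_card]
    exact ⟨k', by rw [← Subgroup.index_eq_card]; exact hk'⟩
  by_cases hA : ∀ χ : IrrCharacter G, (Nat.card N).Coprime (deg χ)
  · haveI := Fintype.ofFinite G
    refine taketa_three (fun χ => monomial_of_abelian_hall N
      (TwoDeg.comm_of_coprime_degrees N hA) hcop hGN.isNilpotent χ) f g hcd
  · push Not at hA
    obtain ⟨χ₀, hχ₀⟩ := hA
    have hNf : (Nat.card N).Coprime f := by rw [hf]; exact Nat.Coprime.pow_right e hNp
    have hgN : ¬ (Nat.card N).Coprime g := by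
      rcases hcd χ₀ with h | h | h
      · rw [h] at hχ₀; exact absurd (Nat.coprime_one_right _) hχ₀
      · rw [h] at hχ₀; exact absurd hNf hχ₀
      · rw [h] at hχ₀; exact hχ₀
    have hg0 : g ≠ 0 := by
      rcases hcd χ₀ with h | h | h
      · rw [h] at hχ₀; exact absurd (Nat.coprime_one_right _) hχ₀
      · rw [h] at hχ₀; exact absurd hNf hχ₀
      · rw [← h]; exact (deg_pos χ₀).ne'
    -- p-power degrees are 1 or f
    have hpp : ∀ χ : IrrCharacter G, ∀ i, deg χ ∣ p ^ i → deg χ = 1 ∨ deg χ = f := by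
      intro χ i hi
      rcases hcd χ with h | h | h
      · exact Or.inl h
      · exact Or.inr h
      · exfalso
        apply hgN
        rw [h] at hi
        exact Nat.Coprime.coprime_dvd_right hi (Nat.Coprime.pow_right i hNp)
    -- degrees of N
    have hcdN : ∀ θ : IrrCharacter N, deg θ = 1 ∨ deg θ = ordCompl[p] g := by
      intro θ
      obtain ⟨χ, hχ⟩ := exists_above N θ
      obtain ⟨m, hm, hmi⟩ := hχ.deg_dvd
      rw [hk'] at hmi
      have hθp : (deg θ).Coprime p := Nat.Coprime.coprime_dvd_left (deg_dvd θ) hNp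
      have hcase : deg χ ∣ f → deg θ = 1 := by
        intro h
        apply Nat.dvd_one.mp
        have h2 : (deg θ).Coprime f := by rw [hf]; exact Nat.Coprime.pow_right e hθp
        rw [← h2]
        exact Nat.dvd_gcd dvd_rfl (hχ.dvd.trans h)
      rcases hcd χ with h | h | h
      · left; exact hcase (by rw [h]; exact one_dvd _)
      · left; exact hcase (by rw [h])
      · right
        rw [h] at hm
        obtain ⟨i, -, hi⟩ := (Nat.dvd_prime_pow hp).mp hmi
        have hnd : ¬ p ∣ deg θ := by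
          intro h5
          have h6 := Nat.dvd_gcd h5 (dvd_refl p)
          rw [hθp] at h6
          exact hp.one_lt.ne' (Nat.dvd_one.mp h6)
        rw [hm, hi, mul_comm, Nat.ordCompl_pow_mul_of_not_dvd i hp hnd]
    have hN2 := two_deg_comm (G := N) _ hcdN
    -- degrees of G/N
    have hcdQ : ∀ γ : IrrCharacter (G ⧸ N), deg γ = 1 ∨ deg γ = f := by
      intro γ
      obtain ⟨ψ, -, hψ⟩ := inflate N γ
      have h5 := deg_quot_dvd N γ
      rw [hk', ← hψ] at h5
      rw [← hψ]
      exact hpp ψ k' h5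
    have hQ2 := two_deg_comm (G := G ⧸ N) _ hcdQ
    -- linear characters of N
    have hlin : ∀ l : IrrCharacter N, deg l = 1 → ∀ x ∈ commutator G, x ∈ inertia N (l : N → ℂ) := by
      intro l hl
      obtain ⟨χ, -, hχ⟩ := hall_inertia_deg N hcop l
      rw [hl, mul_one] at hχ
      have hle := le_inertia' N l
      have h5 : (inertia N (l : N → ℂ)).index ∣ p ^ k' := by
        rw [← hk']; exact Subgroup.index_dvd_of_le hle
      have h6 := hpp χ k' (by rw [hχ]; exact h5)
      rw [hχ] at h6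
      have h7 : commutator G ≤ inertia N (l : N → ℂ) := by
        rcases h6 with h6 | h6
        · rw [Subgroup.index_eq_one.mp h6]; exact le_top
        · exact comm_le_of_index N _ hle h6 hcdQ
      exact h7
    refine grpB N hcop ?_ ?_ ?_
    · intro a ha b hb
      have hmapc : ∀ x ∈ commutator G, (QuotientGroup.mk' N) x ∈ commutator (G ⧸ N) := by
        intro x hx
        have hcomm : (commutator G).map (QuotientGroup.mk' N) = commutator (G ⧸ N) := by
          rw [commutator_def, commutator_def, Subgroup.map_commutator,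
            Subgroup.map_top_of_surjective _ (QuotientGroup.mk'_surjective N)]
        rw [← hcomm]
        exact ⟨x, hx, rfl⟩
      have h5 := hQ2 _ (hmapc a ha) _ (hmapc b hb)
      rw [← QuotientGroup.eq_one_iff]
      have h6 : (QuotientGroup.mk' N) (a * b * a⁻¹ * b⁻¹) = 1 := by
        rw [map_mul, map_mul, map_mul, map_inv, map_inv, h5]; group
      exact h6
    · intro x hx n hn
      exact mem_comm_of_lin N (fun l hl => hlin l hl x hx) hn
    · intro a ha b hb
      rw [← Subgroup.map_subtype_commutator] at ha hb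
      obtain ⟨a', ha', rfl⟩ := ha
      obtain ⟨b', hb', rfl⟩ := hb
      rw [← map_mul, ← map_mul, hN2 a' ha' b' hb']

end Cfsg.Agent.H53.D3
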