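import Cfsg.Agent.H53.D3CaseI

/-!
# Three character degrees: Frobenius quotients (owner: helper53)
-/

set_option autoImplicit false
set_option linter.style.haveILetI false
set_option linter.unusedSectionVars false

namespace Cfsg.Agent.H53.D3

open scoped ComplexConjugate BigOperators commutatorElement
open Cfsg Cfsg.Agent.CharBase Cfsg.Agent.Char Cfsg.Agent.H75

universe u

variable {G : Type u} [Group G] [Finite G]

theorem grpC {L : Type u} [Group L] [Finite L] {p : ℕ} (hp : p.Prime) (Q : Subgroup L)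
    [hQ : Q.Normal] (hQp : ¬ p ∣ Nat.card Q) {k : ℕ} (hk : Q.index = p ^ k)
    (h1 : ∀ a ∈ commutator L, ∀ b ∈ commutator L, a * b * a⁻¹ * b⁻¹ ∈ Q)
    (h2 : ∀ x ∈ commutator L, (∃ j, x ^ p ^ j = 1) → ∀ n ∈ Q, x * n = n * x)
    (h3 : ∀ a ∈ commutator L ⊓ Q, ∀ b ∈ commutator L ⊓ Q, a * b = b * a) :
    ∀ a ∈ commutator L, ∀ b ∈ commutator L, a * b = b * a := by
  have hcop : (Nat.card Q).Coprime (p ^ k) :=
    Nat.Coprime.pow_right k ((Nat.Prime.coprime_iff_not_dvd hp).mpr hQp).symm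
  obtain ⟨s, r, hsr⟩ : ∃ s r : ℤ, s * (Nat.card Q : ℤ) + r * ((p ^ k : ℕ) : ℤ) = 1 :=
    Nat.isCoprime_iff_coprime.mpr hcop
  have hdec : ∀ a ∈ commutator L, ∃ u ∈ commutator L, ∃ v ∈ commutator L ⊓ Q,
      a = u * v ∧ u ^ p ^ k = 1 := by
    intro a ha
    have hak : a ^ p ^ k ∈ Q := by rw [← hk]; exact Subgroup.pow_index_mem Q a
    have hakn : (a ^ p ^ k) ^ Nat.card Q = 1 := by
      have h11 : (⟨_, hak⟩ : Q) ^ Nat.card Q = 1 := pow_card_eq_one'
      exact congrArg Subtype.val h11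
    refine ⟨(a ^ Nat.card Q) ^ s, Subgroup.zpow_mem _ (Subgroup.pow_mem _ ha _) _,
      (a ^ p ^ k) ^ r, ⟨Subgroup.zpow_mem _ (Subgroup.pow_mem _ ha _) _,
        Subgroup.zpow_mem _ hak _⟩, ?_, ?_⟩
    · rw [← zpow_natCast, ← zpow_natCast, ← zpow_mul, ← zpow_mul, ← zpow_add]
      rw [mul_comm (Nat.card Q : ℤ), mul_comm ((p ^ k : ℕ) : ℤ), hsr, zpow_one]
    · rw [← zpow_natCast, ← zpow_mul, mul_comm s, zpow_mul, zpow_natCast, ← pow_mul, mul_comm,
        pow_mul, hakn, one_zpow]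
  intro a ha b hb
  obtain ⟨u, hu, v, hv, rfl, huk⟩ := hdec a ha
  obtain ⟨u', hu', v', hv', rfl, hu'k⟩ := hdec b hb
  have c1 : Commute u v' := h2 u hu ⟨k, huk⟩ v' hv'.2
  have c2 : Commute u' v := h2 u' hu' ⟨k, hu'k⟩ v hv.2
  have c3 : Commute v v' := h3 v hv v' hv'
  have c4 : Commute u u' := by
    set z := u * u' * u⁻¹ * u'⁻¹ with hz
    have hzQ : z ∈ Q := h1 u hu u' hu'
    have c5 : Commute u z := h2 u hu ⟨k, huk⟩ z hzQ
    have h4 : u * u' = z * (u' * u) := by rw [hz]; group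
    have hpow : ∀ i : ℕ, u ^ i * u' = z ^ i * (u' * u ^ i) := by
      intro i
      induction i with
      | zero => simp
      | succ i ih =>
        calc u ^ (i + 1) * u' = u * (u ^ i * u') := by rw [pow_succ', mul_assoc]
          _ = (u * z ^ i) * (u' * u ^ i) := by rw [ih, mul_assoc]
          _ = z ^ i * ((u * u') * u ^ i) := by rw [(c5.pow_right i).eq]; simp only [mul_assoc]
          _ = z ^ (i + 1) * (u' * u ^ (i + 1)) := by
              rw [h4, pow_succ, pow_succ']; simp only [mul_assoc]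
    have h5 := hpow (p ^ k)
    rw [huk, one_mul, mul_one, eq_comm, mul_eq_right] at h5
    have h6 : z ^ Nat.card Q = 1 := by
      have h11 : (⟨_, hzQ⟩ : Q) ^ Nat.card Q = 1 := pow_card_eq_one'
      exact congrArg Subtype.val h11
    have h7 := (pow_gcd_eq_one (a := z)).mpr ⟨h6, h5⟩
    rw [hcop, pow_one, hz] at h7
    rw [mul_inv_eq_one, mul_inv_eq_iff_eq_mul] at h7
    exact h7
  have c6 : Commute (u * v) (u' * v') :=
    (c4.mul_right c1).mul_left (c2.symm.mul_right c3)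
  exact c6

/-- homomorphisms separating points modulo the commutator subgroup -/
theorem exists_hom_ne {H : Type u} [Group H] [Finite H] {x : H} (hx : x ∉ commutator H) :
    ∃ φ : H →* ℂˣ, φ x ≠ 1 := by
  have h1 : (Abelianization.of x) ≠ 1 := by
    intro h
    apply hx
    exact (QuotientGroup.eq_one_iff x).mp h
  haveI : Finite (Abelianization H) := inferInstanceAs (Finite (H ⧸ commutator H))
  obtain ⟨φ, hφ⟩ := CommGroup.exists_apply_ne_one_of_hasEnoughRootsOfUnity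
    (Abelianization H) ℂ h1
  exact ⟨φ.comp Abelianization.of, hφ⟩

/-- the irreducible character of a homomorphism -/
noncomputable def linIrr {H : Type u} [Group H] [Finite H] (φ : H →* ℂˣ) : IrrCharacter H :=
  ⟨fun x => (φ x : ℂ), linChar_isIrr (isCharacter_of_hom ((Units.coeHom ℂ).comp φ)) (by simp)⟩

theorem linIrr_apply {H : Type u} [Group H] [Finite H] (φ : H →* ℂˣ) (x : H) :
    (linIrr φ : H → ℂ) x = (φ x : ℂ) := rfl

theorem deg_linIrr {H : Type u} [Group H] [Finite H] (φ : H →* ℂˣ) : deg (linIrr φ) = 1 := by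
  have := deg_spec (linIrr φ)
  rw [linIrr_apply, map_one, Units.val_one] at this
  exact_mod_cast this.symm

/-- fixed points of a coprime group when all invariant linear characters are trivial -/
theorem mem_comm_of_inv (H S : Subgroup G) [hH : H.Normal]
    (hcop : (Nat.card S).Coprime (Nat.card H))
    (hinv : ∀ φ : H →* ℂˣ, (∀ s ∈ S, s ∈ inertia H (linIrr φ : H → ℂ)) → ∀ x, φ x = 1)
    {x : G} (hx : x ∈ H) (hxS : ∀ s ∈ S, s * x = x * s) : x ∈ ⁅H, H⁆ := by
  classical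
  haveI := Fintype.ofFinite S
  by_contra hcon
  have h1 : (⟨x, hx⟩ : H) ∉ commutator H := by
    intro h
    apply hcon
    rw [← Subgroup.map_subtype_commutator]
    exact ⟨_, h, rfl⟩
  obtain ⟨φ, hφ⟩ := exists_hom_ne h1
  let c : S → (H →* H) := fun s => ((MulAut.conjNormal (s : G) : H ≃* H) : H →* H)
  let Λ : H →* ℂˣ := ∏ s : S, φ.comp (c s)
  have hΛ : ∀ y, Λ y = ∏ s : S, φ (c s y) := by
    intro y
    show (∏ s : S, φ.comp (c s)) y = _
    rw [MonoidHom.finsetProd_apply]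
    rfl
  have h2 := hinv Λ (by
    intro s hs
    rw [mem_inertia_iff]
    intro n
    rw [linIrr_apply, linIrr_apply, hΛ, hΛ]
    congr 1
    refine Fintype.prod_equiv (Equiv.mulRight (⟨s, hs⟩ : S)) _ _ ?_
    intro s'
    congr 1
    apply Subtype.ext
    show (s' : G) * (s * n * s⁻¹) * (s' : G)⁻¹ = ((s' : G) * s) * n * ((s' : G) * s)⁻¹
    group) ⟨x, hx⟩
  rw [hΛ] at h2
  have h3 : ∀ s : S, c s ⟨x, hx⟩ = ⟨x, hx⟩ := by
    intro s
    apply Subtype.ext
    show (s : G) * x * (s : G)⁻¹ = x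
    rw [hxS s s.2, mul_inv_cancel_right]
  simp only [h3, Finset.prod_const, Finset.card_univ] at h2
  have h4 : (φ ⟨x, hx⟩) ^ Nat.card S = 1 := by rw [Nat.card_eq_fintype_card]; exact h2
  have h5 : (φ ⟨x, hx⟩) ^ Nat.card H = 1 := by
    rw [← map_pow, pow_card_eq_one', map_one]
  have h6 := (pow_gcd_eq_one (a := φ ⟨x, hx⟩)).mpr ⟨h4, h5⟩
  rw [hcop, pow_one] at h6
  exact hφ h6

/-- linear characters of complemented normal subgroups -/
theorem compl_deg (V N : Subgroup G) [hV : V.Normal] (h1 : V ⊓ N = ⊥) (h2 : V ⊔ N = ⊤)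
    (φ : V →* ℂˣ) : ∃ χ : IrrCharacter G, Over V χ (linIrr φ) ∧
      deg χ = (inertia V (linIrr φ : V → ℂ)).index := by
  classical
  set T := inertia V (linIrr φ : V → ℂ) with hT
  have hVT : V ≤ T := le_inertia' V (linIrr φ)
  have hex : ∀ x : T, ∃ v : V, (v : G)⁻¹ * (x : G) ∈ N := by
    intro x
    have hx : (x : G) ∈ V ⊔ N := by rw [h2]; trivial
    obtain ⟨v, hv, n, hn, hvn⟩ := Subgroup.mem_sup_of_normal_left.mp hx
    refine ⟨⟨v, hv⟩, ?_⟩
    rw [← hvn]
    show v⁻¹ * (v * n) ∈ N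
    rw [inv_mul_cancel_left]
    exact hn
  choose π hπ using hex
  have huniq : ∀ (x : T) (w : V), (w : G)⁻¹ * (x : G) ∈ N → π x = w := by
    intro x w hw
    have h3 : (w : G)⁻¹ * (π x : G) ∈ V ⊓ N := by
      refine ⟨V.mul_mem (V.inv_mem w.2) (π x).2, ?_⟩
      have h4 := N.mul_mem hw (N.inv_mem (hπ x))
      have h5 : (w : G)⁻¹ * (x : G) * ((π x : G)⁻¹ * (x : G))⁻¹ = (w : G)⁻¹ * (π x : G) := by group
      rwa [h5] at h4
    rw [h1, Subgroup.mem_bot, inv_mul_eq_one] at h3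
    exact Subtype.ext h3.symm
  have hφT : ∀ (g : G) (hg : g ∈ T) (v : V), φ ⟨g * v * g⁻¹, hV.conj_mem v v.2 g⟩ = φ v := by
    intro g hg v
    rw [hT, mem_inertia_iff] at hg
    exact Units.ext (hg v)
  let η : T →* ℂˣ :=
    { toFun := fun x => φ (π x)
      map_one' := by
        have : π 1 = 1 := huniq 1 1 (by simp)
        rw [this, map_one]
      map_mul' := by
        intro x y
        set n : G := (π x : G)⁻¹ * (x : G) with hn
        have hnN : n ∈ N := hπ x
        have hnT : n ∈ T := T.mul_mem (T.inv_mem (hVT (π x).2)) x.2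
        have h3 : π (x * y) = π x * ⟨n * π y * n⁻¹, hV.conj_mem _ (π y).2 n⟩ := by
          apply huniq
          have h4 : ((π x * ⟨n * π y * n⁻¹, hV.conj_mem _ (π y).2 n⟩ : V) : G)⁻¹ * ((x * y : T) : G) =
              n * ((π y : G)⁻¹ * (y : G)) := by
            show ((π x : G) * (n * (π y : G) * n⁻¹))⁻¹ * ((x : G) * (y : G)) = _
            rw [hn]; group
          rw [h4]
          exact N.mul_mem hnN (hπ y)
        rw [h3, map_mul, hφT n hnT] }
  obtain ⟨χ, hχ, hd⟩ := exists_inertia_deg V T (linIrr φ) hT hVT (linIrr η) (by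
    intro n
    rw [linIrr_apply, linIrr_apply]
    show ((φ (π ⟨n, hVT n.2⟩) : ℂˣ) : ℂ) = _
    rw [huniq ⟨n, hVT n.2⟩ n (by
      show (n : G)⁻¹ * (n : G) ∈ N
      rw [inv_mul_cancel]
      exact N.one_mem)])
  exact ⟨χ, hχ, by rw [hd, deg_linIrr, mul_one]⟩

/-- nontrivial linear characters fixed by a `t`-group -/
theorem exists_fixed_lin (V : Subgroup G) [hV : V.Normal] (hab : ∀ a ∈ V, ∀ b ∈ V, a * b = b * a)
    {t : ℕ} (ht : t.Prime) (htV : t ∣ Nat.card V) (T : Subgroup G) (hT : IsPGroup t T) :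
    ∃ φ : V →* ℂˣ, φ ≠ 1 ∧ T ≤ inertia V (linIrr φ : V → ℂ) := by
  classical
  haveI : Fact t.Prime := ⟨ht⟩
  letI : MulAction T (TwoDeg.Dual V) :=
    MulAction.compHom _ ((TwoDeg.dualAct V).comp T.subtype)
  have hsm : ∀ (s : T) (f : TwoDeg.Dual V), s • f = TwoDeg.dualAct V (s : G) f := fun s f => rfl
  haveI : Finite (TwoDeg.Dual V) := by
    apply Nat.finite_of_card_ne_zero
    rw [TwoDeg.card_dual V hab]
    exact Nat.card_pos.ne'
  obtain ⟨b, hb, hne⟩ := hT.exists_fixed_point_of_prime_dvd_card_of_fixed_point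
    (TwoDeg.Dual V) (by rw [TwoDeg.card_dual V hab]; exact htV) (a := 1) (by
      intro s
      rw [hsm, map_one])
  refine ⟨b.hom, fun h => hne (by
    apply TwoDeg.Dual.ext'
    intro l
    rw [h]
    rfl), ?_⟩
  intro s hs
  rw [mem_inertia_iff]
  intro n
  rw [linIrr_apply, linIrr_apply]
  have h1 := hb (⟨s, hs⟩⁻¹ : T)
  rw [hsm] at h1
  have h2 : (TwoDeg.dualAct V ((⟨s, hs⟩⁻¹ : T) : G) b).hom n = b.hom n := by rw [h1]
  rw [TwoDeg.dualAct_apply] at h2
  rw [← h2]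
  congr 3
  simp

theorem norm_le_deg {H : Type u} [Group H] [Finite H] (ψ : IrrCharacter H) (x : H) :
    ‖(ψ : H → ℂ) x‖ ≤ (deg ψ : ℝ) := by
  obtain ⟨n, hn, h3⟩ := norm_le_of_isCharacter (irr_isCharacter ψ) x
  rw [deg_spec] at hn
  have : deg ψ = n := by exact_mod_cast hn
  rw [this]
  exact h3

/-- constituents of the restriction inherit the kernel -/
theorem Over.kills {N : Subgroup G} {χ : IrrCharacter G} {θ : IrrCharacter N} (h : Over N χ θ)
    {x : N} (hx : (χ : G → ℂ) x = (χ : G → ℂ) 1) : (θ : N → ℂ) x = (θ : N → ℂ) 1 := by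
  classical
  haveI := Fintype.ofFinite N
  haveI := Fintype.ofFinite (IrrCharacter N)
  obtain ⟨m, hm, hsum⟩ := exists_mult_of_isCharacter (isCharacter_restrict (irr_isCharacter χ) N)
  have h1 := congrFun hsum x
  have h2 := congrFun hsum 1
  have hle : ∀ ψ : IrrCharacter N, ((ψ : N → ℂ) x).re ≤ (deg ψ : ℝ) := by
    intro ψ
    exact (Complex.re_le_norm _).trans (norm_le_deg ψ x)
  have h4 : ∑ ψ : IrrCharacter N, (m ψ : ℝ) * ((deg ψ : ℝ) - ((ψ : N → ℂ) x).re) = 0 := by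
    have h5 : (χ : G → ℂ) x = ∑ ψ : IrrCharacter N, (m ψ : ℂ) * (ψ : N → ℂ) x := by
      refine h1.trans ?_
      simp [Finset.sum_apply]
    have h6 : (χ : G → ℂ) 1 = ∑ ψ : IrrCharacter N, (m ψ : ℂ) * (deg ψ : ℂ) := by
      refine Eq.trans ?_ (h2.trans ?_)
      · rfl
      · simp [Finset.sum_apply, deg_spec]
    have h7 : ((χ : G → ℂ) 1 - (χ : G → ℂ) x).re = 0 := by rw [hx]; simp
    rw [h5, h6, ← Finset.sum_sub_distrib, Complex.re_sum] at h7
    rw [← h7]
    refine Finset.sum_congr rfl (fun ψ _ => ?_)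
    rw [← mul_sub]
    simp
  have h8 := (Finset.sum_eq_zero_iff_of_nonneg (fun ψ _ => mul_nonneg (Nat.cast_nonneg (m ψ))
    (sub_nonneg.mpr (hle ψ)))).mp h4 θ (Finset.mem_univ _)
  have h9 : m θ ≠ 0 := by
    intro h0
    have h10 := (over_iff N χ θ).mp h
    apply h10
    have := hm θ
    rw [h0, Nat.cast_zero] at this
    exact this
  have h11 : ((θ : N → ℂ) x).re = deg θ := by
    rcases mul_eq_zero.mp h8 with h12 | h12
    · exact absurd (by exact_mod_cast h12) h9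
    · linarith
  have h14 : ‖(θ : N → ℂ) x‖ ≤ (deg θ : ℝ) := norm_le_deg θ x
  have h15 : ((θ : N → ℂ) x).im = 0 := by
    have h16 := Complex.sq_norm ((θ : N → ℂ) x)
    rw [Complex.normSq_apply, h11] at h16
    have h17 : ‖(θ : N → ℂ) x‖ ^ 2 ≤ (deg θ : ℝ) ^ 2 :=
      pow_le_pow_left₀ (norm_nonneg _) h14 2
    nlinarith [sq_nonneg ((θ : N → ℂ) x).im]
  rw [deg_spec]
  exact Complex.ext (by rw [h11]; simp) (by rw [h15]; simp)

/-- an irreducible character with full kernel is linear -/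
theorem deg_eq_one_of_forall {H : Type u} [Group H] [Finite H] (θ : IrrCharacter H)
    (h : ∀ x, (θ : H → ℂ) x = (θ : H → ℂ) 1) : deg θ = 1 := by
  haveI := Fintype.ofFinite H
  have h1 := classInner_self_of_irr θ.2
  unfold classInner at h1
  have hne : (Nat.card H : ℂ) ≠ 0 := by exact_mod_cast Nat.card_pos.ne'
  rw [inv_mul_eq_one₀ hne] at h1
  simp only [h, deg_spec] at h1
  rw [Finset.sum_const, Finset.card_univ, ← Nat.card_eq_fintype_card, nsmul_eq_mul] at h1
  have h2 : (1 : ℂ) = (deg θ : ℂ) * (deg θ : ℂ) := by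
    have h3 : (Nat.card H : ℂ) * 1 = (Nat.card H : ℂ) * ((deg θ : ℂ) * (deg θ : ℂ)) := by
      rw [mul_one]
      refine h1.trans ?_
      simp
    exact mul_left_cancel₀ hne h3
  have h3 : 1 = deg θ * deg θ := by exact_mod_cast h2
  exact Nat.eq_one_of_mul_eq_one_right h3.symm

/-- normal Hall subgroups are characteristic -/
theorem hall_char {L : Type u} [Group L] [Finite L] (Q : Subgroup L) [Q.Normal]
    (hcop : (Nat.card Q).Coprime Q.index) : Q.Characteristic := by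
  rw [Subgroup.characteristic_iff_map_le]
  intro φ
  rintro _ ⟨x, hx, rfl⟩
  have h1 : x ^ Nat.card Q = 1 := by
    have h11 : (⟨x, hx⟩ : Q) ^ Nat.card Q = 1 := pow_card_eq_one'
    exact congrArg Subtype.val h11
  show φ x ∈ Q
  rw [← QuotientGroup.eq_one_iff]
  have h2 : ((φ x : L) : L ⧸ Q) ^ Nat.card Q = 1 := by
    rw [← QuotientGroup.mk_pow, ← map_pow, h1, map_one, QuotientGroup.mk_one]
  have h3 : ((φ x : L) : L ⧸ Q) ^ Q.index = 1 := by
    rw [Subgroup.index_eq_card]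
    exact pow_card_eq_one'
  have h4 := (pow_gcd_eq_one (a := ((φ x : L) : L ⧸ Q))).mpr ⟨h2, h3⟩
  rwa [hcop, pow_one] at h4

end Cfsg.Agent.H53.D3
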