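import Cfsg.Agent.H53.D3CaseII

/-!
# Three character degrees: Frobenius quotients, the p'-part (owner: helper53)
-/

set_option autoImplicit false
set_option linter.style.haveILetI false
set_option linter.unusedSectionVars false

namespace Cfsg.Agent.H53.D3

open scoped ComplexConjugate BigOperators commutatorElement
open Cfsg Cfsg.Agent.CharBase Cfsg.Agent.Char Cfsg.Agent.H75

universe u

variable {G : Type u} [Group G] [Finite G]

theorem sylow_le_of_index {p : ℕ} [hp : Fact p.Prime] (L : Subgroup G) [L.Normal]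
    (hpL : ¬ p ∣ L.index) (S : Sylow p G) : (S : Subgroup G) ≤ L := by
  intro x hx
  obtain ⟨j, hj⟩ := S.isPGroup' ⟨x, hx⟩
  have h1 : x ^ p ^ j = 1 := congrArg Subtype.val hj
  rw [← QuotientGroup.eq_one_iff]
  have h2 : ((x : G) : G ⧸ L) ^ p ^ j = 1 := by
    rw [← QuotientGroup.mk_pow, h1, QuotientGroup.mk_one]
  have h3 : ((x : G) : G ⧸ L) ^ L.index = 1 := by
    rw [Subgroup.index_eq_card]
    exact pow_card_eq_one'
  have h4 := (pow_gcd_eq_one (a := ((x : G) : G ⧸ L))).mpr ⟨h2, h3⟩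
  have h5 : (p ^ j).Coprime L.index :=
    Nat.Coprime.pow_left j ((Nat.Prime.coprime_iff_not_dvd hp.out).mpr hpL)
  rwa [h5, pow_one] at h4

theorem caseII_H (hs : Group.IsSolvable G) (L Q : Subgroup G) [hL : L.Normal] [hQ : Q.Normal]
    {p : ℕ} (hp : p.Prime) (hpL : ¬ p ∣ L.index) (hQL : Q ≤ L) (hQp : ¬ p ∣ Nat.card Q)
    {k : ℕ} (hk : Q.relIndex L = p ^ k) (g : ℕ) (hpg : p ∣ g)
    (hkill : ∀ χ : IrrCharacter G, deg χ ≠ g → ∀ x ∈ ⁅L, L⁆, (χ : G → ℂ) x = (χ : G → ℂ) 1) :
    ∀ a ∈ ⁅L, L⁆ ⊓ Q, ∀ b ∈ ⁅L, L⁆ ⊓ Q, a * b = b * a := by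
  classical
  haveI : Fact p.Prime := ⟨hp⟩
  set H := ⁅L, L⁆ ⊓ Q with hH
  haveI hHn : H.Normal := inferInstance
  have hHL : H ≤ ⁅L, L⁆ := inf_le_left
  obtain ⟨S⟩ : Nonempty (Sylow p G) := inferInstance
  have hSL : (S : Subgroup G) ≤ L := sylow_le_of_index L hpL S
  have hSi : ¬ p ∣ (S : Subgroup G).index := S.not_dvd_index
  have hHp : ¬ p ∣ Nat.card H := fun h => hQp (h.trans (Subgroup.card_dvd_of_le inf_le_right))
  have hScop : (Nat.card S).Coprime (Nat.card H) := by
    obtain ⟨n, hn⟩ := (IsPGroup.iff_card (p := p)).mp S.isPGroup'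
    rw [hn]
    exact Nat.Coprime.pow_left n ((Nat.Prime.coprime_iff_not_dvd hp).mpr hHp)
  have hLQS : L ≤ Q ⊔ (S : Subgroup G) := by
    rw [← Subgroup.relIndex_eq_one]
    have h1 : (Q ⊔ (S : Subgroup G)).relIndex L ∣ p ^ k := by
      rw [← hk]; exact Subgroup.relIndex_dvd_of_le_left L le_sup_left
    have h2 : (Q ⊔ (S : Subgroup G)).relIndex L ∣ (S : Subgroup G).relIndex L :=
      Subgroup.relIndex_dvd_of_le_left L le_sup_right
    have h3 : ¬ p ∣ (S : Subgroup G).relIndex L := by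
      intro h
      apply hSi
      rw [← Subgroup.relIndex_mul_index hSL]
      exact h.mul_right _
    obtain ⟨i, -, hi⟩ := (Nat.dvd_prime_pow hp).mp h1
    rcases Nat.eq_zero_or_pos i with h0 | h0
    · rw [hi, h0, pow_zero]
    · exfalso
      apply h3
      refine dvd_trans ?_ h2
      rw [hi]
      exact dvd_pow_self p h0.ne'
  have hFL := Sylow.normalizer_sup_eq_top' S hSL
  set M := H ⊔ (S : Subgroup G) with hM
  have hSM : (S : Subgroup G) ≤ M := le_sup_right
  have hHM : H ≤ M := le_sup_left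
  have key : ∀ x : G, (∀ s ∈ (S : Subgroup G), x * s * x⁻¹ ∈ M) → ∀ m ∈ M, x * m * x⁻¹ ∈ M := by
    intro x hx m hm
    have h1 : M ≤ M.comap (MulAut.conj x).toMonoidHom := by
      rw [hM]
      refine sup_le ?_ ?_
      · intro h hh
        exact hHM (hHn.conj_mem h hh x)
      · intro s hs'
        exact hx s hs'
    exact h1 hm
  have hMn : M.Normal := by
    constructor
    intro m hm x
    have hx : x ∈ Subgroup.normalizer (S : Set G) ⊔ L := by
      rw [hFL]; trivial
    obtain ⟨n, hn, l, hl, rfl⟩ := Subgroup.mem_sup_of_normal_right.mp hx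
    obtain ⟨q, hq, s, hs', rfl⟩ := Subgroup.mem_sup_of_normal_left.mp (hLQS hl)
    have h1 : s * m * s⁻¹ ∈ M := M.mul_mem (M.mul_mem (hSM hs') hm) (M.inv_mem (hSM hs'))
    have h2 : q * (s * m * s⁻¹) * q⁻¹ ∈ M := by
      refine key q ?_ _ h1
      intro s₁ hs₁
      have h3 : q * s₁ * q⁻¹ = (q * s₁ * q⁻¹ * s₁⁻¹) * s₁ := by group
      rw [h3]
      refine M.mul_mem (hHM ⟨?_, ?_⟩) (hSM hs₁)
      · exact Subgroup.commutator_mem_commutator (hQL hq) (hSL hs₁)
      · have h4 : q * s₁ * q⁻¹ * s₁⁻¹ = q * (s₁ * q⁻¹ * s₁⁻¹) := by group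
        rw [h4]
        exact Q.mul_mem hq (hQ.conj_mem _ (Q.inv_mem hq) s₁)
    have h5 : n * (q * (s * m * s⁻¹) * q⁻¹) * n⁻¹ ∈ M := by
      refine key n ?_ _ h2
      intro s₁ hs₁
      exact hSM ((Subgroup.mem_normalizer_iff.mp hn s₁).mp hs₁)
    have h6 : n * (q * s) * m * (n * (q * s))⁻¹ = n * (q * (s * m * s⁻¹) * q⁻¹) * n⁻¹ := by group
    rw [h6]
    exact h5
  have hMi : ¬ p ∣ M.index := by
    intro h
    apply hSi
    rw [← Subgroup.relIndex_mul_index hSM]
    exact h.mul_left _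
  -- invariant linear characters
  have hinv : ∀ φ : H →* ℂˣ, (∀ s ∈ (S : Subgroup G), s ∈ inertia H (linIrr φ : H → ℂ)) →
      ∀ x, φ x = 1 := by
    intro φ hφ
    let H1 : Subgroup M := H.subgroupOf M
    haveI : H1.Normal := inferInstance
    let e : H1 ≃* H := Subgroup.subgroupOfEquivOfLe hHM
    let φ1 : H1 →* ℂˣ := φ.comp (e : H1 →* H)
    have hcop1 : (Nat.card H1).Coprime H1.index := by
      have e1 : Nat.card H1 = Nat.card H := Nat.card_congr e.toEquiv
      have e2 : H1.index = H.relIndex (S : Subgroup G) := Subgroup.relIndex_sup_left _ _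
      rw [e1, e2]
      exact Nat.Coprime.coprime_dvd_right (Subgroup.relIndex_dvd_card _ _) hScop.symm
    obtain ⟨χ1, hχ1, hd1⟩ := hall_inertia_deg H1 hcop1 (linIrr φ1)
    have hin : inertia H1 (linIrr φ1 : H1 → ℂ) = ⊤ := by
      rw [eq_top_iff]
      intro x _
      have hx : (x : G) ∈ inertia H (linIrr φ : H → ℂ) := by
        have h1 : M ≤ inertia H (linIrr φ : H → ℂ) := sup_le (le_inertia' H _) hφ
        exact h1 x.2
      rw [mem_inertia_iff] at hx ⊢
      intro n
      exact hx (e n)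
    rw [hin, Subgroup.index_top, one_mul, deg_linIrr] at hd1
    obtain ⟨χ, hχ⟩ := exists_above M χ1
    obtain ⟨m, hm, hmi⟩ := hχ.deg_dvd
    rw [hd1, one_mul] at hm
    have hχg : deg χ ≠ g := by
      intro h
      apply hMi
      refine dvd_trans ?_ hmi
      rw [← hm, h]
      exact hpg
    intro x
    have h1 := hkill χ hχg x (hHL x.2)
    have h2 : (χ1 : M → ℂ) ⟨x, hHM x.2⟩ = (χ1 : M → ℂ) 1 := hχ.kills (x := ⟨x, hHM x.2⟩) h1
    have h3 : (linIrr φ1 : H1 → ℂ) (e.symm x) = (linIrr φ1 : H1 → ℂ) 1 := by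
      apply hχ1.kills
      exact h2
    rw [linIrr_apply, linIrr_apply, map_one] at h3
    have h4 : φ1 (e.symm x) = 1 := Units.ext h3
    have h5 : φ1 (e.symm x) = φ x := by
      show φ (e (e.symm x)) = φ x
      rw [MulEquiv.apply_symm_apply]
    rw [← h5, h4]
  have hCH : ∀ x ∈ H, (∀ s ∈ (S : Subgroup G), s * x = x * s) → x ∈ ⁅H, H⁆ :=
    fun x hx hxS => mem_comm_of_inv H S hScop hinv hx hxS
  have hFM := Sylow.normalizer_sup_eq_top' S hSM
  have hSH : (S : Subgroup G) ⊓ H = ⊥ := by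
    rw [eq_bot_iff]
    intro x hx
    have h1 : x ^ Nat.card S = 1 := by
      have h11 : (⟨x, hx.1⟩ : (S : Subgroup G)) ^ Nat.card S = 1 := pow_card_eq_one'
      exact congrArg Subtype.val h11
    have h2 : x ^ Nat.card H = 1 := by
      have h11 : (⟨x, hx.2⟩ : H) ^ Nat.card H = 1 := pow_card_eq_one'
      exact congrArg Subtype.val h11
    have h4 := (pow_gcd_eq_one (a := x)).mpr ⟨h1, h2⟩
    rwa [hScop, pow_one] at h4
  -- the quotient by H'
  haveI hDn : ⁅H, H⁆.Normal := inferInstance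
  have hDH : ⁅H, H⁆ ≤ H := Subgroup.commutator_le_right H H
  let π : G →* G ⧸ ⁅H, H⁆ := QuotientGroup.mk' ⁅H, H⁆
  have hπs : Function.Surjective π := QuotientGroup.mk'_surjective _
  have hπk : π.ker = ⁅H, H⁆ := QuotientGroup.ker_mk' _
  set V := H.map π with hV
  haveI hVn : V.Normal := hHn.map π hπs
  set N := (Subgroup.normalizer (S : Set G)).map π with hN
  have hVN : V ⊓ N = ⊥ := by
    rw [eq_bot_iff]
    rintro x ⟨⟨h, hh, rfl⟩, ⟨n, hn, hnh⟩⟩
    have h1 : h⁻¹ * n ∈ ⁅H, H⁆ := by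
      rw [← hπk, MonoidHom.mem_ker, map_mul, hnh, map_inv, inv_mul_cancel]
    have h2 : n ∈ H := by
      have := H.mul_mem hh (hDH h1)
      rwa [mul_inv_cancel_left] at this
    have h3 : n ∈ ⁅H, H⁆ := by
      apply hCH n h2
      intro s hs'
      have h4 : n * s * n⁻¹ * s⁻¹ ∈ (S : Subgroup G) ⊓ H := by
        refine ⟨(S : Subgroup G).mul_mem ((Subgroup.mem_normalizer_iff.mp hn s).mp hs')
          ((S : Subgroup G).inv_mem hs'), ?_⟩
        have h5 : n * s * n⁻¹ * s⁻¹ = n * (s * n⁻¹ * s⁻¹) := by group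
        rw [h5]
        exact H.mul_mem h2 (hHn.conj_mem _ (H.inv_mem h2) s)
      rw [hSH, Subgroup.mem_bot, mul_inv_eq_one, mul_inv_eq_iff_eq_mul] at h4
      exact h4.symm
    rw [Subgroup.mem_bot, ← hnh, ← MonoidHom.mem_ker, hπk]
    exact h3
  have hVNt : V ⊔ N = ⊤ := by
    rw [hV, hN, ← Subgroup.map_sup, ← Subgroup.map_top_of_surjective π hπs]
    congr 1
    rw [eq_top_iff, ← hFM]
    refine sup_le le_sup_right (sup_le le_sup_left ?_)
    exact le_trans Subgroup.le_normalizer le_sup_right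
  have hVab : ∀ a ∈ V, ∀ b ∈ V, a * b = b * a := by
    rintro _ ⟨a, ha, rfl⟩ _ ⟨b, hb, rfl⟩
    have h1 : ⁅a, b⁆ ∈ ⁅H, H⁆ := Subgroup.commutator_mem_commutator ha hb
    rw [← hπk, MonoidHom.mem_ker, map_commutatorElement, commutatorElement_eq_one_iff_mul_comm] at h1
    exact h1
  have hVcard : Nat.card V = (commutator H).index := by
    rw [hV, ← Subgroup.relIndex_ker, hπk, ← Subgroup.map_subtype_commutator]
    rw [Subgroup.relIndex, Subgroup.subgroupOf, Subgroup.comap_map_eq_self_of_injective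
      H.subtype_injective]
  -- primes
  have hprime : ∀ t : ℕ, t.Prime → t ∣ Nat.card V → ¬ t ∣ g := by
    intro t ht htV htg
    haveI : Fact t.Prime := ⟨ht⟩
    obtain ⟨T⟩ : Nonempty (Sylow t (G ⧸ ⁅H, H⁆)) := inferInstance
    obtain ⟨φ, hφ1, hφT⟩ := exists_fixed_lin V hVab ht htV T T.isPGroup'
    obtain ⟨χ', hχ', hd'⟩ := compl_deg V N hVN hVNt φ
    have h1 : ¬ t ∣ deg χ' := by
      rw [hd']
      intro h
      apply T.not_dvd_index
      exact h.trans (Subgroup.index_dvd_of_le hφT)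
    obtain ⟨χ, hχ, hd⟩ := inflate ⁅H, H⁆ χ'
    have h2 : deg χ ≠ g := by
      intro h
      rw [← hd, h] at h1
      exact h1 htg
    apply hφ1
    refine MonoidHom.ext fun v => ?_
    obtain ⟨h, hh, hhv⟩ := v.2
    have h3 := hkill χ h2 h (hHL hh)
    rw [hχ, hχ] at h3
    have h4 : (χ' : G ⧸ ⁅H, H⁆ → ℂ) (v : G ⧸ ⁅H, H⁆) = (χ' : G ⧸ ⁅H, H⁆ → ℂ) 1 := by
      rw [← hhv]; exact h3
    have h5 := hχ'.kills h4
    rw [linIrr_apply, linIrr_apply, map_one] at h5
    exact Units.ext h5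
  -- H is abelian
  by_contra hcon
  have hna : ¬ ∀ a b : H, a * b = b * a := by
    intro h
    apply hcon
    intro a ha b hb
    exact congrArg Subtype.val (h ⟨a, ha⟩ ⟨b, hb⟩)
  haveI : Group.IsSolvable H := inferInstance
  obtain ⟨η, t, ht, hη1, htη, htH⟩ := D3.exists_gcd hna
  obtain ⟨χ, hχ⟩ := exists_above H η
  have hχg : deg χ = g := by
    by_contra h
    apply hη1
    apply deg_eq_one_of_forall
    intro x
    exact hχ.kills (hkill χ h x (hHL x.2))
  rw [← hVcard] at htH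
  apply hprime t ht htH
  rw [← hχg]
  exact htη.trans hχ.dvd

/-- **Case II** -/
theorem caseII (hs : Group.IsSolvable G) (f g : ℕ)
    (hcd : ∀ χ : IrrCharacter G, deg χ = 1 ∨ deg χ = f ∨ deg χ = g) {K L : Subgroup G} {p : ℕ}
    (hF : Frob G K L p) : derivedSeries G 3 = ⊥ := by
  classical
  haveI := hF.hL
  haveI := hF.hK
  have hp := hF.hp
  haveI : Fact p.Prime := ⟨hp⟩
  have hL1 : L.index ≠ 1 := fun h => hF.hLtop (Subgroup.index_eq_one.mp h)
  have hL0 : L.index ≠ 0 := Subgroup.index_ne_zero_of_finite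
  obtain ⟨χ0, hχ0⟩ := hF.deg (oneIrr L) (by
    have : deg (oneIrr L) = 1 := by
      have := deg_spec (oneIrr L)
      rw [oneIrr_apply] at this
      exact_mod_cast this.symm
    rw [this]
    intro h
    exact hp.one_lt.ne' (Nat.dvd_one.mp h))
  have hone : deg (oneIrr L) = 1 := by
    have := deg_spec (oneIrr L)
    rw [oneIrr_apply] at this
    exact_mod_cast this.symm
  rw [hone, mul_one] at hχ0
  wlog hf : f = L.index generalizing f g
  · refine this g f (fun χ => by rcases hcd χ with h | h | h <;> tauto) ?_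
    rcases hcd χ0 with h | h | h
    · exact absurd (hχ0.symm.trans h) hL1
    · exact absurd (h.symm.trans hχ0) hf
    · exact h.symm.trans hχ0
  -- it suffices that the commutator subgroup of `L` is abelian
  suffices hab : ∀ a ∈ commutator L, ∀ b ∈ commutator L, a * b = b * a by
    have hD1 : derivedSeries G 1 = commutator G := derivedSeries_one G
    have hD2 : derivedSeries G 2 ≤ ⁅L, L⁆ := by
      rw [derivedSeries_succ, hD1]
      exact Subgroup.commutator_mono hF.hcomm hF.hcomm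
    rw [derivedSeries_succ, eq_bot_iff, Subgroup.commutator_le]
    intro a ha b hb
    rw [Subgroup.mem_bot, commutatorElement_eq_one_iff_mul_comm]
    have ha' := hD2 ha
    have hb' := hD2 hb
    rw [← Subgroup.map_subtype_commutator] at ha' hb'
    obtain ⟨a', ha', rfl⟩ := ha'
    obtain ⟨b', hb', rfl⟩ := hb'
    rw [← map_mul, ← map_mul, hab a' ha' b' hb']
  have hψ : ∀ ψ : IrrCharacter L, ¬ p ∣ deg ψ → deg ψ = 1 ∨ f * deg ψ = g := by
    intro ψ hψ
    obtain ⟨χ, hχ⟩ := hF.deg ψ hψ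
    rw [← hf] at hχ
    rcases hcd χ with h | h | h
    · exfalso
      rw [h] at hχ
      exact hL1 (hf ▸ Nat.eq_one_of_mul_eq_one_right hχ.symm)
    · left
      rw [h] at hχ
      have h5 : f * 1 = f * deg ψ := by rw [mul_one]; exact hχ
      exact (Nat.eq_of_mul_eq_mul_left (Nat.pos_of_ne_zero (hf ▸ hL0)) h5).symm
    · right
      rw [← hχ, h]
  have hpf : ¬ p ∣ f := by rw [hf]; exact hF.hpi
  by_cases hpg : p ∣ g
  · -- the main case
    have hψ1 : ∀ ψ : IrrCharacter L, ¬ p ∣ deg ψ → deg ψ = 1 := by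
      intro ψ h
      rcases hψ ψ h with h1 | h1
      · exact h1
      · exfalso
        rw [← h1] at hpg
        rcases (Nat.Prime.dvd_mul hp).mp hpg with h2 | h2
        · exact hpf h2
        · exact h h2
    have hover : ∀ (ψ : IrrCharacter L) (χ : IrrCharacter G), deg ψ ≠ 1 → Over L χ ψ →
        deg χ = g := by
      intro ψ χ h1 h2
      have h3 : p ∣ deg ψ := by
        by_contra h
        exact h1 (hψ1 ψ h)
      have h4 : p ∣ deg χ := h3.trans h2.dvd
      rcases hcd χ with h | h | h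
      · exfalso
        rw [h] at h4
        exact hp.one_lt.ne' (Nat.dvd_one.mp h4)
      · exfalso
        rw [h] at h4
        exact hpf h4
      · exact h
    have hkill : ∀ χ : IrrCharacter G, deg χ ≠ g →
        ∀ x ∈ ⁅L, L⁆, (χ : G → ℂ) x = (χ : G → ℂ) 1 := by
      intro χ hχ
      apply kills_of_linear
      intro ψ hψo
      by_contra h
      exact hχ (hover ψ χ h hψo)
    have hord : ∀ ψ : IrrCharacter L, deg ψ ≠ 1 → ordProj[p] (deg ψ) = ordProj[p] g := by
      intro ψ h1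
      obtain ⟨χ, hχ⟩ := exists_above L ψ
      obtain ⟨m, hm, hmi⟩ := hχ.deg_dvd
      rw [hover ψ χ h1 hχ] at hm
      have hm0 : m ≠ 0 := by
        rintro rfl
        exact hL0 (Nat.eq_zero_of_zero_dvd hmi)
      have hpm : ¬ p ∣ m := fun h => hF.hpi (h.trans hmi)
      rw [hm, Nat.ordProj_mul p (deg_pos ψ).ne' hm0, Nat.factorization_eq_zero_of_not_dvd hpm,
        pow_zero, mul_one]
    obtain ⟨Q0, hQ0, hQp, k, hk⟩ := S4456.result (G := L) p hp (fun ψ hψ' => by
      rw [charDegree_eq_deg] at hψ' ⊢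
      by_contra h
      exact hψ' (hψ1 ψ h))
    haveI := hQ0
    have hQp' : ¬ p ∣ Nat.card Q0 := by
      intro h
      have := Nat.dvd_gcd h (dvd_refl p)
      rw [hQp] at this
      exact hp.one_lt.ne' (Nat.dvd_one.mp this)
    have hcop : (Nat.card Q0).Coprime Q0.index := by
      rw [hk]; exact Nat.Coprime.pow_right k hQp
    haveI : Q0.Characteristic := hall_char Q0 hcop
    have hcdQ : ∀ γ : IrrCharacter (L ⧸ Q0), deg γ = 1 ∨ deg γ = ordProj[p] g := by
      intro γ
      obtain ⟨ψ, -, hd⟩ := inflate Q0 γ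
      have h5 := deg_quot_dvd Q0 γ
      rw [hk] at h5
      obtain ⟨i, -, hi⟩ := (Nat.dvd_prime_pow hp).mp h5
      by_cases h1 : deg γ = 1
      · exact Or.inl h1
      · right
        rw [← hord ψ (by rw [hd]; exact h1), hd, hi, hp.factorization_pow, Finsupp.single_eq_same]
    have hin : ∀ ζ : IrrCharacter Q0, commutator L ≤ inertia Q0 (ζ : Q0 → ℂ) := by
      intro ζ
      obtain ⟨ψ, -, hd⟩ := hall_inertia_deg Q0 hcop ζ
      have hle := le_inertia' Q0 ζ
      have h5 : (inertia Q0 (ζ : Q0 → ℂ)).index ∣ p ^ k := by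
        rw [← hk]; exact Subgroup.index_dvd_of_le hle
      obtain ⟨i, -, hi⟩ := (Nat.dvd_prime_pow hp).mp h5
      have hζp : ¬ p ∣ deg ζ := fun h => hQp' (h.trans (deg_dvd ζ))
      by_cases h1 : deg ψ = 1
      · rw [h1] at hd
        rw [Subgroup.index_eq_one.mp (Nat.eq_one_of_mul_eq_one_right hd.symm)]
        exact le_top
      · refine comm_le_of_index Q0 _ hle (f := ordProj[p] g) ?_ hcdQ
        rw [← hord ψ h1, hd, hi, Nat.ordProj_mul p (pow_ne_zero _ hp.ne_zero) (deg_pos ζ).ne',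
          Nat.factorization_eq_zero_of_not_dvd hζp, pow_zero, mul_one, hp.factorization_pow,
          Finsupp.single_eq_same]
    have hQ2 := two_deg_comm (G := L ⧸ Q0) _ hcdQ
    let Q : Subgroup G := Q0.map L.subtype
    haveI : Q.Normal := inferInstance
    have hHab := caseII_H hs L Q hp hF.hpi (Subgroup.map_subtype_le Q0)
      (by
        have : Nat.card Q = Nat.card Q0 := Subgroup.card_map_of_injective L.subtype_injective
        rw [this]; exact hQp')
      (k := k) (by
        rw [← hk, Subgroup.relIndex, Subgroup.subgroupOf,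
          Subgroup.comap_map_eq_self_of_injective L.subtype_injective]) g hpg hkill
    refine grpC hp Q0 hQp' hk ?_ ?_ ?_
    · intro a ha b hb
      have hmapc : ∀ x ∈ commutator L, (QuotientGroup.mk' Q0) x ∈ commutator (L ⧸ Q0) := by
        intro x hx
        have hcomm : (commutator L).map (QuotientGroup.mk' Q0) = commutator (L ⧸ Q0) := by
          rw [commutator_def, commutator_def, Subgroup.map_commutator,
            Subgroup.map_top_of_surjective _ (QuotientGroup.mk'_surjective Q0)]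
        rw [← hcomm]
        exact ⟨x, hx, rfl⟩
      have h5 := hQ2 _ (hmapc a ha) _ (hmapc b hb)
      rw [← QuotientGroup.eq_one_iff]
      have h6 : (QuotientGroup.mk' Q0) (a * b * a⁻¹ * b⁻¹) = 1 := by
        rw [map_mul, map_mul, map_mul, map_inv, map_inv, h5]; group
      exact h6
    · rintro x hx ⟨j, hj⟩ n hn
      exact commute_of_fix Q0 hQp' hj (fun θ => hin θ hx) hn
    · rintro a ⟨ha, haQ⟩ b ⟨hb, hbQ⟩
      apply L.subtype_injective
      rw [map_mul, map_mul]
      refine hHab _ ⟨?_, ⟨a, haQ, rfl⟩⟩ _ ⟨?_, ⟨b, hbQ, rfl⟩⟩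
      · rw [← Subgroup.map_subtype_commutator]; exact ⟨a, ha, rfl⟩
      · rw [← Subgroup.map_subtype_commutator]; exact ⟨b, hb, rfl⟩
  · apply two_deg_comm (G := L) (g / f)
    intro ψ
    obtain ⟨χ, hχ⟩ := exists_above L ψ
    have h1 : ¬ p ∣ deg ψ := by
      intro h
      have h2 := h.trans hχ.dvd
      rcases hcd χ with h3 | h3 | h3
      · rw [h3] at h2
        exact hp.one_lt.ne' (Nat.dvd_one.mp h2)
      · rw [h3] at h2
        exact hpf h2
      · rw [h3] at h2
        exact hpg h2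
    rcases hψ ψ h1 with h2 | h2
    · exact Or.inl h2
    · right
      rw [← h2, Nat.mul_div_cancel_left _ (Nat.pos_of_ne_zero (hf ▸ hL0))]

/-- solvable groups with at most three character degrees -/
theorem solvable_three (hs : Group.IsSolvable G) (f g : ℕ)
    (hcd : ∀ χ : IrrCharacter G, deg χ = 1 ∨ deg χ = f ∨ deg χ = g) : derivedSeries G 3 = ⊥ := by
  classical
  by_cases h0 : commutator G ≤ ⊥
  · have hD1 : derivedSeries G 1 = ⊥ := by rw [derivedSeries_one]; exact le_bot_iff.mp h0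
    have hD2 : derivedSeries G 2 = ⊥ := by
      rw [derivedSeries_succ, hD1, Subgroup.commutator_bot_left]
    rw [derivedSeries_succ, hD2, Subgroup.commutator_bot_left]
  · obtain ⟨K, hK, -, hKc, p, hp, h | ⟨L, hL⟩⟩ := exists_min_quot (⊥ : Subgroup G) h0
    · exact caseI hs f g hcd K hKc hp h
    · exact caseII hs f g hcd hL

end Cfsg.Agent.H53.D3
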