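import Cfsg.Agent.H53.D3Min

/-!
# Degrees over Frobenius quotients (owner: helper53)
-/

set_option autoImplicit false
set_option linter.style.haveILetI false
set_option linter.unusedSectionVars false

namespace Cfsg.Agent.H53.D3

open scoped ComplexConjugate BigOperators commutatorElement
open Cfsg Cfsg.Agent.CharBase Cfsg.Agent.Char Cfsg.Agent.H75

universe u

/-- a linear character fixing an irreducible character of degree prime to its order is trivial -/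
theorem lin_eq_one {X : Type u} [Group X] [Finite X] (ψ : IrrCharacter X) (ν : X →* ℂˣ)
    (hidx : (deg ψ).Coprime ν.ker.index) (h : ∀ x, (ν x : ℂ) * (ψ : X → ℂ) x = (ψ : X → ℂ) x)
    (x : X) : ν x = 1 := by
  classical
  haveI := Fintype.ofFinite X
  haveI := Fintype.ofFinite ν.ker
  have h1 := restrict_irr (N := ν.ker) ψ hidx
  have h2 := classInner_self_of_irr h1
  have h3 := classInner_self_of_irr ψ.2
  unfold classInner at h2 h3
  have hG : (Nat.card X : ℂ) ≠ 0 := by exact_mod_cast Nat.card_pos.ne'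
  have hNc : (Nat.card ν.ker : ℂ) ≠ 0 := by exact_mod_cast Nat.card_pos.ne'
  rw [inv_mul_eq_one₀ hNc] at h2
  rw [inv_mul_eq_one₀ hG] at h3
  have h4 : ∑ n : ν.ker, (ψ : X → ℂ) n * conj ((ψ : X → ℂ) n) =
      ∑ g : X, if g ∈ ν.ker then (ψ : X → ℂ) g * conj ((ψ : X → ℂ) g) else 0 := by
    rw [← Finset.sum_filter]
    refine Finset.sum_bij (fun (n : ν.ker) _ => (n : X)) ?_ ?_ ?_ ?_
    · intro n _
      rw [Finset.mem_filter]
      exact ⟨Finset.mem_univ _, n.2⟩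
    · intro a _ b _ hab
      exact Subtype.ext hab
    · intro g hg
      rw [Finset.mem_filter] at hg
      exact ⟨⟨g, hg.2⟩, Finset.mem_univ _, rfl⟩
    · intro n _
      rfl
  have h5 : ∀ g : X, (if g ∈ ν.ker then (ψ : X → ℂ) g * conj ((ψ : X → ℂ) g) else 0) =
      (ψ : X → ℂ) g * conj ((ψ : X → ℂ) g) := by
    intro g
    split_ifs with hg
    · rfl
    · have h6 := h g
      have h7 : ((ν g : ℂ) - 1) * (ψ : X → ℂ) g = 0 := by rw [sub_mul, h6, one_mul, sub_self]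
      rcases mul_eq_zero.mp h7 with h8 | h8
      · exfalso
        apply hg
        rw [MonoidHom.mem_ker]
        apply Units.ext
        rw [Units.val_one]
        exact sub_eq_zero.mp h8
      · rw [h8, zero_mul]
  simp only [h5] at h4
  rw [h4, ← h3] at h2
  have h6 : Nat.card ν.ker = Nat.card X := by exact_mod_cast h2
  have h7 : ν.ker = ⊤ := Subgroup.eq_top_of_card_eq _ h6
  have h8 : x ∈ ν.ker := by rw [h7]; trivial
  exact MonoidHom.mem_ker.mp h8

variable {G : Type u} [Group G] [Finite G] {K L : Subgroup G} {p : ℕ}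

theorem Frob.lin_fix (h : Frob G K L p) (ν : L →* ℂˣ) (hνK : ∀ l : L, (l : G) ∈ K → ν l = 1)
    {t : G} (ht : t ∉ L)
    (hfix : haveI := h.hL; ∀ l : L, ν (cjEquiv L t l) = ν l) (y : L) : ν y = 1 := by
  haveI := h.hL
  haveI := h.hK
  obtain ⟨x, hx, k, hk, hxy⟩ := h.hfp t ht y y.2
  have hxL : (⟨x, hx⟩ : L) * cjEquiv L t (⟨x, hx⟩ : L)⁻¹ * ⟨k, h.hKL hk⟩ = y := by
    apply Subtype.ext
    rw [← hxy]
    show x * (t * x⁻¹ * t⁻¹) * k = _
    group
  rw [← hxL, map_mul, map_mul, hfix, hνK ⟨k, h.hKL hk⟩ hk, mul_one, ← map_mul, mul_inv_cancel, map_one]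

theorem Frob.ker_index (h : Frob G K L p) (ν : L →* ℂˣ) (hνK : ∀ l : L, (l : G) ∈ K → ν l = 1)
    {d : ℕ} (hd : ¬ p ∣ d) : d.Coprime ν.ker.index := by
  obtain ⟨k, -, hk⟩ := h.hLp
  have h1 : K.subgroupOf L ≤ ν.ker := by
    intro l hl
    exact hνK l (Subgroup.mem_subgroupOf.mp hl)
  have h2 : ν.ker.index ∣ p ^ k := by
    rw [← hk]
    exact Subgroup.index_dvd_of_le h1
  refine Nat.Coprime.coprime_dvd_right h2 ?_
  exact Nat.Coprime.pow_right k ((Nat.Prime.coprime_iff_not_dvd h.hp).mpr hd).symm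

/-- the product with a linear character -/
theorem exists_lin_mul {X : Type u} [Group X] [Finite X] (ψ : IrrCharacter X) (ν : X →* ℂˣ) :
    ∃ φ : IrrCharacter X, (∀ x, (φ : X → ℂ) x = (ν x : ℂ) * (ψ : X → ℂ) x) ∧ deg φ = deg ψ := by
  have h1 : IsCharacter X (fun x => ((ν x : ℂˣ) : ℂ)) :=
    isCharacter_of_hom ((Units.coeHom ℂ).comp ν)
  have h2 := Glaub.isIrr_mul_linear ψ.2 h1 (by simp)
  refine ⟨⟨_, h2⟩, fun x => rfl, ?_⟩
  have h6 : ((deg (⟨_, h2⟩ : IrrCharacter X) : ℕ) : ℂ) = ((deg ψ : ℕ) : ℂ) := by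
    rw [← deg_spec, ← deg_spec]
    show ((ν 1 : ℂˣ) : ℂ) * (ψ : X → ℂ) 1 = _
    simp
  exact_mod_cast h6

/-- a nontrivial linear character of `L/K` -/
theorem Frob.exists_lin (h : Frob G K L p) : ∃ ν : L →* ℂˣ, (∀ l : L, (l : G) ∈ K → ν l = 1) ∧
    ∃ l, ν l ≠ 1 := by
  haveI := h.hK
  haveI : (K.subgroupOf L).Normal := inferInstance
  letI : CommGroup (L ⧸ K.subgroupOf L) :=
    { (inferInstance : Group (L ⧸ K.subgroupOf L)) with
      mul_comm := by
        intro a b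
        induction a using QuotientGroup.induction_on with
        | H a =>
          induction b using QuotientGroup.induction_on with
          | H b =>
            rw [← QuotientGroup.mk_mul, ← QuotientGroup.mk_mul, QuotientGroup.eq]
            rw [Subgroup.mem_subgroupOf]
            have h1 : ⁅((b : G))⁻¹, (a : G)⁻¹⁆ ∈ K :=
              h.hLL (Subgroup.commutator_mem_commutator (L.inv_mem b.2) (L.inv_mem a.2))
            have h2 : (((a * b)⁻¹ * (b * a) : L) : G) = ⁅((b : G))⁻¹, (a : G)⁻¹⁆ := by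
              rw [commutatorElement_def]
              push_cast
              group
            rw [h2]
            exact h1 }
  obtain ⟨k, hk0, hk⟩ := h.hLp
  have hlt : ∃ y : L, (y : G) ∉ K := by
    by_contra hcon
    push Not at hcon
    have h1 : K.relIndex L = 1 := by
      rw [Subgroup.relIndex_eq_one]
      intro x hx
      exact hcon ⟨x, hx⟩
    rw [hk] at h1
    have h2 := Nat.one_lt_pow hk0.ne' h.hp.one_lt
    omega
  obtain ⟨y, hy⟩ := hlt
  have hy1 : ((y : L) : L ⧸ K.subgroupOf L) ≠ 1 := by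
    intro h1
    rw [QuotientGroup.eq_one_iff, Subgroup.mem_subgroupOf] at h1
    exact hy h1
  obtain ⟨φ, hφ⟩ := CommGroup.exists_apply_ne_one_of_hasEnoughRootsOfUnity
    (L ⧸ K.subgroupOf L) ℂ hy1
  refine ⟨φ.comp (QuotientGroup.mk' _), ?_, y, hφ⟩
  intro l hl
  show φ (QuotientGroup.mk l) = 1
  rw [(QuotientGroup.eq_one_iff l).mpr (Subgroup.mem_subgroupOf.mpr hl), map_one]

/-- **Isaacs 12.4(a)** -/
theorem Frob.deg (h : Frob G K L p) (ψ : IrrCharacter L) (hψ : ¬ p ∣ H75.deg ψ) :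
    ∃ χ : IrrCharacter G, H75.deg χ = L.index * H75.deg ψ := by
  classical
  haveI := h.hL
  haveI := h.hK
  by_contra hcon
  push Not at hcon
  -- every twist has a large inertia group
  have key : ∀ φ : IrrCharacter L, H75.deg φ = H75.deg ψ →
      ∃ t, t ∉ L ∧ ∀ l : L, (φ : L → ℂ) (cjEquiv L t l) = (φ : L → ℂ) l := by
    intro φ hφ
    by_contra hc
    push Not at hc
    have hT : L = inertia L (φ : L → ℂ) := by
      apply le_antisymm (le_inertia' L φ)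
      intro t ht
      by_contra htL
      obtain ⟨l, hl⟩ := hc t htL
      apply hl
      exact congrFun (mem_inertia L |>.mp ht) l
    obtain ⟨χ, -, hχ⟩ := exists_inertia_deg L L φ hT le_rfl φ (fun n => rfl)
    exact hcon χ (by rw [hχ, hφ])
  obtain ⟨ν, hνK, l₀, hl₀⟩ := h.exists_lin
  obtain ⟨t₁, ht₁, hψ₁⟩ := key ψ rfl
  obtain ⟨φ, hφ, hφd⟩ := exists_lin_mul ψ ν
  obtain ⟨t₂, ht₂, hφ₂⟩ := key φ hφd
  let c₁ : L →* L := (cjEquiv L t₁ : L ≃* L)
  let c₂ : L →* L := (cjEquiv L t₂ : L ≃* L)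
  have hcK : ∀ (t : G) (l : L), (l : G) ∈ K → ((cjEquiv L t l : L) : G) ∈ K := by
    intro t l hl
    exact h.hK.conj_mem _ hl t
  let μ : L →* ℂˣ := ν * (ν.comp c₂)⁻¹
  have hμ : ∀ l, μ l = ν l * (ν (cjEquiv L t₂ l))⁻¹ := fun l => rfl
  have hμK : ∀ l : L, (l : G) ∈ K → μ l = 1 := by
    intro l hl
    rw [hμ, hνK l hl, hνK _ (hcK t₂ l hl)]; simp
  have hψ₂ : ∀ l : L, (ψ : L → ℂ) (cjEquiv L t₂ l) = (μ l : ℂ) * (ψ : L → ℂ) l := by
    intro l
    have h1 := hφ₂ l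
    rw [hφ, hφ] at h1
    rw [hμ]
    have h2 : ((ν (cjEquiv L t₂ l) : ℂˣ) : ℂ) ≠ 0 := Units.ne_zero _
    rw [Units.val_mul, Units.val_inv_eq_inv_val]
    field_simp
    rw [← h1, mul_comm]
  have hμne : ∃ l, μ l ≠ 1 := by
    by_contra hc
    push Not at hc
    apply hl₀
    refine h.lin_fix ν hνK ht₂ ?_ l₀
    intro l
    have h1 := hc l
    rw [hμ, mul_inv_eq_one] at h1
    exact h1.symm
  obtain ⟨l₁, hl₁⟩ := hμne
  apply hl₁
  refine h.lin_fix μ hμK ht₁ ?_ l₁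
  let κ : L →* ℂˣ := (μ.comp c₁) * μ⁻¹
  have hκ : ∀ l, κ l = μ (cjEquiv L t₁ l) * (μ l)⁻¹ := fun l => rfl
  have hκK : ∀ l : L, (l : G) ∈ K → κ l = 1 := by
    intro l hl
    rw [hκ, hμK l hl, hμK _ (hcK t₁ l hl)]; simp
  have hcomm : ∀ l : L, (ψ : L → ℂ) (cjEquiv L t₁ (cjEquiv L t₂ l)) =
      (ψ : L → ℂ) (cjEquiv L t₂ (cjEquiv L t₁ l)) := by
    intro l
    have hc : t₁ * t₂ * t₁⁻¹ * t₂⁻¹ ∈ L := by
      have h1 : ⁅t₁, t₂⁆ ∈ commutator G := by
        rw [commutator_def]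
        exact Subgroup.commutator_mem_commutator (Subgroup.mem_top _) (Subgroup.mem_top _)
      rw [commutatorElement_def] at h1
      exact h.hcomm h1
    have h2 : cjEquiv L t₁ (cjEquiv L t₂ l) =
        (⟨_, hc⟩ : L) * (cjEquiv L t₂ (cjEquiv L t₁ l)) * (⟨_, hc⟩ : L)⁻¹ := by
      apply Subtype.ext
      show t₁ * (t₂ * (l : G) * t₂⁻¹) * t₁⁻¹ = (t₁ * t₂ * t₁⁻¹ * t₂⁻¹) *
        (t₂ * (t₁ * (l : G) * t₁⁻¹) * t₂⁻¹) * (t₁ * t₂ * t₁⁻¹ * t₂⁻¹)⁻¹
      group
    rw [h2]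
    exact irr_isClassFunction ψ _ _
  have hfix : ∀ l, (κ l : ℂ) * (ψ : L → ℂ) l = (ψ : L → ℂ) l := by
    intro l
    have h1 := hcomm l
    rw [hψ₁, hψ₂, hψ₂, hψ₁] at h1
    rw [hκ, Units.val_mul, Units.val_inv_eq_inv_val]
    have h2 : ((μ l : ℂˣ) : ℂ) ≠ 0 := Units.ne_zero _
    field_simp
    rw [← h1]
  intro l
  have h3 := lin_eq_one ψ κ (h.ker_index κ hκK hψ) hfix l
  rw [hκ, mul_inv_eq_one] at h3
  exact h3

end Cfsg.Agent.H53.D3
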