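import Cfsg.Agent.H53.D3Base
import Cfsg.Agent.H63.PG
import Cfsg.Agent.Char.RelMono

/-!
# Minimal non-abelian solvable quotients (owner: helper53)
-/

set_option autoImplicit false
set_option linter.style.haveILetI false
set_option linter.unusedSectionVars false

namespace Cfsg.Agent.H53.D3

open scoped ComplexConjugate BigOperators commutatorElement
open Cfsg Cfsg.Agent.CharBase Cfsg.Agent.Char Cfsg.Agent.H75

universe u

/-- finite solvable groups all of whose proper quotients are abelian -/
theorem just_nonabelian {Q : Type u} [Group Q] [Finite Q] [hs : Group.IsSolvable Q]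
    (hna : commutator Q ≠ ⊥)
    (hmin : ∀ N : Subgroup Q, N.Normal → N ≠ ⊥ → commutator Q ≤ N) :
    ∃ p : ℕ, p.Prime ∧ (IsPGroup p Q ∨ (IsPGroup p (commutator Q) ∧
      (∀ a ∈ commutator Q, ∀ b ∈ commutator Q, a * b = b * a) ∧ ¬ p ∣ (commutator Q).index ∧
      ∀ t, t ∉ commutator Q → ∀ y ∈ commutator Q, ∃ x ∈ commutator Q,
        x * t * x⁻¹ * t⁻¹ = y)) := by
  classical
  set A := commutator Q with hA
  haveI hAn : A.Normal := by rw [hA]; infer_instance
  -- A is abelian
  have hAA : ⁅A, A⁆ = ⊥ := by
    by_contra h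
    have h1 := hmin ⁅A, A⁆ inferInstance h
    exact absurd (Group.IsSolvable.commutator_lt_of_ne_bot hna) (not_lt_of_ge h1)
  have hab : ∀ a ∈ A, ∀ b ∈ A, a * b = b * a := by
    intro a ha b hb
    have h1 : ⁅a, b⁆ ∈ ⁅A, A⁆ := Subgroup.commutator_mem_commutator ha hb
    rw [hAA, Subgroup.mem_bot, commutatorElement_eq_one_iff_mul_comm] at h1
    exact h1
  -- A is a p-group
  have hcard : Nat.card A ≠ 1 := fun h => hna (Subgroup.card_eq_one.mp h)
  obtain ⟨p, hp, hpA⟩ := Nat.exists_prime_and_dvd hcard
  haveI : Fact p.Prime := ⟨hp⟩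
  obtain ⟨P⟩ : Nonempty (Sylow p A) := inferInstance
  have hPn : (P : Subgroup A).Normal := by
    constructor
    intro n hn g
    have : g * n * g⁻¹ = n := by
      have h1 : g * n = n * g := Subtype.ext (hab g g.2 n n.2)
      rw [h1, mul_inv_cancel_right]
    rwa [this]
  haveI := P.characteristic_of_normal hPn
  have hPm : ((P : Subgroup A).map A.subtype).Normal := inferInstance
  have hPne : (P : Subgroup A) ≠ ⊥ := by
    intro h
    have h1 := P.card_eq_multiplicity
    rw [h, Subgroup.card_bot] at h1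
    have h2 : 0 < (Nat.card A).factorization p :=
      hp.factorization_pos_of_dvd Nat.card_pos.ne' hpA
    have h3 : 1 < p ^ (Nat.card A).factorization p := Nat.one_lt_pow h2.ne' hp.one_lt
    omega
  have hAP := hmin _ hPm (by
    intro h
    exact hPne ((Subgroup.map_eq_bot_iff_of_injective _ A.subtype_injective).mp h))
  have hAp : IsPGroup p A := by
    have h1 : IsPGroup p ((P : Subgroup A).map A.subtype) := P.isPGroup'.map _
    exact h1.to_le hAP
  refine ⟨p, hp, ?_⟩
  by_cases hnil : Group.IsNilpotent Q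
  · left
    -- all primes are p
    have hall : ∀ {q : ℕ}, q.Prime → q ∣ Nat.card Q → q = p := by
      intro q hq hqQ
      by_contra hne
      haveI : Fact q.Prime := ⟨hq⟩
      obtain ⟨S⟩ : Nonempty (Sylow q Q) := inferInstance
      have hSn : (S : Subgroup Q).Normal :=
        (((Group.isNilpotent_of_finite_tfae (G := Q)).out 0 3 : Group.IsNilpotent Q ↔ ∀ (p : ℕ) (_hp : Fact p.Prime) (P : Sylow p Q), (P : Subgroup Q).Normal)).mp hnil q ⟨hq⟩ S
      have hSne : (S : Subgroup Q) ≠ ⊥ := by
        intro h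
        have h1 := S.card_eq_multiplicity
        rw [h, Subgroup.card_bot] at h1
        have h2 : 0 < (Nat.card Q).factorization q :=
          hq.factorization_pos_of_dvd Nat.card_pos.ne' hqQ
        have h3 : 1 < q ^ (Nat.card Q).factorization q := Nat.one_lt_pow h2.ne' hq.one_lt
        omega
      have h4 := hmin _ hSn hSne
      have h5 : IsPGroup q A := S.isPGroup'.to_le h4
      have h6 := IsPGroup.disjoint_of_ne p q (Ne.symm hne) A A hAp h5
      exact hna (disjoint_self.mp h6)
    rw [IsPGroup.iff_card]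
    exact ⟨_, Nat.eq_prime_pow_of_unique_prime_dvd Nat.card_pos.ne' hall⟩
  · right
    refine ⟨hAp, hab, ?_⟩
    -- a non-normal maximal subgroup
    have hH : ∃ H : Subgroup Q, IsCoatom H ∧ ¬ H.Normal := by
      by_contra hcon
      push Not at hcon
      exact hnil ((((Group.isNilpotent_of_finite_tfae (G := Q)).out 0 2 : Group.IsNilpotent Q ↔ ∀ H : Subgroup Q, IsCoatom H → H.Normal)).mpr hcon)
    obtain ⟨H, hHc, hHn⟩ := hH
    have hAH : ¬ A ≤ H := fun h => hHn (Subgroup.Normal.of_commutator_le (G := Q) h)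
    have hsup : A ⊔ H = ⊤ := by
      apply hHc.2
      refine lt_of_le_of_ne le_sup_right ?_
      intro h
      exact hAH (h ▸ le_sup_left)
    have hmul : ∀ t : Q, ∃ a ∈ A, ∃ h ∈ H, a * h = t := by
      intro t
      have : t ∈ A ⊔ H := by rw [hsup]; trivial
      exact Subgroup.mem_sup_of_normal_left.mp this
    have hint : H ⊓ A = ⊥ := by
      by_contra hne
      have hn : (H ⊓ A).Normal := by
        constructor
        intro n hn g
        obtain ⟨a, ha, h, hh, rfl⟩ := hmul g
        have h1 : h * n * h⁻¹ ∈ H ⊓ A :=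
          ⟨H.mul_mem (H.mul_mem hh hn.1) (H.inv_mem hh), hAn.conj_mem n hn.2 h⟩
        have h2 : a * h * n * (a * h)⁻¹ = h * n * h⁻¹ := by
          have h3 := hab a ha _ h1.2
          calc a * h * n * (a * h)⁻¹ = (a * (h * n * h⁻¹)) * a⁻¹ := by group
            _ = h * n * h⁻¹ := by rw [h3, mul_inv_cancel_right]
        rw [h2]
        exact h1
      exact hAH ((hmin _ hn hne).trans inf_le_left)
    have hHab : ∀ a ∈ H, ∀ b ∈ H, a * b = b * a := by
      intro a ha b hb
      have h1 : ⁅a, b⁆ ∈ H ⊓ A := by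
        refine ⟨?_, ?_⟩
        · rw [commutatorElement_def]
          exact H.mul_mem (H.mul_mem (H.mul_mem ha hb) (H.inv_mem ha)) (H.inv_mem hb)
        · rw [hA]
          exact Subgroup.commutator_mem_commutator (Subgroup.mem_top a) (Subgroup.mem_top b)
      rw [hint, Subgroup.mem_bot, commutatorElement_eq_one_iff_mul_comm] at h1
      exact h1
    have hcent : ∀ h ∈ H, h ≠ 1 → ∀ x ∈ A, x * h = h * x → x = 1 := by
      intro h hh h1 x hx hxh
      have hle : H ≤ Subgroup.centralizer ({h} : Set Q) := by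
        intro k hk
        rw [Subgroup.mem_centralizer_singleton_iff]
        exact hHab k hk h hh
      rcases hle.eq_or_lt with he | hlt
      · have : x ∈ H := by
          rw [he, Subgroup.mem_centralizer_singleton_iff]
          exact hxh
        have h2 : x ∈ H ⊓ A := ⟨this, hx⟩
        rwa [hint, Subgroup.mem_bot] at h2
      · exfalso
        have htop := hHc.2 _ hlt
        have hz : h ∈ Subgroup.center Q := by
          rw [Subgroup.mem_center_iff]
          intro g
          have : g ∈ Subgroup.centralizer ({h} : Set Q) := by rw [htop]; trivial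
          exact Subgroup.mem_centralizer_singleton_iff.mp this
        have hzA : A ≤ Subgroup.center Q := by
          apply hmin _ inferInstance
          intro hbot
          rw [hbot, Subgroup.mem_bot] at hz
          exact h1 hz
        apply hnil
        have h3 := Char.MO.nilpotent_of_commutator_central (⊤ : Subgroup Q) (by
          rw [← commutator_def]; exact hzA)
        exact (Group.isNilpotent_congr (Subgroup.topEquiv (G := Q))).mp h3
    have hcent2 : ∀ t, t ∉ A → ∀ x ∈ A, x * t = t * x → x = 1 := by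
      intro t ht x hx hxt
      obtain ⟨a, ha, h, hh, rfl⟩ := hmul t
      have h1 : h ≠ 1 := by
        rintro rfl
        exact ht (by rwa [mul_one])
      apply hcent h hh h1 x hx
      have h2 := hab x hx a ha
      have h3 : a * (x * h) = a * (h * x) := by
        calc a * (x * h) = (x * a) * h := by rw [h2]; group
          _ = x * (a * h) := by group
          _ = a * h * x := hxt
          _ = a * (h * x) := by group
      exact mul_left_cancel h3
    refine ⟨?_, ?_⟩
    · intro hpi
      obtain ⟨S⟩ : Nonempty (Sylow p Q) := inferInstance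
      have hAS : A ≤ S := by
        have h1 : IsPGroup p (A ⊔ S : Subgroup Q) :=
          IsPGroup.to_sup_of_normal_left hAp S.isPGroup'
        have h2 := S.is_maximal' h1 le_sup_right
        rw [← h2]
        exact le_sup_left
      have hne : ∃ t ∈ (S : Subgroup Q), t ∉ A := by
        by_contra hcon
        push Not at hcon
        have h1 : (S : Subgroup Q) = A := le_antisymm hcon hAS
        rw [← h1] at hpi
        exact S.not_dvd_index hpi
      obtain ⟨t, htS, htA⟩ := hne
      have h1 := H63.inf_center_ne_bot S.isPGroup' (A.subgroupOf S) (by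
        intro h
        rw [Subgroup.subgroupOf_eq_bot] at h
        exact hna (disjoint_self.mp (h.mono_right hAS)))
      obtain ⟨z, hz1⟩ := Subgroup.ne_bot_iff_exists_ne_one.mp h1
      have hz := z.2
      have h2 : ((z : (S : Subgroup Q)) : Q) * t = t * ((z : (S : Subgroup Q)) : Q) := by
        have h3 := Subgroup.mem_center_iff.mp hz.2 ⟨t, htS⟩
        exact (congrArg Subtype.val h3).symm
      have h4 := hcent2 t htA _ (Subgroup.mem_subgroupOf.mp hz.1) h2
      apply hz1
      apply Subtype.ext
      apply Subtype.ext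
      exact h4
    · intro t ht y hy
      let φ : A → A := fun x => ⟨x * t * x⁻¹ * t⁻¹, by
        have h1 : (x : Q) * t * (x : Q)⁻¹ * t⁻¹ = x * (t * (x : Q)⁻¹ * t⁻¹) := by group
        have h2 : (x : Q) * (t * (x : Q)⁻¹ * t⁻¹) ∈ A :=
          A.mul_mem x.2 (hAn.conj_mem _ (A.inv_mem x.2) t)
        rw [← h1] at h2
        exact h2⟩
      have hinj : Function.Injective φ := by
        intro x z hxz
        have h1 : (x : Q) * t * (x : Q)⁻¹ * t⁻¹ = z * t * (z : Q)⁻¹ * t⁻¹ := congrArg Subtype.val hxz
        have h2 : ((z : Q)⁻¹ * x) * t = t * ((z : Q)⁻¹ * x) := by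
          have h3 : (x : Q) * t * (x : Q)⁻¹ = z * t * (z : Q)⁻¹ := mul_right_cancel h1
          calc ((z : Q)⁻¹ * x) * t = (z : Q)⁻¹ * (x * t * (x : Q)⁻¹) * x := by group
            _ = t * ((z : Q)⁻¹ * x) := by rw [h3]; group
        have h4 := hcent2 t ht _ (A.mul_mem (A.inv_mem z.2) x.2) h2
        exact Subtype.ext (inv_mul_eq_one.mp h4).symm
      have hsurj : Function.Surjective φ := Finite.surjective_of_injective hinj
      obtain ⟨x, hx⟩ := hsurj ⟨y, hy⟩
      exact ⟨x, x.2, congrArg Subtype.val hx⟩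

/-- Frobenius type data: `G/K` is a Frobenius group with abelian complement and kernel `L/K`, an
abelian `p`-group -/
structure Frob (G : Type u) [Group G] (K L : Subgroup G) (p : ℕ) : Prop where
  hK : K.Normal
  hL : L.Normal
  hKL : K ≤ L
  hcomm : commutator G ≤ L
  hLL : ⁅L, L⁆ ≤ K
  hLp : ∃ k : ℕ, 0 < k ∧ K.relIndex L = p ^ k
  hLtop : L ≠ ⊤
  hp : p.Prime
  hpi : ¬ p ∣ L.index
  hfp : ∀ t, t ∉ L → ∀ y ∈ L, ∃ x ∈ L, ∃ k ∈ K, x * t * x⁻¹ * t⁻¹ * k = y

/-- minimal non-abelian quotients above a normal subgroup -/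
theorem exists_min_quot {G : Type u} [Group G] [Finite G] (N : Subgroup G) [hN : N.Normal]
    [hs : Group.IsSolvable (G ⧸ N)] (hna : ¬ commutator G ≤ N) :
    ∃ K : Subgroup G, ∃ _ : K.Normal, N ≤ K ∧ ¬ commutator G ≤ K ∧
      ∃ p : ℕ, p.Prime ∧ (IsPGroup p (G ⧸ K) ∨ ∃ L : Subgroup G, Frob G K L p) := by
  classical
  -- a maximal K
  obtain ⟨K, hKmax⟩ : ∃ K : Subgroup G, Maximal (fun K : Subgroup G => K.Normal ∧ N ≤ K ∧
      ¬ commutator G ≤ K) K :=
    (Set.toFinite {K : Subgroup G | K.Normal ∧ N ≤ K ∧ ¬ commutator G ≤ K}).exists_maximal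
      ⟨N, hN, le_refl N, hna⟩
  obtain ⟨⟨hKn, hNK, hKc⟩, hKm⟩ := hKmax
  haveI := hKn
  refine ⟨K, hKn, hNK, hKc, ?_⟩
  let π := QuotientGroup.mk' K
  have hπs : Function.Surjective π := QuotientGroup.mk'_surjective K
  have hcomm : (commutator G).map π = commutator (G ⧸ K) := by
    rw [commutator_def, commutator_def, Subgroup.map_commutator,
      Subgroup.map_top_of_surjective π hπs]
  haveI : Group.IsSolvable (G ⧸ K) := by
    let f : G ⧸ N →* G ⧸ K := QuotientGroup.map N K (MonoidHom.id G) hNK
    refine Group.isSolvable_of_surjective (f := f) ?_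
    intro x
    obtain ⟨g, rfl⟩ := hπs x
    exact ⟨QuotientGroup.mk g, rfl⟩
  have h1 : commutator (G ⧸ K) ≠ ⊥ := by
    intro h
    rw [← hcomm, Subgroup.map_eq_bot_iff, QuotientGroup.ker_mk'] at h
    exact hKc h
  have h2 : ∀ M : Subgroup (G ⧸ K), M.Normal → M ≠ ⊥ → commutator (G ⧸ K) ≤ M := by
    intro M hM hMne
    haveI := hM
    rw [← hcomm, Subgroup.map_le_iff_le_comap]
    by_contra hcon
    have h3 : K ≤ M.comap π := by
      intro k hk
      rw [Subgroup.mem_comap]
      have : π k = 1 := (QuotientGroup.eq_one_iff k).mpr hk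
      rw [this]
      exact M.one_mem
    have h4 := hKm (y := M.comap π) ⟨inferInstance, hNK.trans h3, hcon⟩ h3
    apply hMne
    rw [eq_bot_iff]
    intro x hx
    obtain ⟨g, rfl⟩ := hπs x
    have h5 : g ∈ K := h4 hx
    rw [Subgroup.mem_bot]
    exact (QuotientGroup.eq_one_iff g).mpr h5
  obtain ⟨p, hp, h3⟩ := just_nonabelian h1 h2
  refine ⟨p, hp, ?_⟩
  rcases h3 with h3 | ⟨hAp, hab, hpi, hfp⟩
  · exact Or.inl h3
  · right
    set A := commutator (G ⧸ K) with hA
    have hidx : (A.comap π).index = A.index := Subgroup.index_comap_of_surjective A hπs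
    have hKL : K ≤ A.comap π := by
      intro k hk
      rw [Subgroup.mem_comap]
      have : π k = 1 := (QuotientGroup.eq_one_iff k).mpr hk
      rw [this]
      exact A.one_mem
    refine ⟨A.comap π, hKn, inferInstance, hKL, ?_, ?_, ?_, ?_, hp, ?_, ?_⟩
    · rw [← Subgroup.map_le_iff_le_comap, hcomm]
    · rw [Subgroup.commutator_le]
      intro a ha b hb
      have h4 := hab _ ha _ hb
      have h5 : π ⁅a, b⁆ = 1 := by
        rw [map_commutatorElement, commutatorElement_eq_one_iff_mul_comm]
        exact h4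
      exact (QuotientGroup.eq_one_iff _).mp h5
    · haveI : Fact p.Prime := ⟨hp⟩
      obtain ⟨k, hk⟩ := (IsPGroup.iff_card (p := p)).mp hAp
      refine ⟨k, ?_, ?_⟩
      · rcases Nat.eq_zero_or_pos k with h | h
        · exfalso
          rw [h, pow_zero] at hk
          exact h1 (Subgroup.card_eq_one.mp hk)
        · exact h
      · rw [← hk]
        have h4 : K.relIndex (A.comap π) * (A.comap π).index = K.index :=
          Subgroup.relIndex_mul_index hKL
        have h5 : Nat.card A * A.index = K.index := by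
          rw [Subgroup.card_mul_index, Subgroup.index_eq_card]
        rw [hidx] at h4
        exact Nat.eq_of_mul_eq_mul_right (Nat.pos_of_ne_zero Subgroup.index_ne_zero_of_finite)
          (h4.trans h5.symm)
    · intro htop
      have h4 : A = ⊤ := by
        rw [eq_top_iff]
        intro x _
        obtain ⟨g, rfl⟩ := hπs x
        have : g ∈ A.comap π := by rw [htop]; trivial
        exact this
      have h5 : ⁅(⊤ : Subgroup (G ⧸ K)), (⊤ : Subgroup (G ⧸ K))⁆ < (⊤ : Subgroup (G ⧸ K)) := by
        refine Group.IsSolvable.commutator_lt_of_ne_bot ?_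
        intro h
        apply h1
        rw [h4, h]
      rw [← commutator_def, ← hA, h4] at h5
      exact lt_irrefl _ h5
    · rw [hidx]; exact hpi
    · intro t ht y hy
      obtain ⟨x, hx, hxy⟩ := hfp (π t) ht (π y) hy
      obtain ⟨x', rfl⟩ := hπs x
      refine ⟨x', hx, (x' * t * x'⁻¹ * t⁻¹)⁻¹ * y, ?_, by group⟩
      have h4 : π ((x' * t * x'⁻¹ * t⁻¹)⁻¹ * y) = 1 := by
        rw [map_mul, map_inv, map_mul, map_mul, map_mul, map_inv, map_inv, hxy, inv_mul_cancel]
      exact (QuotientGroup.eq_one_iff _).mp h4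

end Cfsg.Agent.H53.D3
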