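import Cfsg.Agent.H53.D3Tak
import Cfsg.Agent.H67.Elem
import Cfsg.Agent.H75.TwoDeg4

/-!
# Solvable groups with three character degrees (owner: helper53)
-/

set_option autoImplicit false
set_option linter.style.haveILetI false
set_option linter.unusedSectionVars false

namespace Cfsg.Agent.H53.D3

open scoped ComplexConjugate BigOperators commutatorElement
open Cfsg Cfsg.Agent.CharBase Cfsg.Agent.Char Cfsg.Agent.H75

universe u

variable {G : Type u} [Group G] [Finite G]

theorem comm_of_all_linear (h : ∀ χ : IrrCharacter G, deg χ = 1) (a b : G) : a * b = b * a := by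
  apply comm_of_forall_linear
  intro χ
  rw [deg_spec, h χ, Nat.cast_one]

/-- at most two degrees: metabelian -/
theorem two_deg_comm (m : ℕ) (hcd : ∀ χ : IrrCharacter G, deg χ = 1 ∨ deg χ = m) :
    ∀ a ∈ commutator G, ∀ b ∈ commutator G, a * b = b * a := by
  by_cases h : (∃ χ : IrrCharacter G, deg χ = m) ∧ m ≠ 1
  · exact TwoDeg.commutator_comm m hcd h.1 h.2
  · intro a _ b _
    apply comm_of_all_linear
    intro χ
    rcases hcd χ with h1 | h1
    · exact h1
    · by_contra h2
      exact h ⟨⟨χ, h1⟩, fun hm => h2 (h1.trans hm)⟩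

theorem commutator_le_iff_comm (K : Subgroup G) [K.Normal] :
    commutator G ≤ K ↔ ∀ a b : G ⧸ K, a * b = b * a := by
  constructor
  · intro h a b
    induction a using QuotientGroup.induction_on with
    | H a =>
      induction b using QuotientGroup.induction_on with
      | H b =>
        rw [← QuotientGroup.mk_mul, ← QuotientGroup.mk_mul, QuotientGroup.eq]
        have h1 : ⁅b⁻¹, a⁻¹⁆ ∈ commutator G := by
          rw [commutator_def]
          exact Subgroup.commutator_mem_commutator (Subgroup.mem_top _) (Subgroup.mem_top _)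
        have h2 : (a * b)⁻¹ * (b * a) = ⁅b⁻¹, a⁻¹⁆ := by
          rw [commutatorElement_def]; group
        rw [h2]
        exact h h1
  · intro h
    rw [commutator_def, Subgroup.commutator_le]
    intro a _ b _
    rw [← QuotientGroup.eq_one_iff, commutatorElement_def]
    rw [QuotientGroup.mk_mul, QuotientGroup.mk_mul, QuotientGroup.mk_mul, QuotientGroup.mk_inv,
      QuotientGroup.mk_inv, h a b]
    group

/-- nonlinear characters of nonabelian quotients -/
theorem exists_nonlinear_quot (K : Subgroup G) [K.Normal] (h : ¬ commutator G ≤ K) :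
    ∃ β : IrrCharacter (G ⧸ K), deg β ≠ 1 := by
  by_contra hcon
  push Not at hcon
  exact h ((commutator_le_iff_comm K).mpr (comm_of_all_linear hcon))

theorem deg_quot_dvd (K : Subgroup G) [K.Normal] (β : IrrCharacter (G ⧸ K)) : deg β ∣ K.index := by
  have := deg_dvd β
  rwa [← Subgroup.index_eq_card] at this

theorem card_eq_pow {p : ℕ} (hp : p.Prime) {X : Type*} [Group X] [Finite X] (h : IsPGroup p X) :
    ∃ k : ℕ, Nat.card X = p ^ k := by
  haveI : Fact p.Prime := ⟨hp⟩
  exact (IsPGroup.iff_card (p := p)).mp h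

/-- a solvable nonabelian group has a character whose degree is not prime to `|H : H'|` -/
theorem exists_gcd [hs : Group.IsSolvable G] (hna : ¬ ∀ a b : G, a * b = b * a) :
    ∃ η : IrrCharacter G, ∃ t : ℕ, t.Prime ∧ deg η ≠ 1 ∧ t ∣ deg η ∧ t ∣ (commutator G).index := by
  classical
  have h0 : ¬ commutator G ≤ ⊥ := by
    intro h
    apply hna
    intro a b
    have h1 : ⁅a, b⁆ ∈ commutator G := by
      rw [commutator_def]
      exact Subgroup.commutator_mem_commutator (Subgroup.mem_top _) (Subgroup.mem_top _)
    have h2 := h h1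
    rw [Subgroup.mem_bot, commutatorElement_eq_one_iff_mul_comm] at h2
    exact h2
  obtain ⟨K, hK, -, hKc, p, hp, h | ⟨L, hL⟩⟩ := exists_min_quot (⊥ : Subgroup G) h0
  · obtain ⟨β, hβ⟩ := exists_nonlinear_quot K hKc
    obtain ⟨ψ, -, hψ⟩ := inflate K β
    obtain ⟨k, hk⟩ := card_eq_pow hp h
    rw [← Subgroup.index_eq_card] at hk
    have h1 := deg_quot_dvd K β
    rw [hk] at h1
    obtain ⟨i, -, hi⟩ := (Nat.dvd_prime_pow hp).mp h1
    have hi0 : i ≠ 0 := by
      rintro rfl
      exact hβ (by rw [hi, pow_zero])
    refine ⟨ψ, p, hp, by rw [hψ]; exact hβ, by rw [hψ, hi]; exact dvd_pow_self p hi0, ?_⟩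
    -- the index
    have h2 : (K ⊔ commutator G).index ∣ p ^ k := by
      rw [← hk]; exact Subgroup.index_dvd_of_le le_sup_left
    have h3 : (K ⊔ commutator G).index ∣ (commutator G).index :=
      Subgroup.index_dvd_of_le le_sup_right
    have h4 : K ⊔ commutator G ≠ ⊤ := by
      intro htop
      let π := QuotientGroup.mk' K
      have hπs : Function.Surjective π := QuotientGroup.mk'_surjective K
      have hcomm : (commutator G).map π = commutator (G ⧸ K) := by
        rw [commutator_def, commutator_def, Subgroup.map_commutator,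
          Subgroup.map_top_of_surjective π hπs]
      have h5 : commutator (G ⧸ K) = ⊤ := by
        rw [← hcomm, ← Subgroup.map_top_of_surjective π hπs, ← htop, Subgroup.map_sup]
        have : K.map π = ⊥ := by
          rw [Subgroup.map_eq_bot_iff, QuotientGroup.ker_mk']
        rw [this, bot_sup_eq]
      haveI : Group.IsSolvable (G ⧸ K) := inferInstance
      have h6 : ⁅(⊤ : Subgroup (G ⧸ K)), (⊤ : Subgroup (G ⧸ K))⁆ < (⊤ : Subgroup (G ⧸ K)) := by
        refine Group.IsSolvable.commutator_lt_of_ne_bot ?_
        intro h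
        apply hKc
        rw [← hcomm, eq_comm] at h5
        have h7 : (commutator G).map π = ⊥ := by rw [← h5, h]
        rw [Subgroup.map_eq_bot_iff, QuotientGroup.ker_mk'] at h7
        exact h7
      rw [← commutator_def, h5] at h6
      exact lt_irrefl _ h6
    obtain ⟨j, -, hj⟩ := (Nat.dvd_prime_pow hp).mp h2
    have hj0 : j ≠ 0 := by
      rintro rfl
      rw [pow_zero, Subgroup.index_eq_one] at hj
      exact h4 hj
    exact ((dvd_pow_self p hj0).trans (dvd_of_eq hj.symm)).trans h3
  · have h1 : deg (oneIrr L) = 1 := by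
      have := deg_spec (oneIrr L)
      rw [oneIrr_apply] at this
      exact_mod_cast this.symm
    obtain ⟨χ, hχ⟩ := hL.deg (oneIrr L) (by
      rw [h1]
      intro h
      exact hL.hp.one_lt.ne' (Nat.dvd_one.mp h))
    rw [h1, mul_one] at hχ
    have h2 : L.index ≠ 1 := fun h => hL.hLtop (Subgroup.index_eq_one.mp h)
    obtain ⟨t, ht, htd⟩ := Nat.exists_prime_and_dvd h2
    exact ⟨χ, t, ht, by rw [hχ]; exact h2, by rw [hχ]; exact htd,
      htd.trans (Subgroup.index_dvd_of_le hL.hcomm)⟩

/-- characters all of whose constituents on `L` are linear kill `L'` -/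
theorem kills_of_linear (L : Subgroup G) (χ : IrrCharacter G)
    (h : ∀ ψ : IrrCharacter L, Over L χ ψ → deg ψ = 1) :
    ∀ x ∈ ⁅L, L⁆, (χ : G → ℂ) x = (χ : G → ℂ) 1 := by
  classical
  haveI := Fintype.ofFinite L
  haveI := Fintype.ofFinite (IrrCharacter L)
  intro x hx
  rw [← Subgroup.map_subtype_commutator] at hx
  obtain ⟨y, hy, rfl⟩ := hx
  obtain ⟨m, hm, hsum⟩ := exists_mult_of_isCharacter (isCharacter_restrict (irr_isCharacter χ) L)
  have h1 := congrFun hsum y
  have h2 := congrFun hsum 1
  have h3 : (χ : G → ℂ) (L.subtype y) = (χ : G → ℂ) ((1 : L) : G) := by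
    refine h1.trans (Eq.trans ?_ h2.symm)
    simp only [Finset.sum_apply, Pi.smul_apply]
    refine Finset.sum_congr rfl (fun ψ _ => ?_)
    by_cases h0 : m ψ = 0
    · simp [h0]
    · have h4 : Over L χ ψ := by
        rw [over_iff]
        have := hm ψ
        intro h5
        apply h0
        have h6 : ((m ψ : ℕ) : ℂ) = 0 := by rw [← this]; exact h5
        exact_mod_cast h6
      have h5 := h ψ h4
      have hψ1 : (ψ : L → ℂ) 1 = 1 := by rw [deg_spec, h5, Nat.cast_one]
      congr 1
      rw [hψ1]
      -- linear characters kill the commutator subgroup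
      have h6 : commutator L ≤ charKer (irr_isCharacter ψ) := by
        haveI := charKer_normal (irr_isCharacter ψ)
        rw [commutator_def, Subgroup.commutator_le]
        intro a _ b _
        rw [mem_charKer, hψ1, commutatorElement_def]
        exact linear_commutator (irr_isCharacter ψ) hψ1 a b
      have h7 := h6 hy
      rw [mem_charKer, hψ1] at h7
      exact h7
  rw [h3]
  rfl

end Cfsg.Agent.H53.D3
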