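import Cfsg.Agent.H53.D3Frob
import Cfsg.Agent.S0175
import Cfsg.Agent.Glaub.Over

/-!
# Monomial characters and Taketa's argument (owner: helper53)
-/

set_option autoImplicit false
set_option linter.style.haveILetI false
set_option linter.unusedSectionVars false

namespace Cfsg.Agent.H53.D3

open scoped ComplexConjugate BigOperators commutatorElement
open Cfsg Cfsg.Agent.CharBase Cfsg.Agent.Char Cfsg.Agent.H75

universe u

/-- Taketa's step -/
theorem taketa_step {G : Type u} [Group G] [Fintype G] (k : ℕ) (χ : IrrCharacter G)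
    (hM : IsMonomialChar (χ : G → ℂ))
    (hlow : ∀ ψ : IrrCharacter G, deg ψ < deg χ → ∀ x ∈ derivedSeries G k,
      (ψ : G → ℂ) x = (ψ : G → ℂ) 1) :
    ∀ g ∈ derivedSeries G (k + 1), (χ : G → ℂ) g = (χ : G → ℂ) 1 := by
  classical
  have := Fintype.ofFinite (IrrCharacter G)
  intro g hg
  obtain ⟨H, lam, hχ⟩ := hM
  set n := deg χ with hn
  have hidx : H.index = n := by
    have h1 := deg_spec χ
    rw [hχ, Char.indFun_one_apply, map_one, Units.val_one, mul_one] at h1
    exact_mod_cast h1
  have hnpos : 0 < n := deg_pos χ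
  have hD : derivedSeries G k ≤ H := by
    by_cases h1 : n = 1
    · rw [h1] at hidx
      rw [Subgroup.index_eq_one.mp hidx]
      exact le_top
    · intro x hx
      apply S0175.mem_of_ind_one
      have hπ : IsCharacter G (indFun H (fun _ => (1 : ℂ))) :=
        Char.indFun_isCharacter H _ (isCharacter_of_isIrr Char.isIrrCharacter_one)
      have hπ1 : indFun H (fun _ => (1 : ℂ)) 1 = (n : ℂ) := by
        rw [Char.indFun_one_apply, hidx, mul_one]
      obtain ⟨m, hm, hsum⟩ := exists_mult_of_isCharacter hπ
      have hm1 : m (oneIrr G) ≠ 0 := by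
        intro h0
        have h2 := hm (oneIrr G)
        have := Fintype.ofFinite H
        rw [Char.frobenius_reciprocity H _ _ (irr_isClassFunction _)] at h2
        have h3 : classInner (fun _ : H => (1 : ℂ)) (fun h : H => (oneIrr G : G → ℂ) h) = 1 :=
          classInner_irr_self (oneIrr H)
        rw [h3, h0] at h2
        norm_num at h2
      have hdegone : deg (oneIrr G) = 1 := by
        have := deg_spec (oneIrr G)
        rw [oneIrr_apply] at this
        exact_mod_cast this.symm
      have hnsum : n = ∑ ψ : IrrCharacter G, m ψ * deg ψ := by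
        have h2 := congrFun hsum 1
        rw [hπ1] at h2
        have h3 : (n : ℂ) = ((∑ ψ : IrrCharacter G, m ψ * deg ψ : ℕ) : ℂ) := by
          rw [h2]
          simp only [Finset.sum_apply, Pi.smul_apply]
          push_cast
          refine Finset.sum_congr rfl (fun ψ _ => ?_)
          rw [deg_spec]; simp
        exact_mod_cast h3
      rw [hsum]
      simp only [Finset.sum_apply, Pi.smul_apply]
      refine Finset.sum_congr rfl (fun ψ _ => ?_)
      by_cases h0 : m ψ = 0
      · simp [h0]
      · have hlt : deg ψ < n := by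
          by_cases hψ : ψ = oneIrr G
          · rw [hψ, hdegone]; omega
          · have h5 : m (oneIrr G) * deg (oneIrr G) + m ψ * deg ψ ≤ n := by
              rw [hnsum, ← Finset.sum_pair (fun h => hψ h.symm) (f := fun ψ => m ψ * deg ψ)]
              exact Finset.sum_le_sum_of_subset (Finset.subset_univ _)
            rw [hdegone, mul_one] at h5
            have h6 : deg ψ ≤ m ψ * deg ψ := Nat.le_mul_of_pos_left _ (Nat.pos_of_ne_zero h0)
            have h7 := Nat.pos_of_ne_zero hm1
            omega
        rw [hlow ψ hlt x hx]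
  have hDn : (derivedSeries G k).Normal := derivedSeries_normal G _
  have hcomm : ⁅derivedSeries G k, derivedSeries G k⁆ ≤ (lam.ker).map H.subtype := by
    rw [Subgroup.commutator_le]
    intro a ha b hb
    refine ⟨⁅(⟨a, hD ha⟩ : H), ⟨b, hD hb⟩⁆, ?_, ?_⟩
    · change lam _ = 1
      rw [map_commutatorElement]
      exact commutatorElement_eq_one_iff_mul_comm.mpr (mul_comm _ _)
    · rfl
  have hval : ∀ x : G, extendByZero H (fun h => (lam h : ℂ)) (x⁻¹ * g * x) = 1 := by
    intro x
    have h1 : x⁻¹ * g * x ∈ derivedSeries G (k + 1) := by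
      have := (derivedSeries_normal G (k + 1)).conj_mem g hg x⁻¹
      simpa using this
    rw [derivedSeries_succ] at h1
    obtain ⟨y, hy, hyx⟩ := hcomm h1
    rw [← hyx]
    have h2 : extendByZero H (fun h => (lam h : ℂ)) (H.subtype y) = (lam y : ℂ) :=
      Char.extendByZero_coe H _ y
    rw [h2]
    have h3 : lam y = 1 := hy
    rw [h3]; simp
  rw [hχ]
  unfold indFun
  congr 1
  refine Finset.sum_congr rfl (fun x _ => ?_)
  rw [hval x]
  have h1 : x⁻¹ * (1 : G) * x = ((1 : H) : G) := by simp
  rw [h1, Char.extendByZero_coe H]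
  simp

/-- an M-group with at most three character degrees has derived length at most three -/
theorem taketa_three {G : Type u} [Group G] [Fintype G]
    (hM : ∀ χ : IrrCharacter G, IsMonomialChar (χ : G → ℂ)) (f g : ℕ)
    (hcd : ∀ χ : IrrCharacter G, deg χ = 1 ∨ deg χ = f ∨ deg χ = g) :
    derivedSeries G 3 = ⊥ := by
  wlog hfg : f ≤ g generalizing f g
  · exact this g f (fun χ => by rcases hcd χ with h | h | h <;> tauto) (by omega)
  have h1 : ∀ χ : IrrCharacter G, deg χ ≤ 1 → ∀ x ∈ derivedSeries G 1,
      (χ : G → ℂ) x = (χ : G → ℂ) 1 := by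
    intro χ hχ
    refine taketa_step 0 χ (hM χ) ?_
    intro ψ hψ
    have := deg_pos ψ
    omega
  have h2 : ∀ χ : IrrCharacter G, deg χ ≤ f → ∀ x ∈ derivedSeries G 2,
      (χ : G → ℂ) x = (χ : G → ℂ) 1 := by
    intro χ hχ
    refine taketa_step 1 χ (hM χ) ?_
    intro ψ hψ
    refine h1 ψ ?_
    rcases hcd ψ with h | h | h <;> omega
  have h3 : ∀ χ : IrrCharacter G, ∀ x ∈ derivedSeries G 3,
      (χ : G → ℂ) x = (χ : G → ℂ) 1 := by
    intro χ
    refine taketa_step 2 χ (hM χ) ?_
    intro ψ hψ
    rcases hcd ψ with h | h | h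
    · intro x hx
      exact h1 ψ h.le x (derivedSeries_antitone G (by norm_num) hx)
    · exact h2 ψ h.le
    · rcases hcd χ with h' | h' | h'
      · have := deg_pos ψ
        omega
      · omega
      · omega
  rw [eq_bot_iff]
  intro x hx
  rw [Subgroup.mem_bot]
  apply isConj_one_left.mp
  apply isConj_of_irr_eq
  intro χ
  exact h3 χ x hx

/-- abelian-by-nilpotent (Hall) groups are M-groups -/
theorem monomial_of_abelian_hall {G : Type u} [Group G] [Fintype G] (N : Subgroup G) [hN : N.Normal]
    (hab : ∀ a ∈ N, ∀ b ∈ N, a * b = b * a) (hcop : (Nat.card N).Coprime N.index)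
    (hnil : Group.IsNilpotent (G ⧸ N)) (χ : IrrCharacter G) : IsMonomialChar (χ : G → ℂ) := by
  classical
  haveI := Fintype.ofFinite N
  obtain ⟨l, hl, hne⟩ := Char.exists_constituent_restrict N (irr_isCharacter χ)
    (irr_one_ne_zero χ.2)
  have hl1 : l 1 = 1 := irr_one_of_comm (fun a b => Subtype.ext (hab a a.2 b b.2)) ⟨l, hl⟩
  have hlc := isCharacter_of_isIrr hl
  let T : Subgroup G := Char.inertia N l
  have hLT : N ≤ T := Char.le_inertia N (isClassFunction_of_isCharacter hlc)
  haveI := Fintype.ofFinite T
  obtain ⟨ψ, hψ, hind, hmul⟩ := Char.clifford_correspondence N T hl rfl hLT χ.2 hne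
  let K : Subgroup T := N.subgroupOf T
  haveI : K.Normal := inferInstance
  haveI := Fintype.ofFinite K
  let e : K ≃* N := Subgroup.subgroupOfEquivOfLe hLT
  let θ' : K → ℂ := l ∘ e
  have hθ' : IsIrrCharacter K θ' :=
    isIrrCharacter_comp_surjective hl (e : K →* N) e.surjective
  have hcopK : (Nat.card K).Coprime K.index := by
    have e1 : Nat.card K = Nat.card N := Nat.card_congr e.toEquiv
    have e2 : K.index ∣ N.index := Subgroup.relIndex_dvd_index_of_le hLT
    rw [e1]
    exact Nat.Coprime.coprime_dvd_right e2 hcop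
  have hinv : ∀ g : T, Char.cj K g θ' = θ' := by
    intro g
    funext k
    rw [Char.cj_apply]
    have h2 := congrFun (Char.mem_inertia N |>.mp g.2) (e k)
    rw [Char.cj_apply] at h2
    simp only [θ', Function.comp]
    rw [← h2]
    congr 1
  obtain ⟨η, hη, hηK⟩ := Glaub.exists_extension_of_hall K hcopK hθ' hinv
  have hη1 : η 1 = 1 := by
    have := hηK 1
    simpa [θ', hl1] using this
  have hηc := isCharacter_of_isIrr hη
  have hηθ : (fun m : K => η m) = θ' := funext hηK
  obtain ⟨β, hβ, hβη⟩ := Glaub.exists_irr_factor K hη (by rw [hηθ]; exact hθ') hψ (by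
    rw [hηθ]
    have h5 := Char.classInner_comp_equiv e (fun n : N => ψ ⟨n, hLT n.2⟩) l
    intro h6
    apply hne
    rw [← hmul, ← h5]
    exact h6)
  haveI : Fintype (T ⧸ K) := Fintype.ofFinite _
  haveI : Group.IsNilpotent (T ⧸ K) := by
    let f : T ⧸ K →* G ⧸ N := QuotientGroup.map K N T.subtype (by
      intro x hx
      exact Subgroup.mem_subgroupOf.mp hx)
    have hf : Function.Injective f := by
      rw [injective_iff_map_eq_one]
      intro x hx
      induction x using QuotientGroup.induction_on with
      | H t =>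
        rw [QuotientGroup.eq_one_iff, Subgroup.mem_subgroupOf]
        exact (QuotientGroup.eq_one_iff (t : G)).mp hx
    exact (Group.isNilpotent_congr (MonoidHom.ofInjective hf)).mpr inferInstance
  have h1 := isMonomialChar_inflate K (isMonomialChar_of_nilpotent hβ)
  have h2 : IsMonomialChar ψ := by
    obtain ⟨H, lam, hH⟩ := h1
    let ηh : T →* ℂˣ := (Char.linHom hηc hη1).toHomUnits
    refine ⟨H, lam * (ηh.comp H.subtype), ?_⟩
    have h3 := indFun_mul_restrict (H := H) (fun h => (lam h : ℂ)) η
      (isClassFunction_of_isCharacter hηc)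
    have h4 : (fun h : H => (((lam * (ηh.comp H.subtype)) h : ℂˣ) : ℂ)) =
        fun h : H => (lam h : ℂ) * η h := by
      funext h
      rfl
    rw [h4, h3, ← hH]
    funext t
    exact hβη t
  rw [← hind]
  exact isMonomialChar_of_subgroup T h2

end Cfsg.Agent.H53.D3
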