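import Mathlib

set_option autoImplicit false
set_option linter.dupNamespace false

/-!
# Sylow 2-subgroups with elementary abelian commutator factor group: generalities (helper53)
-/

namespace Cfsg.Agent.H53.SEA

/-- squares lie in the derived subgroup -/
def EA (P : Type*) [Group P] : Prop := ∀ x : P, x ^ 2 ∈ commutator P

/-- the Sylow 2-subgroups have elementary abelian commutator factor group -/
def SEA (G : Type*) [Group G] : Prop := ∀ P : Sylow 2 G, EA (P : Subgroup G)

theorem map_comm_le {P Q : Type*} [Group P] [Group Q] (f : P →* Q) {x : P} (hx : x ∈ commutator P) :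
    f x ∈ commutator Q := by
  have h1 : f x ∈ (commutator P).map f := ⟨x, hx, rfl⟩
  rw [commutator, Subgroup.map_commutator] at h1
  exact Subgroup.commutator_mono le_top le_top h1

theorem EA.of_surjective {P Q : Type*} [Group P] [Group Q] (h : EA P) (f : P →* Q) (hf : Function.Surjective f) :
    EA Q := by
  intro x
  obtain ⟨y, rfl⟩ := hf x
  rw [← map_pow]
  exact map_comm_le f (h y)

theorem EA.congr {P Q : Type*} [Group P] [Group Q] (h : EA P) (e : P ≃* Q) : EA Q :=
  h.of_surjective e.toMonoidHom e.surjective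

theorem EA.of_closure {P : Type*} [Group P] (X : Set P) (hX : Subgroup.closure X = ⊤)
    (h : ∀ x ∈ X, x ^ 2 ∈ commutator P) : EA P := by
  let φ : P →* Abelianization P := (powMonoidHom 2).comp Abelianization.of
  have h1 : Subgroup.closure X ≤ φ.ker := by
    rw [Subgroup.closure_le]
    intro x hx
    rw [SetLike.mem_coe, MonoidHom.mem_ker]
    change (Abelianization.of x) ^ 2 = 1
    rw [← map_pow]
    exact (QuotientGroup.eq_one_iff (x ^ 2)).2 (h x hx)
  intro x
  have h2 : x ∈ φ.ker := by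
    apply h1; rw [hX]; trivial
  rw [MonoidHom.mem_ker] at h2
  change (Abelianization.of x) ^ 2 = 1 at h2
  rw [← map_pow] at h2
  exact (QuotientGroup.eq_one_iff (x ^ 2)).1 h2

theorem EA.of_exp {P : Type*} [Group P] (h : ∀ x : P, x ^ 2 = 1) : EA P := fun x => by
  rw [h x]; exact one_mem _

theorem EA.of_gen {P : Type*} [Group P] (X : Set P) (hX : Subgroup.closure X = ⊤)
    (h : ∀ x ∈ X, x ^ 2 = 1) : EA P := EA.of_closure X hX fun x hx => by rw [h x hx]; exact one_mem _

/-- product of two subgroups -/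
theorem EA.of_sup {P : Type*} [Group P] (E T : Subgroup P) (hE : EA E) (hT : EA T) (h : E ⊔ T = ⊤) : EA P := by
  refine EA.of_closure ((E : Set P) ∪ T) ?_ ?_
  · rw [← Subgroup.sup_eq_closure]; exact h
  · rintro x (hx | hx)
    · exact map_comm_le E.subtype (hE ⟨x, hx⟩)
    · exact map_comm_le T.subtype (hT ⟨x, hx⟩)

theorem EA.pi {ι : Type*} [Finite ι] {P : ι → Type*} [∀ i, Group (P i)] (h : ∀ i, EA (P i)) : EA (∀ i, P i) := by
  classical
  have : Fintype ι := Fintype.ofFinite ι
  let φ : (∀ i, P i) →* Abelianization (∀ i, P i) := (powMonoidHom 2).comp Abelianization.of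
  have h1 : φ = 1 := by
    refine MonoidHom.pi_ext fun i g => ?_
    change (Abelianization.of (Pi.mulSingle i g)) ^ 2 = 1
    rw [← map_pow]
    refine (QuotientGroup.eq_one_iff _).2 ?_
    have h2 : (Pi.mulSingle i g : ∀ i, P i) ^ 2 = MonoidHom.mulSingle P i (g ^ 2) := by
      rw [map_pow]; rfl
    rw [h2]
    exact map_comm_le _ (h i g)
  intro x
  have h2 : φ x = 1 := by rw [h1]; rfl
  change (Abelianization.of x) ^ 2 = 1 at h2
  rw [← map_pow] at h2
  exact (QuotientGroup.eq_one_iff (x ^ 2)).1 h2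

theorem EA.prod {P Q : Type*} [Group P] [Group Q] (hP : EA P) (hQ : EA Q) : EA (P × Q) := by
  refine EA.of_sup (MonoidHom.inl P Q).range (MonoidHom.inr P Q).range ?_ ?_ ?_
  · exact hP.congr (MonoidHom.ofInjective (f := MonoidHom.inl P Q) fun a b h => congrArg Prod.fst h)
  · exact hQ.congr (MonoidHom.ofInjective (f := MonoidHom.inr P Q) fun a b h => congrArg Prod.snd h)
  · rw [eq_top_iff]
    rintro ⟨a, b⟩ -
    have : (a, b) = MonoidHom.inl P Q a * MonoidHom.inr P Q b := by simp
    rw [this]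
    exact mul_mem (Subgroup.mem_sup_left ⟨a, rfl⟩) (Subgroup.mem_sup_right ⟨b, rfl⟩)

theorem SEA.of_sylow {G : Type*} [Group G] [Finite G] (P : Sylow 2 G) (h : EA (P : Subgroup G)) : SEA G :=
  fun Q => h.congr (Sylow.equiv P Q)

theorem SEA.of_subgroup {G : Type*} [Group G] [Finite G] (P : Subgroup G)
    (hc : Nat.card P = 2 ^ (Nat.card G).factorization 2) (h : EA P) : SEA G :=
  SEA.of_sylow (Sylow.ofCard P hc) h

theorem card_sylow {G : Type*} [Group G] [Finite G] (P : Sylow 2 G) :
    Nat.card P = 2 ^ (Nat.card G).factorization 2 := Sylow.card_eq_multiplicity P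

/-- transfer along an injective homomorphism with image of odd index -/
theorem SEA.of_injective {H G : Type*} [Group H] [Group G] [Finite G] (f : H →* G) (hf : Function.Injective f)
    (hv : (Nat.card G).factorization 2 = (Nat.card H).factorization 2) (h : SEA H) : SEA G := by
  have : Finite H := Finite.of_injective f hf
  obtain ⟨P⟩ := (inferInstance : Nonempty (Sylow 2 H))
  have e : (P : Subgroup H) ≃* (P : Subgroup H).map f := (P : Subgroup H).equivMapOfInjective f hf
  refine SEA.of_subgroup ((P : Subgroup H).map f) ?_ ((h P).congr e)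
  rw [hv, ← card_sylow P]
  exact (Nat.card_congr e.toEquiv).symm

theorem SEA.congr {H G : Type*} [Group H] [Group G] [Finite G] (e : H ≃* G) (h : SEA H) : SEA G :=
  SEA.of_injective e.toMonoidHom e.injective (by rw [Nat.card_congr e.toEquiv]) h

/-- transfer along a surjection -/
theorem SEA.of_surjective {H G : Type*} [Group H] [Group G] [Finite H] (f : H →* G) (hf : Function.Surjective f)
    (h : SEA H) : SEA G := by
  have : Finite G := Finite.of_surjective f hf
  obtain ⟨P⟩ := (inferInstance : Nonempty (Sylow 2 H))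
  have h1 : ¬ 2 ∣ ((P : Subgroup H).map f).index := by
    intro h2
    exact P.not_dvd_index (h2.trans (Subgroup.index_map_dvd _ hf))
  have h2 : IsPGroup 2 ((P : Subgroup H).map f) := P.isPGroup'.map f
  refine SEA.of_sylow (h2.toSylow h1) ?_
  have : EA ((P : Subgroup H).map f) := (h P).of_surjective (f.subgroupMap (P : Subgroup H)) (f.subgroupMap_surjective _)
  exact this

/-- the main construction: `E` a 2-subgroup normalised by the image of `K` -/
theorem SEA.of_EK {G K : Type*} [Group G] [Finite G] [Group K] (E : Subgroup G) (σ : K →* G)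
    (hσ : Function.Injective σ) (hn : ∀ k, ∀ e ∈ E, σ k * e * (σ k)⁻¹ ∈ E) (hint : ∀ k, σ k ∈ E → k = 1)
    (hE2 : ∃ s, Nat.card E = 2 ^ s) (hE : EA E) (hK : SEA K)
    (hv : (Nat.card G).factorization 2 = (Nat.card E).factorization 2 + (Nat.card K).factorization 2) : SEA G := by
  have hfK : Finite K := Finite.of_injective σ hσ
  obtain ⟨T⟩ := (inferInstance : Nonempty (Sylow 2 K))
  let T' : Subgroup G := (T : Subgroup K).map σ
  have e : (T : Subgroup K) ≃* T' := (T : Subgroup K).equivMapOfInjective σ hσ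
  have hmem : ∀ x : G, x ∈ E ⊔ T' ↔ ∃ a ∈ E, ∃ b ∈ T', a * b = x := by
    intro x
    constructor
    · intro hx
      have hx' : x ∈ Subgroup.closure ((E : Set G) ∪ T') := by rw [← Subgroup.sup_eq_closure]; exact hx
      induction hx' using Subgroup.closure_induction_left with
      | one => exact ⟨1, one_mem _, 1, one_mem _, one_mul 1⟩
      | mul_left y hy z hz ih =>
        obtain ⟨a, ha, b, hb, rfl⟩ := ih (by rw [Subgroup.sup_eq_closure]; exact hz)
        rcases hy with hy | hy
        · exact ⟨y * a, mul_mem hy ha, b, hb, mul_assoc _ _ _⟩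
        · obtain ⟨t, ht, rfl⟩ := hy
          refine ⟨σ t * a * (σ t)⁻¹, hn t a ha, σ t * b, mul_mem ⟨t, ht, rfl⟩ hb, by group⟩
      | inv_mul_cancel y hy z hz ih =>
        obtain ⟨a, ha, b, hb, rfl⟩ := ih (by rw [Subgroup.sup_eq_closure]; exact hz)
        rcases hy with hy | hy
        · exact ⟨y⁻¹ * a, mul_mem (inv_mem hy) ha, b, hb, mul_assoc _ _ _⟩
        · obtain ⟨t, ht, rfl⟩ := hy
          have h1 := hn t⁻¹ a ha
          rw [map_inv, inv_inv] at h1
          refine ⟨(σ t)⁻¹ * a * σ t, h1, (σ t)⁻¹ * b, mul_mem (inv_mem ⟨t, ht, rfl⟩) hb, by group⟩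
    · rintro ⟨a, ha, b, hb, rfl⟩
      exact mul_mem (Subgroup.mem_sup_left ha) (Subgroup.mem_sup_right hb)
  have hcard : Nat.card (E ⊔ T' : Subgroup G) = Nat.card E * Nat.card T := by
    rw [← Nat.card_prod]
    refine (Nat.card_congr (Equiv.ofBijective (fun p : E × T => (⟨(p.1 : G) * σ p.2,
      mul_mem (Subgroup.mem_sup_left p.1.2) (Subgroup.mem_sup_right ⟨p.2, p.2.2, rfl⟩)⟩ : (E ⊔ T' : Subgroup G))) ⟨?_, ?_⟩)).symm
    · rintro ⟨⟨a, ha⟩, ⟨t, ht⟩⟩ ⟨⟨a', ha'⟩, ⟨t', ht'⟩⟩ h
      have h1 : a * σ t = a' * σ t' := congrArg Subtype.val h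
      have h2 : σ (t' * t⁻¹) = a'⁻¹ * a := by
        rw [map_mul, map_inv, mul_inv_eq_iff_eq_mul, mul_assoc, h1]; group
      have h3 : t' * t⁻¹ = 1 := hint _ (by rw [h2]; exact mul_mem (inv_mem ha') ha)
      have h4 : t' = t := mul_inv_eq_one.1 h3
      subst h4
      have h5 : a = a' := mul_right_cancel h1
      subst h5
      rfl
    · rintro ⟨x, hx⟩
      obtain ⟨a, ha, _, ⟨t, ht, rfl⟩, rfl⟩ := (hmem x).1 hx
      exact ⟨(⟨a, ha⟩, ⟨t, ht⟩), rfl⟩
  refine SEA.of_subgroup (E ⊔ T') ?_ ?_
  · obtain ⟨s, hs⟩ := hE2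
    rw [hcard, card_sylow T, hv, hs, pow_add]
    congr 2
    rw [Nat.Prime.factorization_pow Nat.prime_two]
    simp
  · refine EA.of_sup (E.subgroupOf (E ⊔ T')) (T'.subgroupOf (E ⊔ T')) ?_ ?_ ?_
    · exact hE.congr (Subgroup.subgroupOfEquivOfLe le_sup_left).symm
    · exact ((hK T).congr e).congr (Subgroup.subgroupOfEquivOfLe le_sup_right).symm
    · rw [← Subgroup.subgroupOf_sup le_sup_left le_sup_right]
      exact Subgroup.subgroupOf_self _

end Cfsg.Agent.H53.SEA
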