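import Mathlib
import Cfsg.Agent.H53.SEA

set_option autoImplicit false
set_option linter.dupNamespace false

/-!
# A criterion with an inverted subgroup (helper53)
-/

namespace Cfsg.Agent.H53.SEA

open scoped commutatorElement

section dih

variable {G : Type*} [Group G] (S : Subgroup G) (w : G) (hw : ∀ t ∈ S, w * t * w⁻¹ = t⁻¹) (hw2 : w ^ 2 ∈ S)

include hw in
theorem inv_conj' {t : G} (ht : t ∈ S) : w⁻¹ * t * w = t⁻¹ := by
  have h := hw t⁻¹ (inv_mem ht)
  rw [inv_inv] at h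
  conv_lhs => rw [← h]
  group

include hw in
theorem comm_of_inv {s t : G} (hs : s ∈ S) (ht : t ∈ S) : s * t = t * s := by
  have h := hw (s * t) (mul_mem hs ht)
  have h1 : w * (s * t) * w⁻¹ = (w * s * w⁻¹) * (w * t * w⁻¹) := by group
  rw [h1, hw s hs, hw t ht, mul_inv_rev] at h
  have h2 := congrArg (·⁻¹) h
  simp only [mul_inv_rev, inv_inv] at h2
  exact h2.symm

/-- the subgroup `S ∪ S w⁻¹` -/
def dsub : Subgroup G where
  carrier := {x | x ∈ S ∨ x * w ∈ S}
  one_mem' := Or.inl (one_mem _)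
  mul_mem' := by
    rintro x y (hx | hx) (hy | hy)
    · exact Or.inl (mul_mem hx hy)
    · exact Or.inr (by rw [mul_assoc]; exact mul_mem hx hy)
    · refine Or.inr ?_
      have h1 : x * y * w = (x * w) * (w⁻¹ * y * w) := by group
      rw [h1, inv_conj' S w hw hy]
      exact mul_mem hx (inv_mem hy)
    · refine Or.inl ?_
      have h1 : x * y = (x * w) * (w⁻¹ * (y * w) * w) * (w ^ 2)⁻¹ := by group
      rw [h1, inv_conj' S w hw hy]
      exact mul_mem (mul_mem hx (inv_mem hy)) (inv_mem hw2)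
  inv_mem' := by
    rintro x (hx | hx)
    · exact Or.inl (inv_mem hx)
    · refine Or.inr ?_
      have h1 : x⁻¹ * w = (w * (x * w)⁻¹ * w⁻¹) * w ^ 2 := by group
      rw [h1, hw _ (inv_mem hx)]
      exact mul_mem (inv_mem (inv_mem hx)) hw2

theorem mem_dsub {x : G} : x ∈ dsub S w hw hw2 ↔ (x ∈ S ∨ x * w ∈ S) := Iff.rfl

theorem card_dsub (hwS : w ∉ S) : Nat.card (dsub S w hw hw2) = 2 * Nat.card S := by
  have hle : S ≤ dsub S w hw hw2 := fun x hx => Or.inl hx
  have h1 : (S.subgroupOf (dsub S w hw hw2)).index = 2 := by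
    rw [Subgroup.index_eq_two_iff]
    refine ⟨⟨w, Or.inr (by rw [← sq]; exact hw2)⟩, ?_⟩
    rintro ⟨b, hb⟩
    rw [Subgroup.mem_subgroupOf, Subgroup.mem_subgroupOf]
    change Xor (b * w ∈ S) (b ∈ S)
    rcases hb with hb | hb
    · refine Or.inr ⟨hb, fun h => hwS ?_⟩
      have := mul_mem (inv_mem hb) h
      rwa [inv_mul_cancel_left] at this
    · refine Or.inl ⟨hb, fun h => hwS ?_⟩
      have := mul_mem (inv_mem h) hb
      rwa [inv_mul_cancel_left] at this
  have h2 := (S.subgroupOf (dsub S w hw hw2)).card_mul_index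
  rw [h1, Nat.card_congr (Subgroup.subgroupOfEquivOfLe hle).toEquiv] at h2
  rw [← h2, mul_comm]

theorem ea_dsub (u : G) (hu : u ∈ S) (huw : u ^ 2 = w ^ 2) : EA (dsub S w hw hw2) := by
  have hwm : w ∈ dsub S w hw hw2 := Or.inr (by rw [← sq]; exact hw2)
  have key : ∀ t (ht : t ∈ S), (⟨t, Or.inl ht⟩ : dsub S w hw hw2) ^ 2 ∈ commutator (dsub S w hw hw2) := by
    intro t ht
    have h1 : (⟨t, Or.inl ht⟩ : dsub S w hw hw2) ^ 2 = ⁅(⟨t, Or.inl ht⟩ : dsub S w hw hw2), ⟨w, hwm⟩⁆ := by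
      apply Subtype.ext
      change t ^ 2 = t * w * t⁻¹ * w⁻¹
      have h2 : t * w * t⁻¹ * w⁻¹ = t * (w * t⁻¹ * w⁻¹) := by group
      rw [h2, hw _ (inv_mem ht), inv_inv, sq]
    rw [h1]
    exact Subgroup.commutator_mem_commutator (Subgroup.mem_top _) (Subgroup.mem_top _)
  refine EA.of_closure ({x : dsub S w hw hw2 | (x : G) ∈ S} ∪ {⟨w, hwm⟩}) ?_ ?_
  · rw [eq_top_iff]
    rintro ⟨x, hx⟩ -
    rcases id hx with hx' | hx'
    · exact Subgroup.subset_closure (Or.inl hx')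
    · have h1 : (⟨x, hx⟩ : dsub S w hw hw2) = ⟨x * w, Or.inl hx'⟩ * (⟨w, hwm⟩)⁻¹ := by
        apply Subtype.ext
        change x = x * w * w⁻¹
        group
      rw [h1]
      exact mul_mem (Subgroup.subset_closure (Or.inl hx')) (inv_mem (Subgroup.subset_closure (Or.inr rfl)))
  · rintro ⟨x, hx⟩ (hx' | hx')
    · exact key x hx'
    · rw [Set.mem_singleton_iff] at hx'
      rw [hx']
      have h1 : (⟨w, hwm⟩ : dsub S w hw hw2) ^ 2 = ⟨u, Or.inl hu⟩ ^ 2 := Subtype.ext huw.symm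
      rw [h1]
      exact key u hu

end dih

/-- a Sylow subgroup obtained from an inverted subgroup -/
theorem SEA.of_inverted {G : Type*} [Group G] [Finite G] (T : Subgroup G) (w : G)
    (hw : ∀ t ∈ T, w * t * w⁻¹ = t⁻¹) (hwT : w ∉ T) (u : G) (hu : u ∈ T) (huw : u ^ 2 = w ^ 2)
    (hu2 : ∃ k, u ^ (2 ^ k) = 1)
    (hv : (Nat.card G).factorization 2 = 1 + (Nat.card T).factorization 2) : SEA G := by
  have h1 : IsPGroup 2 (Subgroup.zpowers (⟨u, hu⟩ : T)) := by
    rintro ⟨_, n, rfl⟩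
    obtain ⟨k, hk⟩ := hu2
    refine ⟨k, ?_⟩
    apply Subtype.ext
    apply Subtype.ext
    change (u ^ n) ^ (2 ^ k) = 1
    rw [← zpow_natCast, ← zpow_mul, mul_comm, zpow_mul, zpow_natCast, hk, one_zpow]
  obtain ⟨S, hS⟩ := h1.exists_le_sylow
  let S' : Subgroup G := (S : Subgroup T).map T.subtype
  have hSle : S' ≤ T := Subgroup.map_subtype_le _
  have huS : u ∈ S' := ⟨⟨u, hu⟩, hS (Subgroup.mem_zpowers _), rfl⟩
  have hcS : Nat.card S' = 2 ^ (Nat.card T).factorization 2 := by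
    rw [← card_sylow S]
    exact (Nat.card_congr ((S : Subgroup T).equivMapOfInjective T.subtype T.subtype_injective).toEquiv).symm
  have hw' : ∀ t ∈ S', w * t * w⁻¹ = t⁻¹ := fun t ht => hw t (hSle ht)
  have hw2 : w ^ 2 ∈ S' := by rw [← huw]; exact pow_mem huS 2
  refine SEA.of_subgroup (dsub S' w hw' hw2) ?_ (ea_dsub S' w hw' hw2 u huS huw)
  rw [card_dsub S' w hw' hw2 (fun h => hwT (hSle h)), hcS, hv, pow_add, pow_one]

end Cfsg.Agent.H53.SEA
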