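import Mathlib
import Cfsg.Agent.H53.SEA

set_option autoImplicit false
set_option linter.dupNamespace false

/-!
# Sylow 2-subgroups of symmetric and alternating groups (helper53)
-/

namespace Cfsg.Agent.H53.SEA

open Equiv

theorem SEA.of_subsingleton {G : Type*} [Group G] [Subsingleton G] : SEA G := fun P x => by
  have : x ^ 2 = 1 := Subtype.ext (Subsingleton.elim _ _)
  rw [this]
  exact one_mem _

theorem fac_two_mul (k : ℕ) : (Nat.factorial (2 * k)).factorization 2 = k + (Nat.factorial k).factorization 2 := by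
  induction k with
  | zero => simp
  | succ k ih =>
    have h1 : 2 * (k + 1) = (2 * k + 1) + 1 := by ring
    rw [h1, Nat.factorial_succ, Nat.factorial_succ, Nat.factorial_succ k]
    have h2 : 2 * k + 1 + 1 = 2 * (k + 1) := by ring
    rw [h2]
    rw [Nat.factorization_mul (by positivity) (by positivity), Nat.factorization_mul (by positivity) (by positivity),
      Nat.factorization_mul (by positivity) (by positivity), Nat.factorization_mul (by positivity) (by positivity)]
    simp only [Finsupp.add_apply]
    rw [ih]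
    have h3 : (2 * k + 1).factorization 2 = 0 := Nat.factorization_eq_zero_of_not_dvd (by omega)
    rw [h3, Nat.prime_two.factorization]
    simp
    ring

/-- the base group of the wreath product -/
def bas (k : ℕ) : (Fin k → Perm (Fin 2)) →* Perm (Fin k × Fin 2) where
  toFun v := Equiv.prodCongrRight v
  map_one' := by ext x <;> rfl
  map_mul' v w := by ext x <;> rfl

theorem bas_inj (k : ℕ) : Function.Injective (bas k) := by
  intro v w h
  funext i
  ext j
  have h1 := congrArg (fun g : Perm (Fin k × Fin 2) => (g (i, j)).2) h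
  exact congrArg Fin.val h1

/-- block permutations -/
def blk (k : ℕ) : Perm (Fin k) →* Perm (Fin k × Fin 2) where
  toFun v := Equiv.prodCongrLeft (fun _ : Fin 2 => v)
  map_one' := by ext x <;> rfl
  map_mul' v w := by ext x <;> rfl

theorem blk_apply (k : ℕ) (v : Perm (Fin k)) (x : Fin k × Fin 2) : blk k v x = (v x.1, x.2) := by
  rfl

theorem bas_apply (k : ℕ) (v : Fin k → Perm (Fin 2)) (x : Fin k × Fin 2) : bas k v x = (x.1, v x.1 x.2) := rfl

theorem blk_inj (k : ℕ) : Function.Injective (blk k) := by
  intro v w h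
  ext i
  have h1 := congrArg (fun g : Perm (Fin k × Fin 2) => (g (i, 0)).1) h
  exact congrArg Fin.val h1

theorem blk_conj (k : ℕ) (s : Perm (Fin k)) (v : Fin k → Perm (Fin 2)) :
    blk k s * bas k v * (blk k s)⁻¹ = bas k (fun i => v (s⁻¹ i)) := by
  rw [mul_inv_eq_iff_eq_mul]
  ext x
  · simp [blk_apply, bas_apply]
  · simp [blk_apply, bas_apply]

theorem sign_blk (k : ℕ) (s : Perm (Fin k)) : Perm.sign (blk k s) = 1 := by
  change Perm.sign (Equiv.prodCongrLeft (fun _ : Fin 2 => s)) = 1
  rw [Perm.sign_prodCongrLeft]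
  simp [Finset.prod_const]

theorem perm2_sq (g : Perm (Fin 2)) : g ^ 2 = 1 := by
  revert g; decide

theorem sea_perm (n : ℕ) : SEA (Perm (Fin n)) := by
  induction n using Nat.strong_induction_on with
  | _ n ih =>
    rcases Nat.even_or_odd' n with ⟨k, rfl | rfl⟩
    · rcases Nat.eq_zero_or_pos k with rfl | hk
      · have : Subsingleton (Perm (Fin (2 * 0))) := inferInstanceAs (Subsingleton (Perm (Fin 0)))
        exact SEA.of_subsingleton
      · have h1 : SEA (Perm (Fin k × Fin 2)) := by
          refine SEA.of_EK (bas k).range (blk k) (blk_inj k) ?_ ?_ ⟨k, ?_⟩ ?_ (ih k (by omega)) ?_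
          · rintro s _ ⟨v, rfl⟩
            rw [blk_conj]
            exact ⟨_, rfl⟩
          · rintro s ⟨v, hv⟩
            ext i
            have h1 := congrArg (fun g : Perm (Fin k × Fin 2) => (g (i, 0)).1) hv
            exact congrArg Fin.val h1.symm
          · rw [← Nat.card_congr (MonoidHom.ofInjective (bas_inj k)).toEquiv, Nat.card_pi]
            simp [Fintype.card_perm]
          · refine EA.of_exp ?_
            rintro ⟨_, v, rfl⟩
            apply Subtype.ext
            change (bas k v) ^ 2 = 1
            rw [← map_pow]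
            have : v ^ 2 = 1 := funext fun i => perm2_sq (v i)
            rw [this, map_one]
          · rw [← Nat.card_congr (MonoidHom.ofInjective (bas_inj k)).toEquiv, Nat.card_pi, Nat.card_perm, Nat.card_perm]
            simp only [Nat.card_eq_fintype_card, Fintype.card_prod, Fintype.card_fin,
              Finset.prod_const, Finset.card_univ, Fintype.card_perm]
            rw [mul_comm k 2, fac_two_mul]
            simp [Nat.Prime.factorization Nat.prime_two]
        have e : Perm (Fin k × Fin 2) ≃* Perm (Fin (2 * k)) :=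
          (Equiv.permCongrHom ((finProdFinEquiv (m := k) (n := 2)).trans (finCongr (mul_comm k 2))))
        exact h1.congr e
    · have h1 := ih (2 * k) (by omega)
      refine SEA.of_injective (Perm.viaEmbeddingHom (Fin.castSuccEmb (n := 2 * k)))
        (Perm.viaEmbeddingHom_injective _) ?_ h1
      rw [Nat.card_perm, Nat.card_perm, Nat.card_fin, Nat.card_fin, Nat.factorial_succ,
        Nat.factorization_mul (by positivity) (by positivity)]
      simp only [Finsupp.add_apply]
      rw [Nat.factorization_eq_zero_of_not_dvd (by omega : ¬ 2 ∣ 2 * k + 1), zero_add]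

theorem sea_perm' {α : Type*} [Finite α] : SEA (Perm α) := by
  have := Fintype.ofFinite α
  exact (sea_perm (Fintype.card α)).congr (Equiv.permCongrHom (Fintype.equivFin α).symm)

theorem card_ker_mul_two {H : Type*} [Group H] (χ : H →* ℤˣ) (h : ∃ x, χ x ≠ 1) :
    Nat.card χ.ker * 2 = Nat.card H := by
  have hs : Function.Surjective χ := by
    obtain ⟨x, hx⟩ := h
    have hx' : χ x = -1 := by
      rcases Int.units_eq_one_or (χ x) with h | h
      · exact absurd h hx
      · exact h
    intro y
    rcases Int.units_eq_one_or y with rfl | rfl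
    · exact ⟨1, map_one _⟩
    · exact ⟨x, hx'⟩
  have h1 := χ.ker.card_mul_index
  rw [Subgroup.index_ker, MonoidHom.range_eq_top.2 hs] at h1
  rw [← h1]
  congr 1
  have : Nat.card (⊤ : Subgroup ℤˣ) = Nat.card ℤˣ := Nat.card_congr (Subgroup.topEquiv (G := ℤˣ)).toEquiv
  rw [this]
  simp

theorem sea_alt_two_mul (k : ℕ) : SEA (alternatingGroup (Fin k × Fin 2)) := by
  rcases Nat.eq_zero_or_pos k with rfl | hk
  · exact SEA.of_subsingleton
  have hne : Nonempty (Fin k) := ⟨⟨0, hk⟩⟩
  let i0 : Fin k := ⟨0, hk⟩
  let χ : (Fin k → Perm (Fin 2)) →* ℤˣ := (Perm.sign (α := Fin k × Fin 2)).comp (bas k)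
  let b : χ.ker →* alternatingGroup (Fin k × Fin 2) :=
    { toFun := fun v => ⟨bas k v.1, v.2⟩
      map_one' := Subtype.ext (map_one _)
      map_mul' := fun v w => Subtype.ext (map_mul _ _ _) }
  have hb : Function.Injective b := by
    intro v w h
    exact Subtype.ext (bas_inj k (congrArg Subtype.val h))
  let s : Perm (Fin k) →* alternatingGroup (Fin k × Fin 2) :=
    { toFun := fun v => ⟨blk k v, sign_blk k v⟩
      map_one' := Subtype.ext (map_one _)
      map_mul' := fun v w => Subtype.ext (map_mul _ _ _) }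
  have hs : Function.Injective s := by
    intro v w h
    exact blk_inj k (congrArg Subtype.val h)
  have hχ : ∃ x, χ x ≠ 1 := by
    refine ⟨Pi.mulSingle i0 (Equiv.swap 0 1), ?_⟩
    change Perm.sign (Equiv.prodCongrRight (Pi.mulSingle i0 (Equiv.swap (0 : Fin 2) 1))) ≠ 1
    rw [Perm.sign_prodCongrRight, Finset.prod_eq_single i0]
    · rw [Pi.mulSingle_eq_same, Perm.sign_swap (by decide)]
      decide
    · intro j _ hj
      rw [Pi.mulSingle_eq_of_ne hj, map_one]
    · intro h; exact absurd (Finset.mem_univ _) h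
  have hc := card_ker_mul_two χ hχ
  rw [Nat.card_pi] at hc
  simp only [Nat.card_eq_fintype_card, Fintype.card_fin, Fintype.card_perm,
              Finset.prod_const, Finset.card_univ] at hc
  have hnt : Nontrivial (Fin k × Fin 2) := ⟨⟨(i0, 0), (i0, 1), by simp⟩⟩
  have hA := two_mul_card_alternatingGroup (α := Fin k × Fin 2)
  rw [Fintype.card_perm, Fintype.card_prod, Fintype.card_fin, Fintype.card_fin, mul_comm k 2] at hA
  obtain ⟨k', rfl⟩ : ∃ k', k = k' + 1 := ⟨k - 1, by omega⟩
  have hc' : Nat.card χ.ker = 2 ^ k' := by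
    have : Nat.factorial 2 = 2 := rfl
    rw [this, pow_succ] at hc
    simp only [Nat.card_eq_fintype_card] at hc ⊢
    omega
  have hbc : Nat.card b.range = 2 ^ k' := by
    rw [← hc']
    exact (Nat.card_congr (MonoidHom.ofInjective hb).toEquiv).symm
  refine SEA.of_EK b.range s hs ?_ ?_ ⟨k', hbc⟩ ?_ (sea_perm _) ?_
  · rintro t _ ⟨⟨v, hv⟩, rfl⟩
    have h1 : (s t : Perm (Fin (k' + 1) × Fin 2)) * bas _ v * (s t : Perm (Fin (k' + 1) × Fin 2))⁻¹ =
      bas _ (fun i => v (t⁻¹ i)) := blk_conj _ t v
    refine ⟨⟨fun i => v (t⁻¹ i), ?_⟩, ?_⟩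
    · change Perm.sign (bas (k' + 1) fun i => v (t⁻¹ i)) = 1
      have hv' : Perm.sign (bas (k' + 1) v) = 1 := hv
      rw [← h1, map_mul, map_mul, hv', map_inv, mul_one, mul_inv_cancel]
    · exact Subtype.ext h1.symm
  · rintro t ⟨⟨v, _⟩, hv⟩
    ext i
    have h1 := congrArg (fun g : alternatingGroup (Fin (k' + 1) × Fin 2) => ((g : Perm (Fin (k' + 1) × Fin 2)) (i, 0)).1) hv
    exact congrArg Fin.val h1.symm
  · refine EA.of_exp ?_
    rintro ⟨_, ⟨v, hv⟩, rfl⟩
    apply Subtype.ext
    apply Subtype.ext
    change (bas (k' + 1) v) ^ 2 = 1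
    rw [← map_pow]
    have : v ^ 2 = 1 := funext fun i => perm2_sq (v i)
    rw [this, map_one]
  · rw [hbc, Nat.card_perm, Nat.card_fin]
    have h2 := congrArg (fun n => n.factorization 2) hA
    rw [fac_two_mul, Nat.factorization_mul (by norm_num) Fintype.card_ne_zero] at h2
    simp only [Finsupp.add_apply] at h2
    have h3 : Nat.factorization 2 2 = 1 := by rw [Nat.prime_two.factorization]; simp
    rw [h3] at h2
    have h4 : (2 ^ k').factorization 2 = k' := by rw [Nat.Prime.factorization_pow Nat.prime_two]; simp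
    rw [h4, Nat.card_eq_fintype_card]
    omega

end Cfsg.Agent.H53.SEA
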