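import Mathlib
import Cfsg.Agent.H53.SEAPerm

set_option autoImplicit false
set_option linter.dupNamespace false

/-!
# Wreath products (helper53)
-/

namespace Cfsg.Agent.H53.SEA

open Matrix

/-- the image of a power of a subgroup -/
theorem ea_piMap {ι S G : Type*} [Finite ι] [Group S] [Group G] (Δ : (ι → S) →* G) (hΔ : Function.Injective Δ)
    (P : Subgroup S) (hP : EA P) : EA ((Subgroup.pi Set.univ (fun _ : ι => P)).map Δ) := by
  have h1 : EA (ι → P) := EA.pi (fun _ => hP)
  let f : (ι → P) →* (Subgroup.pi Set.univ (fun _ : ι => P)) :=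
    { toFun := fun v => ⟨fun i => (v i : S), fun i _ => (v i).2⟩
      map_one' := rfl
      map_mul' := fun v w => rfl }
  have hf : Function.Surjective f := by
    rintro ⟨v, hv⟩
    exact ⟨fun i => ⟨v i, hv i trivial⟩, rfl⟩
  exact (h1.of_surjective f hf).congr ((Subgroup.pi Set.univ (fun _ : ι => P)).equivMapOfInjective Δ hΔ)

theorem card_piMap {ι S G : Type*} [Fintype ι] [Group S] [Group G] (Δ : (ι → S) →* G) (hΔ : Function.Injective Δ)
    (P : Subgroup S) : Nat.card ((Subgroup.pi Set.univ (fun _ : ι => P)).map Δ) = Nat.card P ^ Fintype.card ι := by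
  rw [← Nat.card_congr ((Subgroup.pi Set.univ (fun _ : ι => P)).equivMapOfInjective Δ hΔ).toEquiv]
  have e : (Subgroup.pi Set.univ (fun _ : ι => P)) ≃ (ι → P) :=
    { toFun := fun v i => ⟨v.1 i, v.2 i trivial⟩
      invFun := fun v => ⟨fun i => (v i : S), fun i _ => (v i).2⟩
      left_inv := fun v => rfl
      right_inv := fun v => rfl }
  rw [Nat.card_congr e, Nat.card_pi, Finset.prod_const, Finset.card_univ]

/-- wreath products -/
theorem SEA.of_wreath {S G : Type*} [Group S] [Group G] [Finite G] (n : ℕ) (Δ : (Fin n → S) →* G)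
    (hΔ : Function.Injective Δ) (σ : Equiv.Perm (Fin n) →* G) (hσ : Function.Injective σ)
    (hc : ∀ s v, σ s * Δ v * (σ s)⁻¹ = Δ (fun i => v (s⁻¹ i)))
    (hi : ∀ s v, σ s = Δ v → s = 1) (hS : SEA S)
    (hv : (Nat.card G).factorization 2 = n * (Nat.card S).factorization 2 + (Nat.factorial n).factorization 2) :
    SEA G := by
  rcases Nat.eq_zero_or_pos n with rfl | hn
  · -- the group has odd order
    have h0 : (Nat.card G).factorization 2 = 0 := by simpa using hv
    refine SEA.of_subgroup (⊥ : Subgroup G) ?_ ?_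
    · rw [h0]; simp
    · intro x
      have : x ^ 2 = 1 := Subsingleton.elim _ _
      rw [this]; exact one_mem _
  have : Nonempty (Fin n) := ⟨⟨0, hn⟩⟩
  have hfS : Finite S := by
    have : Function.Injective (fun s : S => Δ (fun _ => s)) := by
      intro a b h
      exact congrFun (hΔ h) (Classical.arbitrary (Fin n))
    exact Finite.of_injective _ this
  obtain ⟨P⟩ := (inferInstance : Nonempty (Sylow 2 S))
  have hcE : Nat.card ((Subgroup.pi Set.univ (fun _ : Fin n => (P : Subgroup S))).map Δ) =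
      2 ^ ((Nat.card S).factorization 2 * n) := by
    rw [card_piMap Δ hΔ, Fintype.card_fin, card_sylow P, ← pow_mul]
  refine SEA.of_EK ((Subgroup.pi Set.univ (fun _ : Fin n => (P : Subgroup S))).map Δ) σ hσ ?_ ?_ ⟨_, hcE⟩
    (ea_piMap Δ hΔ _ (hS P)) (sea_perm n) ?_
  · rintro s _ ⟨v, hv, rfl⟩
    rw [hc]
    exact ⟨_, fun i _ => hv _ trivial, rfl⟩
  · rintro s ⟨v, -, h⟩
    exact hi s v h.symm
  · rw [hcE, hv, Nat.card_perm, Nat.card_fin, Nat.Prime.factorization_pow Nat.prime_two, mul_comm n]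
    simp

/-- permutation matrices -/
def pm {ι : Type*} [DecidableEq ι] (F : Type*) [Zero F] [One F] (σ : Equiv.Perm ι) : Matrix ι ι F :=
  Matrix.of fun i j => if i = σ j then 1 else 0

section pm

variable {ι : Type*} [DecidableEq ι] [Fintype ι] {F : Type*} [CommRing F]

theorem pm_apply (σ : Equiv.Perm ι) (i j : ι) : pm F σ i j = if i = σ j then 1 else 0 := rfl

theorem pm_one : pm F (1 : Equiv.Perm ι) = 1 := by
  ext i j
  rw [pm_apply, Matrix.one_apply]
  rfl

theorem pm_mul_apply (σ : Equiv.Perm ι) (A : Matrix ι ι F) (i j : ι) : (pm F σ * A) i j = A (σ⁻¹ i) j := by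
  rw [Matrix.mul_apply, Finset.sum_eq_single (σ⁻¹ i)]
  · rw [pm_apply, if_pos (by simp), one_mul]
  · intro k _ hk
    rw [pm_apply, if_neg, zero_mul]
    rintro rfl
    exact hk (by simp)
  · intro h; exact absurd (Finset.mem_univ _) h

theorem mul_pm_apply (σ : Equiv.Perm ι) (A : Matrix ι ι F) (i j : ι) : (A * pm F σ) i j = A i (σ j) := by
  rw [Matrix.mul_apply, Finset.sum_eq_single (σ j)]
  · rw [pm_apply, if_pos rfl, mul_one]
  · intro k _ hk
    rw [pm_apply, if_neg hk, mul_zero]
  · intro h; exact absurd (Finset.mem_univ _) h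

theorem pm_mul (σ τ : Equiv.Perm ι) : pm F (σ * τ) = pm F σ * pm F τ := by
  ext i j
  rw [pm_mul_apply, pm_apply, pm_apply]
  congr 1
  rw [Equiv.Perm.mul_apply, eq_iff_iff]
  constructor
  · rintro rfl; simp
  · intro h; rw [← h]; simp

theorem pm_transpose (σ : Equiv.Perm ι) : (pm F σ)ᵀ = pm F σ⁻¹ := by
  ext i j
  rw [Matrix.transpose_apply, pm_apply, pm_apply]
  congr 1
  rw [eq_iff_iff]
  constructor
  · rintro rfl; simp
  · rintro rfl; simp

theorem pm_inv_mul (σ : Equiv.Perm ι) : pm F σ * pm F σ⁻¹ = 1 := by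
  rw [← pm_mul, mul_inv_cancel, pm_one]

theorem pm_injective [Nontrivial F] : Function.Injective (pm F : Equiv.Perm ι → Matrix ι ι F) := by
  intro σ τ h
  ext j
  have h1 := congrFun (congrFun h (σ j)) j
  rw [pm_apply, pm_apply, if_pos rfl] at h1
  by_contra hne
  rw [if_neg hne] at h1
  exact one_ne_zero h1

theorem det_pm (σ : Equiv.Perm ι) : (pm F σ).det = (Equiv.Perm.sign σ : ℤ) := by
  have h1 : pm F σ = (σ⁻¹).permMatrix F := by
    ext i j
    rw [pm_apply, Equiv.Perm.permMatrix, PEquiv.toMatrix_toPEquiv_eq]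
    rw [Matrix.submatrix_apply, Matrix.one_apply]
    congr 1
    rw [eq_iff_iff]
    constructor
    · rintro rfl; simp
    · rintro h
      simp only [id] at h
      rw [← h]; simp
  rw [h1, Matrix.det_permutation, Equiv.Perm.sign_inv]

end pm

end Cfsg.Agent.H53.SEA
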