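import Mathlib
import Cfsg.Agent.H53.SEAWr

set_option autoImplicit false
set_option linter.dupNamespace false

/-!
# Sylow subgroups of normal subgroups (helper53)
-/

namespace Cfsg.Agent.H53.SEA

/-- a Sylow subgroup meets a normal subgroup in a Sylow subgroup -/
theorem card_inf_normal {G : Type*} [Group G] [Finite G] (N P : Subgroup G) [hN : N.Normal]
    (hP : Nat.card P = 2 ^ (Nat.card G).factorization 2) :
    Nat.card (N ⊓ P : Subgroup G) = 2 ^ (Nat.card N).factorization 2 := by
  have h1 : N.relIndex P ∣ N.index := Subgroup.relIndex_dvd_index_of_normal N P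
  have h2 : Nat.card (N ⊓ P : Subgroup G) * N.relIndex P = Nat.card P := by
    have := (N.subgroupOf P).card_mul_index
    rw [← this]
    congr 1
    have h3 : N ⊓ P = (N.subgroupOf P).map P.subtype := by
      rw [Subgroup.subgroupOf_map_subtype]
    rw [h3]
    exact (Nat.card_congr ((N.subgroupOf P).equivMapOfInjective P.subtype P.subtype_injective).toEquiv).symm
  have h4 : Nat.card N * N.index = Nat.card G := N.card_mul_index
  have hi0 : N.index ≠ 0 := Subgroup.index_ne_zero_of_finite
  have h5 : (Nat.card G).factorization 2 = (Nat.card N).factorization 2 + N.index.factorization 2 := by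
    rw [← h4, Nat.factorization_mul Nat.card_pos.ne' hi0]; rfl
  have hd : Nat.card (N ⊓ P : Subgroup G) ∣ 2 ^ (Nat.card G).factorization 2 := by
    rw [← hP, ← h2]; exact dvd_mul_right _ _
  obtain ⟨a, ha, ha'⟩ := (Nat.dvd_prime_pow Nat.prime_two).1 hd
  have hd2 : N.relIndex P ∣ 2 ^ (Nat.card G).factorization 2 := by
    rw [← hP, ← h2]; exact dvd_mul_left _ _
  obtain ⟨b, hb, hb'⟩ := (Nat.dvd_prime_pow Nat.prime_two).1 hd2
  have hab : a + b = (Nat.card G).factorization 2 := by
    rw [ha', hb', hP, ← pow_add] at h2
    exact Nat.pow_right_injective le_rfl h2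
  have hb2 : b ≤ N.index.factorization 2 := by
    rw [hb'] at h1
    exact (Nat.prime_two.pow_dvd_iff_le_factorization hi0).1 h1
  have ha2 : a ≤ (Nat.card N).factorization 2 := by
    have : Nat.card (N ⊓ P : Subgroup G) ∣ Nat.card N := Subgroup.card_dvd_of_le inf_le_left
    rw [ha'] at this
    exact (Nat.prime_two.pow_dvd_iff_le_factorization Nat.card_pos.ne').1 this
  rw [ha']
  congr 1
  omega

/-- a Sylow subgroup pulled back along an injection with normal image -/
theorem card_comap_normal {H G : Type*} [Group H] [Group G] [Finite G] (f : H →* G) (hf : Function.Injective f)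
    (hN : f.range.Normal) (P : Subgroup G) (hP : Nat.card P = 2 ^ (Nat.card G).factorization 2) :
    Nat.card (P.comap f) = 2 ^ (Nat.card H).factorization 2 := by
  have h1 := card_inf_normal f.range P hP
  rw [← Nat.card_congr (MonoidHom.ofInjective hf).toEquiv] at h1
  rw [← h1]
  have h2 : f.range ⊓ P = (P.comap f).map f := by
    rw [Subgroup.map_comap_eq]
  rw [h2]
  exact Nat.card_congr ((P.comap f).equivMapOfInjective f hf).toEquiv

end Cfsg.Agent.H53.SEA
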