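import Mathlib
import Cfsg.Agent.H53.SEADih
import Cfsg.Agent.OrthCount.Binary
import Cfsg.Agent.H81.SL2Card

set_option autoImplicit false
set_option linter.dupNamespace false

/-!
# Sylow 2-subgroups of SL(2,q), q odd (helper53)
-/

namespace Cfsg.Agent.H53.SEA

open Matrix

variable {F : Type*} [Field F]

/-- the torus `a² + b² = 1` -/
def tor (F : Type*) [Field F] : Subgroup (SpecialLinearGroup (Fin 2) F) where
  carrier := {A | (A : Matrix (Fin 2) (Fin 2) F) 0 0 = (A : Matrix (Fin 2) (Fin 2) F) 1 1 ∧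
    (A : Matrix (Fin 2) (Fin 2) F) 0 1 = - (A : Matrix (Fin 2) (Fin 2) F) 1 0}
  one_mem' := by
    change ((1 : SpecialLinearGroup (Fin 2) F) : Matrix (Fin 2) (Fin 2) F) 0 0 =
      ((1 : SpecialLinearGroup (Fin 2) F) : Matrix (Fin 2) (Fin 2) F) 1 1 ∧
      ((1 : SpecialLinearGroup (Fin 2) F) : Matrix (Fin 2) (Fin 2) F) 0 1 =
      - ((1 : SpecialLinearGroup (Fin 2) F) : Matrix (Fin 2) (Fin 2) F) 1 0
    rw [Matrix.SpecialLinearGroup.coe_one]
    simp
  mul_mem' := by
    rintro A B ⟨h1, h2⟩ ⟨h3, h4⟩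
    change ((A * B : SpecialLinearGroup (Fin 2) F) : Matrix (Fin 2) (Fin 2) F) 0 0 =
      ((A * B : SpecialLinearGroup (Fin 2) F) : Matrix (Fin 2) (Fin 2) F) 1 1 ∧
      ((A * B : SpecialLinearGroup (Fin 2) F) : Matrix (Fin 2) (Fin 2) F) 0 1 =
      - ((A * B : SpecialLinearGroup (Fin 2) F) : Matrix (Fin 2) (Fin 2) F) 1 0
    rw [Matrix.SpecialLinearGroup.coe_mul]
    simp only [Matrix.mul_apply, Fin.sum_univ_two]
    rw [h1, h2, h3, h4]
    constructor <;> ring
  inv_mem' := by
    rintro A ⟨h1, h2⟩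
    change ((A⁻¹ : SpecialLinearGroup (Fin 2) F) : Matrix (Fin 2) (Fin 2) F) 0 0 =
      ((A⁻¹ : SpecialLinearGroup (Fin 2) F) : Matrix (Fin 2) (Fin 2) F) 1 1 ∧
      ((A⁻¹ : SpecialLinearGroup (Fin 2) F) : Matrix (Fin 2) (Fin 2) F) 0 1 =
      - ((A⁻¹ : SpecialLinearGroup (Fin 2) F) : Matrix (Fin 2) (Fin 2) F) 1 0
    rw [Matrix.SpecialLinearGroup.coe_inv, Matrix.adjugate_fin_two]
    exact ⟨h1.symm, by change - _ = - - _; rw [h2]⟩

theorem mem_tor {A : SpecialLinearGroup (Fin 2) F} : A ∈ tor F ↔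
    ((A : Matrix (Fin 2) (Fin 2) F) 0 0 = (A : Matrix (Fin 2) (Fin 2) F) 1 1 ∧
    (A : Matrix (Fin 2) (Fin 2) F) 0 1 = - (A : Matrix (Fin 2) (Fin 2) F) 1 0) := Iff.rfl

theorem det_eq (A : SpecialLinearGroup (Fin 2) F) : (A : Matrix (Fin 2) (Fin 2) F) 0 0 * (A : Matrix (Fin 2) (Fin 2) F) 1 1 -
    (A : Matrix (Fin 2) (Fin 2) F) 0 1 * (A : Matrix (Fin 2) (Fin 2) F) 1 0 = 1 := by
  have := A.det_coe
  rwa [Matrix.det_fin_two] at this

/-- `tor` is the set of solutions of `a² + b² = 1` -/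
def torEquiv (F : Type*) [Field F] : tor F ≃ {z : F × F // OrthCount.bin (0 : F) 1 z = 1} where
  toFun A := ⟨(A.1 0 0, A.1 1 0), by
    have h := det_eq A.1
    rw [← A.2.1, A.2.2] at h
    rw [OrthCount.bin_apply]
    linear_combination h⟩
  invFun z := ⟨⟨!![z.1.1, - z.1.2; z.1.2, z.1.1], by
    have h := z.2
    rw [OrthCount.bin_apply] at h
    rw [Matrix.det_fin_two_of]
    linear_combination h⟩, ⟨rfl, rfl⟩⟩
  left_inv A := by
    apply Subtype.ext
    apply Subtype.ext
    obtain ⟨h1, h2⟩ := A.2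
    ext i j
    fin_cases i <;> fin_cases j
    · rfl
    · exact h2.symm
    · rfl
    · exact h1
  right_inv z := by
    apply Subtype.ext
    rfl

theorem exists_sq_add_sq_neg_one (F : Type*) [Field F] [Fintype F] : ∃ c d : F, c ^ 2 + d ^ 2 = -1 := by
  obtain ⟨p, hp⟩ := CharP.exists F
  have hp' : Fact p.Prime := ⟨CharP.char_is_prime F p⟩
  obtain ⟨a, b, h⟩ := CharP.sq_add_sq F p (-1)
  exact ⟨a, b, by simpa using h⟩

theorem card_split [Fintype F] (h2 : (2 : F) ≠ 0) {i : F} (hi : i ^ 2 = -1) :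
    Nat.card {z : F × F // OrthCount.bin (0 : F) 1 z = 1} = Fintype.card F - 1 := by
  have hi0 : i ≠ 0 := by
    rintro rfl
    have : (0 : F) ^ 2 = -1 := hi
    rw [zero_pow two_ne_zero] at this
    exact one_ne_zero (neg_eq_zero.1 this.symm)
  have e : {z : F × F // OrthCount.bin (0 : F) 1 z = 1} ≃ Fˣ :=
    { toFun := fun z => ⟨z.1.1 + i * z.1.2, z.1.1 - i * z.1.2, by
        have h := z.2
        rw [OrthCount.bin_apply] at h
        linear_combination h - hi * z.1.2 ^ 2, by
        have h := z.2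
        rw [OrthCount.bin_apply] at h
        linear_combination h - hi * z.1.2 ^ 2⟩
      invFun := fun u => ⟨((u + (u⁻¹ : Fˣ)) / 2, (u - (u⁻¹ : Fˣ)) / (2 * i)), by
        rw [OrthCount.bin_apply]
        have hu : (u : F) * (u⁻¹ : Fˣ) = 1 := Units.mul_inv u
        field_simp
        linear_combination (4 * i ^ 2) * hu + (( u : F) - (u⁻¹ : Fˣ)) ^ 2 * hi⟩
      left_inv := fun z => by
        apply Subtype.ext
        apply Prod.ext
        · change ((z.1.1 + i * z.1.2) + (z.1.1 - i * z.1.2)) / 2 = z.1.1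
          field_simp; ring
        · change ((z.1.1 + i * z.1.2) - (z.1.1 - i * z.1.2)) / (2 * i) = z.1.2
          field_simp; ring
      right_inv := fun u => by
        apply Units.ext
        change (u + (u⁻¹ : Fˣ)) / 2 + i * ((u - (u⁻¹ : Fˣ)) / (2 * i)) = (u : F)
        field_simp; ring }
  rw [Nat.card_congr e, Nat.card_units F, Nat.card_eq_fintype_card]

theorem card_nonsplit [Fintype F] (hi : ¬ IsSquare (-1 : F)) :
    Nat.card {z : F × F // OrthCount.bin (0 : F) 1 z = 1} = Fintype.card F + 1 := by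
  rw [OrthCount.card_norm_one, Nat.card_eq_fintype_card]
  intro z hz
  rw [OrthCount.bin_apply] at hz
  by_cases h : z.2 = 0
  · have h1 : z.1 = 0 := by
      rw [h] at hz
      have : z.1 ^ 2 = 0 := by linear_combination hz
      exact pow_eq_zero_iff (two_ne_zero) |>.1 this
    exact Prod.ext h1 h
  · exfalso
    apply hi
    refine ⟨z.1 / z.2, ?_⟩
    field_simp
    linear_combination -hz

theorem two_ne_zero_of_odd [Fintype F] (hF : Odd (Fintype.card F)) : (2 : F) ≠ 0 := by
  intro h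
  have h1 : ringChar F = 2 := by
    have h2 : ringChar F ∣ 2 := ringChar.dvd (by exact_mod_cast h)
    rcases (Nat.dvd_prime Nat.prime_two).1 h2 with h3 | h3
    · have := CharP.ringChar_ne_one (R := F)
      exact absurd h3 this
    · exact h3
  have := FiniteField.even_card_of_char_two h1
  rw [Nat.odd_iff] at hF
  omega

theorem isSquare_neg_one_iff' [Fintype F] : IsSquare (-1 : F) ↔ Fintype.card F % 4 ≠ 3 :=
  FiniteField.isSquare_neg_one_iff

/-- the order of the torus: `q - ε` -/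
theorem card_tor [Fintype F] (hF : Odd (Fintype.card F)) :
    (Fintype.card F % 4 = 1 ∧ Nat.card (tor F) = Fintype.card F - 1) ∨
    (Fintype.card F % 4 = 3 ∧ Nat.card (tor F) = Fintype.card F + 1) := by
  rw [Nat.card_congr (torEquiv F)]
  rw [Nat.odd_iff] at hF
  by_cases h : Fintype.card F % 4 = 3
  · right
    refine ⟨h, card_nonsplit ?_⟩
    rw [isSquare_neg_one_iff']
    exact fun h' => h' h
  · left
    have h1 : IsSquare (-1 : F) := isSquare_neg_one_iff'.2 h
    obtain ⟨i, hi⟩ := h1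
    refine ⟨by omega, card_split (two_ne_zero_of_odd (Nat.odd_iff.2 hF)) (i := i) (by rw [sq, ← hi])⟩

/-- the value of the 2-part of `q² - 1` -/
theorem fac_tor [Fintype F] (hF : Odd (Fintype.card F)) :
    (Fintype.card F * ((Fintype.card F - 1) * (Fintype.card F + 1))).factorization 2 =
      1 + (Nat.card (tor F)).factorization 2 := by
  have hq : 1 < Fintype.card F := Fintype.one_lt_card
  have h0 : (Fintype.card F).factorization 2 = 0 := Nat.factorization_eq_zero_of_not_dvd (by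
    rw [Nat.odd_iff] at hF; omega)
  rw [Nat.factorization_mul (by omega) (Nat.mul_ne_zero (by omega) (by omega)),
    Nat.factorization_mul (by omega) (by omega)]
  simp only [Finsupp.add_apply]
  rw [h0, zero_add]
  have aux : ∀ m : ℕ, m % 4 = 2 → m.factorization 2 = 1 := by
    intro m hm
    obtain ⟨k, rfl⟩ : ∃ k, m = 2 * (2 * k + 1) := ⟨m / 4, by omega⟩
    rw [Nat.factorization_mul (by omega) (by omega)]
    simp only [Finsupp.add_apply]
    rw [Nat.factorization_eq_zero_of_not_dvd (by omega : ¬ 2 ∣ 2 * k + 1), Nat.prime_two.factorization]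
    simp
  rcases card_tor hF with ⟨h1, h2⟩ | ⟨h1, h2⟩
  · rw [h2, aux (Fintype.card F + 1) (by omega)]; ring
  · rw [h2, aux (Fintype.card F - 1) (by omega)]

theorem fac_SL2 [Fintype F] (hF : Odd (Fintype.card F)) :
    (Nat.card (SpecialLinearGroup (Fin 2) F)).factorization 2 = 1 + (Nat.card (tor F)).factorization 2 := by
  rw [H81.card_sl2, fac_tor hF]

theorem sea_SL2 [Fintype F] (hF : Odd (Fintype.card F)) : SEA (SpecialLinearGroup (Fin 2) F) := by
  obtain ⟨c, d, hcd⟩ := exists_sq_add_sq_neg_one F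
  have h2 := two_ne_zero_of_odd hF
  let w : SpecialLinearGroup (Fin 2) F := ⟨!![c, d; d, -c], by
    rw [Matrix.det_fin_two_of]; linear_combination -hcd⟩
  let u : SpecialLinearGroup (Fin 2) F := ⟨!![0, -1; 1, 0], by
    rw [Matrix.det_fin_two_of]; ring⟩
  have hu2 : u ^ 2 = -1 := by
    apply Subtype.ext
    rw [sq]
    change !![(0 : F), -1; 1, 0] * !![(0 : F), -1; 1, 0] = ((-1 : SpecialLinearGroup (Fin 2) F) : Matrix (Fin 2) (Fin 2) F)
    rw [Matrix.SpecialLinearGroup.coe_neg, Matrix.SpecialLinearGroup.coe_one, Matrix.mul_fin_two, Matrix.one_fin_two]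
    ext i j
    fin_cases i <;> fin_cases j <;> simp
  have hw2 : w ^ 2 = -1 := by
    apply Subtype.ext
    rw [sq]
    change !![c, d; d, -c] * !![c, d; d, -c] = ((-1 : SpecialLinearGroup (Fin 2) F) : Matrix (Fin 2) (Fin 2) F)
    rw [Matrix.SpecialLinearGroup.coe_neg, Matrix.SpecialLinearGroup.coe_one, Matrix.mul_fin_two, Matrix.one_fin_two]
    ext i j
    fin_cases i <;> fin_cases j <;> simp <;> first | linear_combination hcd | ring
  refine SEA.of_inverted (tor F) w ?_ ?_ u ?_ ?_ ⟨2, ?_⟩ (fac_SL2 hF)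
  · intro t ht
    rw [mul_inv_eq_iff_eq_mul]
    obtain ⟨h3, h4⟩ := ht
    apply Subtype.ext
    rw [Matrix.SpecialLinearGroup.coe_mul, Matrix.SpecialLinearGroup.coe_mul, Matrix.SpecialLinearGroup.coe_inv, Matrix.adjugate_fin_two]
    change !![c, d; d, -c] * t.1 = _ * !![c, d; d, -c]
    have ht' : t.1 = !![t 0 0, - t 1 0; t 1 0, t 0 0] := by
      ext i j
      fin_cases i <;> fin_cases j
      · rfl
      · exact h4
      · rfl
      · exact h3.symm
    rw [ht', Matrix.mul_fin_two, Matrix.mul_fin_two]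
    ext i j
    fin_cases i <;> fin_cases j <;> simp <;> ring
  · rintro ⟨h3, h4⟩
    have h3' : c = -c := h3
    have h4' : d = -d := h4
    have h5 : c = 0 := by
      have : (2 : F) * c = 0 := by linear_combination h3'
      exact (mul_eq_zero.1 this).resolve_left h2
    have h6 : d = 0 := by
      have : (2 : F) * d = 0 := by linear_combination h4'
      exact (mul_eq_zero.1 this).resolve_left h2
    rw [h5, h6] at hcd
    have : (1 : F) = 0 := by linear_combination hcd
    exact one_ne_zero this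
  · rw [mem_tor]
    exact ⟨rfl, by change (-1 : F) = -1; rfl⟩
  · rw [hu2, hw2]
  · have : u ^ (2 ^ 2) = (u ^ 2) ^ 2 := by
      rw [← pow_mul]; norm_num
    rw [this, hu2, sq, neg_mul_neg, one_mul]

end Cfsg.Agent.H53.SEA
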