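import Mathlib
import Cfsg.Agent.H53.SEAWr
import Cfsg.Agent.H53.SEASL2
import Cfsg.Agent.ClassSp.Order

set_option autoImplicit false
set_option linter.dupNamespace false
set_option linter.unusedSectionVars false

/-!
# Sylow 2-subgroups of symplectic groups (helper53)
-/

namespace Cfsg.Agent.H53.SEA

open Matrix

theorem fac_odd_pow {q : ℕ} (hq : Odd q) (k : ℕ) : (q ^ k).factorization 2 = 0 :=
  Nat.factorization_eq_zero_of_not_dvd (by
    intro h
    have := hq.pow (n := k)
    rw [Nat.odd_iff] at this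
    omega)

/-- the 2-part of `q^(2i) - 1` -/
theorem fac_pow_sub_one {q : ℕ} (hq : Odd q) (hq1 : 1 < q) (i : ℕ) (hi : 1 ≤ i) :
    (q ^ (2 * i) - 1).factorization 2 = (q * ((q - 1) * (q + 1))).factorization 2 + i.factorization 2 := by
  have h2 : ¬ 2 ∣ q := by rw [Nat.odd_iff] at hq; omega
  have h1 := padicValNat.pow_two_sub_one (x := q) (n := 2 * i) hq1 h2 (by omega) (even_two_mul i)
  rw [Nat.factorization_mul (by omega) (Nat.mul_ne_zero (by omega) (by omega)),
    Nat.factorization_mul (by omega) (by omega)]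
  simp only [Finsupp.add_apply]
  rw [Nat.factorization_eq_zero_of_not_dvd h2, zero_add]
  have h3 : (2 * i).factorization 2 = 1 + i.factorization 2 := by
    rw [Nat.factorization_mul (by omega) (by omega), Nat.prime_two.factorization]
    simp
  rw [← Nat.factorization_def _ Nat.prime_two, ← Nat.factorization_def _ Nat.prime_two,
    ← Nat.factorization_def _ Nat.prime_two, ← Nat.factorization_def _ Nat.prime_two, h3] at h1
  omega

theorem fac_prod {q : ℕ} (hq : Odd q) (hq1 : 1 < q) (n : ℕ) :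
    (∏ i ∈ Finset.range n, (q ^ (2 * (i + 1)) - 1)).factorization 2 =
      n * (q * ((q - 1) * (q + 1))).factorization 2 + (Nat.factorial n).factorization 2 := by
  induction n with
  | zero => simp
  | succ n ih =>
    have h0 : ∀ i, q ^ (2 * (i + 1)) - 1 ≠ 0 := by
      intro i
      have := Nat.one_lt_pow (n := 2 * (i + 1)) (by omega) hq1
      omega
    rw [Finset.prod_range_succ, Nat.factorization_mul (Finset.prod_ne_zero_iff.2 fun i _ => h0 i) (h0 n),
      Nat.factorial_succ, Nat.factorization_mul (by omega) (Nat.factorial_ne_zero n)]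
    simp only [Finsupp.add_apply]
    rw [ih, fac_pow_sub_one hq hq1 (n + 1) (by omega)]
    ring

theorem prod_ne_zero {q : ℕ} (hq1 : 1 < q) (n : ℕ) : (∏ i ∈ Finset.range n, (q ^ (2 * (i + 1)) - 1)) ≠ 0 := by
  refine Finset.prod_ne_zero_iff.2 fun i _ => ?_
  have := Nat.one_lt_pow (n := 2 * (i + 1)) (by omega) hq1
  omega

section sp

variable {F : Type*} [Field F] (n : ℕ)

/-- the block embedding of `SL₂ⁿ` in `Sp₂ₙ` -/
def spMat (v : Fin n → Matrix (Fin 2) (Fin 2) F) : Matrix (Fin n ⊕ Fin n) (Fin n ⊕ Fin n) F :=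
  fromBlocks (diagonal fun i => v i 0 0) (diagonal fun i => v i 0 1)
    (diagonal fun i => v i 1 0) (diagonal fun i => v i 1 1)

theorem spMat_mul (v w : Fin n → Matrix (Fin 2) (Fin 2) F) : spMat n v * spMat n w = spMat n (fun i => v i * w i) := by
  rw [spMat, spMat, spMat, fromBlocks_multiply]
  simp only [diagonal_mul_diagonal, diagonal_add, Matrix.mul_apply, Fin.sum_univ_two]

theorem spMat_one : spMat n (fun _ : Fin n => (1 : Matrix (Fin 2) (Fin 2) F)) = 1 := by
  rw [spMat]
  simp

theorem spMat_mem (v : Fin n → SpecialLinearGroup (Fin 2) F) :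
    spMat n (fun i => (v i : Matrix (Fin 2) (Fin 2) F)) ∈ symplecticGroup (Fin n) F := by
  rw [SymplecticGroup.mem_iff, spMat, J, fromBlocks_transpose, fromBlocks_multiply, fromBlocks_multiply]
  simp only [diagonal_transpose, Matrix.mul_zero, zero_add, add_zero, Matrix.mul_one, Matrix.mul_neg,
    Matrix.neg_mul, diagonal_mul_diagonal, diagonal_neg, diagonal_add]
  rw [← diagonal_one, diagonal_neg]
  have key : ∀ i, (v i : Matrix (Fin 2) (Fin 2) F) 0 0 * (v i : Matrix (Fin 2) (Fin 2) F) 1 1 -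
    (v i : Matrix (Fin 2) (Fin 2) F) 0 1 * (v i : Matrix (Fin 2) (Fin 2) F) 1 0 = 1 := fun i => det_eq (v i)
  have e1 : (fun i => (v i : Matrix (Fin 2) (Fin 2) F) 0 1 * (v i : Matrix (Fin 2) (Fin 2) F) 0 0 +
      -(v i : Matrix (Fin 2) (Fin 2) F) 0 0 * (v i : Matrix (Fin 2) (Fin 2) F) 0 1) = fun _ => 0 := by
    funext i; ring
  have e2 : (fun i => (v i : Matrix (Fin 2) (Fin 2) F) 0 1 * (v i : Matrix (Fin 2) (Fin 2) F) 1 0 +
      -(v i : Matrix (Fin 2) (Fin 2) F) 0 0 * (v i : Matrix (Fin 2) (Fin 2) F) 1 1) = fun _ => -1 := by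
    funext i; linear_combination - key i
  have e3 : (fun i => (v i : Matrix (Fin 2) (Fin 2) F) 1 1 * (v i : Matrix (Fin 2) (Fin 2) F) 0 0 +
      -(v i : Matrix (Fin 2) (Fin 2) F) 1 0 * (v i : Matrix (Fin 2) (Fin 2) F) 0 1) = fun _ => 1 := by
    funext i; linear_combination key i
  have e4 : (fun i => (v i : Matrix (Fin 2) (Fin 2) F) 1 1 * (v i : Matrix (Fin 2) (Fin 2) F) 1 0 +
      -(v i : Matrix (Fin 2) (Fin 2) F) 1 0 * (v i : Matrix (Fin 2) (Fin 2) F) 1 1) = fun _ => 0 := by
    funext i; ring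
  have hz : (diagonal fun _ : Fin n => (0 : F)) = 0 := diagonal_zero
  rw [e1, e2, e3, e4, hz]

/-- the hom `SL₂ⁿ → Sp₂ₙ` -/
def spHom : (Fin n → SpecialLinearGroup (Fin 2) F) →* symplecticGroup (Fin n) F where
  toFun v := ⟨spMat n (fun i => (v i : Matrix (Fin 2) (Fin 2) F)), spMat_mem n v⟩
  map_one' := Subtype.ext (spMat_one n)
  map_mul' v w := Subtype.ext (spMat_mul n _ _).symm

theorem spHom_injective : Function.Injective (spHom (F := F) n) := by
  intro v w h
  have h1 : spMat n (fun i => (v i : Matrix (Fin 2) (Fin 2) F)) = spMat n (fun i => (w i : Matrix (Fin 2) (Fin 2) F)) :=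
    congrArg Subtype.val h
  rw [spMat, spMat, fromBlocks_inj, diagonal_injective.eq_iff, diagonal_injective.eq_iff, diagonal_injective.eq_iff,
    diagonal_injective.eq_iff] at h1
  obtain ⟨h00, h01, h10, h11⟩ := h1
  funext i
  apply Subtype.ext
  ext a b
  fin_cases a <;> fin_cases b
  · exact congrFun h00 i
  · exact congrFun h01 i
  · exact congrFun h10 i
  · exact congrFun h11 i

/-- block permutations -/
def spPerm : Equiv.Perm (Fin n) →* symplecticGroup (Fin n) F where
  toFun s := ⟨fromBlocks (pm F s) 0 0 (pm F s), by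
    rw [SymplecticGroup.mem_iff, J, fromBlocks_transpose, fromBlocks_multiply, fromBlocks_multiply]
    simp [pm_transpose, pm_inv_mul]⟩
  map_one' := Subtype.ext (by
    change fromBlocks _ _ _ _ = 1
    rw [pm_one, fromBlocks_one])
  map_mul' s t := Subtype.ext (by
    change fromBlocks _ _ _ _ = fromBlocks _ _ _ _ * fromBlocks _ _ _ _
    rw [fromBlocks_multiply, pm_mul]
    simp)

theorem pm_diagonal (s : Equiv.Perm (Fin n)) (d : Fin n → F) :
    pm F s * diagonal d = diagonal (fun i => d (s⁻¹ i)) * pm F s := by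
  ext i j
  rw [pm_mul_apply, mul_pm_apply, diagonal_apply, diagonal_apply]
  by_cases h : i = s j
  · rw [if_pos h, if_pos (by rw [h]; simp)]
  · rw [if_neg h, if_neg (by rintro h'; exact h (by rw [← h']; simp))]

theorem spPerm_conj (s : Equiv.Perm (Fin n)) (v : Fin n → SpecialLinearGroup (Fin 2) F) :
    spPerm n s * spHom n v * (spPerm n s)⁻¹ = spHom n (fun i => v (s⁻¹ i)) := by
  rw [mul_inv_eq_iff_eq_mul]
  apply Subtype.ext
  change fromBlocks _ _ _ _ * spMat n _ = spMat n _ * fromBlocks _ _ _ _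
  rw [spMat, spMat, fromBlocks_multiply, fromBlocks_multiply]
  simp only [Matrix.zero_mul, Matrix.mul_zero, zero_add, add_zero, pm_diagonal]

theorem spPerm_injective : Function.Injective (spPerm (F := F) n) := by
  intro s t h
  have h1 := congrArg Subtype.val h
  change fromBlocks _ _ _ _ = fromBlocks _ _ _ _ at h1
  rw [fromBlocks_inj] at h1
  exact pm_injective h1.1

theorem spPerm_eq (s : Equiv.Perm (Fin n)) (v : Fin n → SpecialLinearGroup (Fin 2) F) (h : spPerm n s = spHom n v) :
    s = 1 := by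
  have h1 := congrArg Subtype.val h
  change fromBlocks _ _ _ _ = fromBlocks _ _ _ _ at h1
  rw [fromBlocks_inj] at h1
  obtain ⟨h2, h3, h4, h5⟩ := h1
  ext j
  rw [Equiv.Perm.one_apply]
  by_contra hne
  have hne' : s j ≠ j := fun h => hne (congrArg Fin.val h)
  have h6 := congrFun (congrFun h2 (s j)) j
  rw [pm_apply, if_pos rfl, diagonal_apply_ne _ hne'] at h6
  exact one_ne_zero h6

/-- S4624 -/
theorem sea_sp [Fintype F] (hF : Odd (Fintype.card F)) : SEA (symplecticGroup (Fin n) F) := by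
  have hq1 : 1 < Fintype.card F := Fintype.one_lt_card
  refine SEA.of_wreath n (spHom n) (spHom_injective n) (spPerm n) (spPerm_injective n) (spPerm_conj n)
    (spPerm_eq n) (sea_SL2 hF) ?_
  rw [ClassSp.card_fin, Nat.factorization_mul (pow_ne_zero _ (by omega)) (prod_ne_zero hq1 n)]
  simp only [Finsupp.add_apply]
  rw [fac_odd_pow hF, zero_add, fac_prod hF hq1, H81.card_sl2]

end sp

end Cfsg.Agent.H53.SEA
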