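import Mathlib
import Cfsg.Agent.H53.SEANorm
import Cfsg.Agent.H53.SEASp

set_option autoImplicit false
set_option linter.dupNamespace false
set_option linter.unusedSectionVars false

/-!
# Sylow 2-subgroups of general linear groups (helper53)
-/

namespace Cfsg.Agent.H53.SEA

open Matrix

section arith

/-- odd exponents -/
theorem fac_pow_odd {q : ℕ} (hq : Odd q) (hq1 : 1 < q) (k : ℕ) :
    (q ^ (2 * k + 1) - 1).factorization 2 = (q - 1).factorization 2 := by
  have h1 : q ^ (2 * k + 1) - 1 = (q - 1) * ∑ i ∈ Finset.range (2 * k + 1), q ^ i := by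
    rw [Nat.geomSum_eq (by omega)]
    rw [Nat.mul_div_cancel']
    exact Nat.sub_one_dvd_pow_sub_one q _
  have h2 : Odd (∑ i ∈ Finset.range (2 * k + 1), q ^ i) := by
    rw [Finset.odd_sum_iff_odd_card_odd]
    rw [Finset.filter_true_of_mem (fun i _ => hq.pow)]
    rw [Finset.card_range]
    exact odd_two_mul_add_one k
  rw [h1, Nat.factorization_mul (by omega) (by rintro h; rw [h] at h2; exact absurd h2 (by decide))]
  simp only [Finsupp.add_apply]
  rw [Nat.factorization_eq_zero_of_not_dvd (n := ∑ i ∈ Finset.range (2 * k + 1), q ^ i)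
    (by rw [Nat.odd_iff] at h2; omega), add_zero]

theorem fac_card_GL_succ {F : Type*} [Field F] [Fintype F] (hF : Odd (Fintype.card F)) (n : ℕ) :
    (Nat.card (GL (Fin (n + 1)) F)).factorization 2 =
      (Nat.card (GL (Fin n) F)).factorization 2 + (Fintype.card F ^ (n + 1) - 1).factorization 2 := by
  have hq1 : 1 < Fintype.card F := Fintype.one_lt_card
  set q := Fintype.card F with hq
  have h0 : ∀ n, ∏ i : Fin n, (q ^ n - q ^ (i : ℕ)) ≠ 0 := by
    intro n
    refine Finset.prod_ne_zero_iff.2 fun i _ => ?_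
    have := Nat.pow_lt_pow_right hq1 i.2
    omega
  have h1 : ∏ i : Fin (n + 1), (q ^ (n + 1) - q ^ (i : ℕ)) =
      (q ^ (n + 1) - 1) * (q ^ n * ∏ i : Fin n, (q ^ n - q ^ (i : ℕ))) := by
    rw [Fin.prod_univ_succ]
    congr 1
    rw [show q ^ n = ∏ _i : Fin n, q by simp, ← Finset.prod_mul_distrib]
    refine Finset.prod_congr rfl fun i _ => ?_
    simp only [Finset.prod_const, Finset.card_univ, Fintype.card_fin, Fin.val_succ]
    rw [Nat.mul_sub, ← pow_succ', ← pow_succ']
  have h2 : q ^ (n + 1) - 1 ≠ 0 := by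
    have := Nat.one_lt_pow (n := n + 1) (by omega) hq1
    omega
  rw [Matrix.card_GL_field, Matrix.card_GL_field, ← hq, h1,
    Nat.factorization_mul h2 (mul_ne_zero (pow_ne_zero _ (by omega)) (h0 n)),
    Nat.factorization_mul (pow_ne_zero _ (by omega)) (h0 n)]
  simp only [Finsupp.add_apply]
  rw [fac_odd_pow hF]
  ring

variable {F : Type*} [Field F] [Fintype F] (hF : Odd (Fintype.card F))

include hF

theorem fac_card_GL_zero : (Nat.card (GL (Fin 0) F)).factorization 2 = 0 := by
  have : Subsingleton (GL (Fin 0) F) := ⟨fun a b => Units.ext (Subsingleton.elim _ _)⟩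
  rw [Nat.card_of_subsingleton (1 : GL (Fin 0) F)]
  simp

theorem fac_card_GL_two : (Nat.card (GL (Fin 2) F)).factorization 2 =
    (Fintype.card F - 1).factorization 2 +
      (Fintype.card F * ((Fintype.card F - 1) * (Fintype.card F + 1))).factorization 2 := by
  have hq1 : 1 < Fintype.card F := Fintype.one_lt_card
  rw [fac_card_GL_succ hF 1, fac_card_GL_succ hF 0, fac_card_GL_zero hF]
  have h1 := fac_pow_sub_one hF hq1 1 le_rfl
  have h2 := fac_pow_odd hF hq1 0
  simp only [Nat.factorization_one, Finsupp.coe_zero, Pi.zero_apply, add_zero, mul_one, mul_zero, zero_add] at h1 h2 ⊢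
  rw [← h1, pow_one]

theorem fac_card_GL_even (m : ℕ) : (Nat.card (GL (Fin (2 * m)) F)).factorization 2 =
    m * (Nat.card (GL (Fin 2) F)).factorization 2 + (Nat.factorial m).factorization 2 := by
  have hq1 : 1 < Fintype.card F := Fintype.one_lt_card
  induction m with
  | zero =>
    rw [fac_card_GL_zero hF]; simp
  | succ m ih =>
    have h1 : 2 * (m + 1) = (2 * m + 1) + 1 := by ring
    rw [h1, fac_card_GL_succ hF (2 * m + 1), fac_card_GL_succ hF (2 * m), ih, fac_pow_odd hF hq1 m]
    have h2 := fac_pow_sub_one hF hq1 (m + 1) (by omega)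
    rw [h1] at h2
    rw [h2, Nat.factorial_succ, Nat.factorization_mul (by omega) (Nat.factorial_ne_zero m), fac_card_GL_two hF]
    simp only [Finsupp.add_apply]
    ring

theorem fac_card_SL (n : ℕ) (hn : 0 < n) : (Nat.card (GL (Fin n) F)).factorization 2 =
    (Nat.card (SpecialLinearGroup (Fin n) F)).factorization 2 + (Fintype.card F - 1).factorization 2 := by
  have hq1 : 1 < Fintype.card F := Fintype.one_lt_card
  rw [H81.card_gl_eq_card_sl_mul n hn, Nat.card_units F, Nat.card_eq_fintype_card (α := F),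
    Nat.factorization_mul Nat.card_pos.ne' (by omega)]
  rfl

end arith

/-- congruence over index types -/
theorem card_GL_congr {ι κ : Type*} [Fintype ι] [DecidableEq ι] [Fintype κ] [DecidableEq κ] (e : ι ≃ κ)
    (F : Type*) [Field F] : Nat.card (GL ι F) = Nat.card (GL κ F) :=
  Nat.card_congr (Units.mapEquiv (Matrix.reindexAlgEquiv F F e).toMulEquiv).toEquiv

section blocks

variable {F : Type*} [Field F] (m : ℕ)

/-- permutation matrices in `GL` -/
def pmU {ι : Type*} [DecidableEq ι] [Fintype ι] (F : Type*) [Field F] : Equiv.Perm ι →* GL ι F where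
  toFun s := ⟨pm F s, pm F s⁻¹, pm_inv_mul s, by have := pm_inv_mul (F := F) s⁻¹; rwa [inv_inv] at this⟩
  map_one' := Units.ext pm_one
  map_mul' s t := Units.ext (pm_mul s t)

theorem pmU_val {ι : Type*} [DecidableEq ι] [Fintype ι] (s : Equiv.Perm ι) :
    ((pmU F s : GL ι F) : Matrix ι ι F) = pm F s := rfl

theorem pmU_injective {ι : Type*} [DecidableEq ι] [Fintype ι] : Function.Injective (pmU (ι := ι) F) := by
  intro s t h
  exact pm_injective (congrArg Units.val h)

/-- block diagonal matrices -/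
def bd : (Fin m → GL (Fin 2) F) →* GL (Fin 2 × Fin m) F :=
  (Units.map (Matrix.blockDiagonalRingHom (Fin 2) (Fin m) F).toMonoidHom).comp
    (MulEquiv.piUnits (M := fun _ : Fin m => Matrix (Fin 2) (Fin 2) F)).symm.toMonoidHom

theorem bd_val (v : Fin m → GL (Fin 2) F) : ((bd m v : GL (Fin 2 × Fin m) F) : Matrix (Fin 2 × Fin m) (Fin 2 × Fin m) F) =
    blockDiagonal (fun i => (v i : Matrix (Fin 2) (Fin 2) F)) := rfl

theorem bd_injective : Function.Injective (bd (F := F) m) := by
  intro v w h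
  have h1 := congrArg Units.val h
  rw [bd_val, bd_val, blockDiagonal_injective.eq_iff] at h1
  funext i
  exact Units.ext (congrFun h1 i)

/-- permutations of the blocks -/
def bp : Equiv.Perm (Fin m) →* Equiv.Perm (Fin 2 × Fin m) where
  toFun v := Equiv.prodCongrRight (fun _ : Fin 2 => v)
  map_one' := by ext x <;> rfl
  map_mul' v w := by ext x <;> rfl

theorem bp_apply (s : Equiv.Perm (Fin m)) (x : Fin 2 × Fin m) : bp m s x = (x.1, s x.2) := rfl

theorem bp_inv_apply (s : Equiv.Perm (Fin m)) (x : Fin 2 × Fin m) : (bp m s)⁻¹ x = (x.1, s⁻¹ x.2) := by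
  rw [← map_inv]; rfl

theorem bp_injective : Function.Injective (bp m) := by
  intro v w h
  ext i
  have h1 := congrArg (fun g : Equiv.Perm (Fin 2 × Fin m) => (g (0, i)).2) h
  exact congrArg Fin.val h1

theorem sign_bp (s : Equiv.Perm (Fin m)) : Equiv.Perm.sign (bp m s) = 1 := by
  change Equiv.Perm.sign (Equiv.prodCongrRight (fun _ : Fin 2 => s)) = 1
  rw [Equiv.Perm.sign_prodCongrRight]
  simp [Finset.prod_const]

/-- block permutation matrices -/
def bpm : Equiv.Perm (Fin m) →* GL (Fin 2 × Fin m) F := (pmU F).comp (bp m)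

theorem bpm_injective : Function.Injective (bpm (F := F) m) := by
  intro s t h
  exact bp_injective m (pmU_injective h)

theorem bpm_conj (s : Equiv.Perm (Fin m)) (v : Fin m → GL (Fin 2) F) :
    bpm m s * bd m v * (bpm m s)⁻¹ = bd m (fun i => v (s⁻¹ i)) := by
  rw [mul_inv_eq_iff_eq_mul]
  apply Units.ext
  change pm F (bp m s) * blockDiagonal _ = blockDiagonal _ * pm F (bp m s)
  ext ⟨i, a⟩ ⟨j, b⟩
  rw [pm_mul_apply, mul_pm_apply, bp_inv_apply, bp_apply, blockDiagonal_apply, blockDiagonal_apply]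
  simp only
  by_cases h : a = s b
  · rw [if_pos h, if_pos (by rw [h]; simp)]
    rfl
  · rw [if_neg h, if_neg (by rintro h'; exact h (by rw [← h']; simp))]

theorem bpm_eq (s : Equiv.Perm (Fin m)) (v : Fin m → GL (Fin 2) F) (h : bpm m s = bd m v) : s = 1 := by
  have h1 : pm F (bp m s) = blockDiagonal (fun i => (v i : Matrix (Fin 2) (Fin 2) F)) := congrArg Units.val h
  ext j
  rw [Equiv.Perm.one_apply]
  by_contra hne
  have hne' : s j ≠ j := fun h => hne (congrArg Fin.val h)
  have h6 := congrFun (congrFun h1 (0, s j)) (0, j)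
  rw [pm_apply, blockDiagonal_apply, if_neg hne', if_pos (by rw [bp_apply])] at h6
  exact one_ne_zero h6

theorem fac_card_GL_blocks [Fintype F] (hF : Odd (Fintype.card F)) :
    (Nat.card (GL (Fin 2 × Fin m) F)).factorization 2 =
    m * (Nat.card (GL (Fin 2) F)).factorization 2 + (Nat.factorial m).factorization 2 := by
  rw [card_GL_congr (finProdFinEquiv (m := 2) (n := m)), fac_card_GL_even hF]

end blocks

section GL2

variable {F : Type*} [Field F] [Fintype F] (hF : Odd (Fintype.card F)) (hq : 4 ∣ Fintype.card F + 1)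

/-- `diag(1,-1)` -/
def rfl2 (F : Type*) [Field F] : GL (Fin 2) F :=
  ⟨!![1, 0; 0, -1], !![1, 0; 0, -1], by
    rw [Matrix.mul_fin_two, Matrix.one_fin_two]; simp, by
    rw [Matrix.mul_fin_two, Matrix.one_fin_two]; simp⟩

theorem rfl2_sq : rfl2 F ^ 2 = 1 := by
  apply Units.ext
  rw [sq]
  change !![(1 : F), 0; 0, -1] * !![1, 0; 0, -1] = 1
  rw [Matrix.mul_fin_two, Matrix.one_fin_two]; simp

theorem rfl2_det : (rfl2 F : Matrix (Fin 2) (Fin 2) F).det = -1 := by
  change (!![(1 : F), 0; 0, -1] : Matrix (Fin 2) (Fin 2) F).det = -1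
  rw [Matrix.det_fin_two_of]; ring

/-- there is a Sylow subgroup containing the reflection -/
theorem exists_sylow_rfl2 : ∃ M : Sylow 2 (GL (Fin 2) F), rfl2 F ∈ (M : Subgroup (GL (Fin 2) F)) := by
  have h1 : IsPGroup 2 (Subgroup.zpowers (rfl2 F)) := by
    rintro ⟨_, n, rfl⟩
    refine ⟨1, ?_⟩
    apply Subtype.ext
    change ((rfl2 F) ^ n) ^ (2 ^ 1) = 1
    rw [← zpow_natCast, ← _root_.zpow_mul, mul_comm, _root_.zpow_mul, zpow_natCast, pow_one, rfl2_sq, _root_.one_zpow]
  obtain ⟨M, hM⟩ := h1.exists_le_sylow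
  exact ⟨M, hM (Subgroup.mem_zpowers _)⟩

include hq in
theorem det_sylow (M : Subgroup (GL (Fin 2) F)) (hM : IsPGroup 2 M) (x : GL (Fin 2) F)
    (hx : x ∈ M) : (x : Matrix (Fin 2) (Fin 2) F).det = 1 ∨ (x : Matrix (Fin 2) (Fin 2) F).det = -1 := by
  obtain ⟨k, hk⟩ := hM ⟨x, hx⟩
  have hk' : x ^ (2 ^ k) = 1 := congrArg Subtype.val hk
  have h1 : (GeneralLinearGroup.det x) ^ (2 ^ k) = 1 := by rw [← map_pow, hk', map_one]
  have h2 : (GeneralLinearGroup.det x) ^ (Fintype.card F - 1) = 1 := by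
    apply Units.ext
    rw [Units.val_pow_eq_pow_val, Units.val_one]
    exact FiniteField.pow_card_sub_one_eq_one _ (Units.ne_zero _)
  have h3 : (GeneralLinearGroup.det x) ^ (Nat.gcd (2 ^ k) (Fintype.card F - 1)) = 1 := by
    rw [pow_gcd_eq_one]; exact ⟨h1, h2⟩
  have h4 : Nat.gcd (2 ^ k) (Fintype.card F - 1) ∣ 2 := by
    obtain ⟨j, hj, hj'⟩ := (Nat.dvd_prime_pow Nat.prime_two).1 (Nat.gcd_dvd_left (2 ^ k) (Fintype.card F - 1))
    have h5 : 2 ^ j ∣ Fintype.card F - 1 := by rw [← hj']; exact Nat.gcd_dvd_right _ _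
    rw [hj']
    rcases j with _ | _ | j
    · exact one_dvd _
    · exact dvd_rfl
    · exfalso
      have h6 : 4 ∣ Fintype.card F - 1 := (Dvd.intro_left (2 ^ j) (by rw [pow_succ, pow_succ]; ring)).trans h5
      have : 1 < Fintype.card F := Fintype.one_lt_card
      omega
  have h5 : (GeneralLinearGroup.det x) ^ 2 = 1 := by
    obtain ⟨c, hc⟩ := h4
    have : (GeneralLinearGroup.det x) ^ 2 = ((GeneralLinearGroup.det x) ^ (Nat.gcd (2 ^ k) (Fintype.card F - 1))) ^ c := by
      rw [← pow_mul, ← hc]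
    rw [this, h3, one_pow]
  have h6 := congrArg Units.val h5
  rw [Units.val_pow_eq_pow_val, Units.val_one, GeneralLinearGroup.val_det_apply] at h6
  rw [sq] at h6
  exact mul_self_eq_one_iff.1 h6

end GL2

end Cfsg.Agent.H53.SEA
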