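import Cfsg.Agent.H53.T1

/-!
# Two components, no divisibility: the hypothesis (owner: helper53)
-/

set_option autoImplicit false
set_option linter.style.haveILetI false
set_option linter.unusedSectionVars false

namespace Cfsg.Agent.H53.D3

open scoped ComplexConjugate BigOperators commutatorElement
open Cfsg Cfsg.Agent.CharBase Cfsg.Agent.Char Cfsg.Agent.H75

universe u

/-- the degree hypothesis -/
structure Hyp (G : Type u) [Group G] [Finite G] (K L : Subgroup G) (p : ℕ) : Prop where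
  frob : Frob G K L p
  ndad : ∀ χ ψ : IrrCharacter G, deg χ ≠ 1 → deg χ ∣ deg ψ → deg χ = deg ψ
  tri : ∀ χ : IrrCharacter G, deg χ = 1 ∨ deg χ = L.index ∨ (p ∣ deg χ ∧ (deg χ).Coprime L.index)

variable {G : Type u} [Group G] [Finite G] {K L : Subgroup G} {p : ℕ}

theorem Frob.inj (h : Frob G K L p) {t x : G} (ht : t ∉ L) (hx : x ∈ L)
    (hxt : x * t * x⁻¹ * t⁻¹ ∈ K) : x ∈ K := by
  classical
  haveI := h.hK
  haveI := h.hL
  haveI : (K.subgroupOf L).Normal := inferInstance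
  letI : CommGroup (L ⧸ K.subgroupOf L) :=
    { (inferInstance : Group (L ⧸ K.subgroupOf L)) with
      mul_comm := by
        intro a b
        induction a using QuotientGroup.induction_on with
        | H a =>
          induction b using QuotientGroup.induction_on with
          | H b =>
            rw [← QuotientGroup.mk_mul, ← QuotientGroup.mk_mul, QuotientGroup.eq]
            rw [Subgroup.mem_subgroupOf]
            have h1 : ⁅((b : G))⁻¹, (a : G)⁻¹⁆ ∈ K :=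
              h.hLL (Subgroup.commutator_mem_commutator (L.inv_mem b.2) (L.inv_mem a.2))
            have h2 : (((a * b)⁻¹ * (b * a) : L) : G) = ⁅((b : G))⁻¹, (a : G)⁻¹⁆ := by
              rw [commutatorElement_def]
              push_cast
              group
            rw [h2]
            exact h1 }
  let q : L →* L ⧸ K.subgroupOf L := QuotientGroup.mk' _
  let c : L →* L := (cjEquiv L t : L ≃* L)
  let φ : L →* L ⧸ K.subgroupOf L := q * (q.comp c)⁻¹
  have hφ : ∀ y : L, φ y = q (y * (cjEquiv L t y)⁻¹) := by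
    intro y
    show q y * (q (cjEquiv L t y))⁻¹ = _
    rw [map_mul, map_inv]
  have hsurj : Function.Surjective φ := by
    intro z
    obtain ⟨y, rfl⟩ := QuotientGroup.mk'_surjective _ z
    obtain ⟨x', hx', k, hk, hxy⟩ := h.hfp t ht y y.2
    refine ⟨⟨x', hx'⟩, ?_⟩
    rw [hφ]
    symm
    show QuotientGroup.mk y = QuotientGroup.mk _
    symm
    rw [QuotientGroup.eq, Subgroup.mem_subgroupOf]
    have h3 : (((⟨x', hx'⟩ * (cjEquiv L t (⟨x', hx'⟩ : L))⁻¹)⁻¹ * y : L) : G) = k := by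
      show (x' * (t * x' * t⁻¹)⁻¹)⁻¹ * (y : G) = k
      rw [← hxy]; group
    rw [h3]
    exact hk
  have hKle : K.subgroupOf L ≤ φ.ker := by
    intro y hy
    rw [MonoidHom.mem_ker, hφ]
    show QuotientGroup.mk _ = _
    rw [QuotientGroup.eq_one_iff, Subgroup.mem_subgroupOf]
    rw [Subgroup.mem_subgroupOf] at hy
    exact K.mul_mem hy (K.inv_mem (h.hK.conj_mem _ hy t))
  have hidx : φ.ker.index = (K.subgroupOf L).index := by
    rw [Subgroup.index_ker, MonoidHom.range_eq_top.mpr hsurj, Subgroup.card_top]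
    rfl
  have heq : φ.ker = K.subgroupOf L := by
    symm
    apply Subgroup.eq_of_le_of_card_ge hKle
    have h4 := Subgroup.card_mul_index φ.ker
    have h5 := Subgroup.card_mul_index (K.subgroupOf L)
    rw [hidx, ← h5] at h4
    exact (Nat.eq_of_mul_eq_mul_right (Nat.pos_of_ne_zero Subgroup.index_ne_zero_of_finite) h4).le
  have h6 : (⟨x, hx⟩ : L) ∈ φ.ker := by
    rw [MonoidHom.mem_ker, hφ]
    show QuotientGroup.mk _ = _
    rw [QuotientGroup.eq_one_iff, Subgroup.mem_subgroupOf]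
    have h7 : (((⟨x, hx⟩ : L) * (cjEquiv L t (⟨x, hx⟩ : L))⁻¹ : L) : G) = x * t * x⁻¹ * t⁻¹ := by
      show x * (t * x * t⁻¹)⁻¹ = _
      group
    rw [h7]
    exact hxt
  rw [heq, Subgroup.mem_subgroupOf] at h6
  exact h6

theorem Hyp.idx (h : Hyp G K L p) : L.index ≠ 1 := by
  rw [Ne, Subgroup.index_eq_one]
  exact h.frob.hLtop

theorem Hyp.ext (h : Hyp G K L p) (ψ : IrrCharacter L) (hψ : deg ψ ≠ 1) :
    ∃ χ : IrrCharacter G, (∀ l : L, (χ : G → ℂ) l = (ψ : L → ℂ) l) ∧ deg χ = deg ψ ∧ p ∣ deg ψ ∧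
      (deg ψ).Coprime L.index := by
  haveI := h.frob.hL
  haveI := Fintype.ofFinite L
  obtain ⟨χ, hχ⟩ := exists_above L ψ
  obtain ⟨m, hm, hmi⟩ := hχ.deg_dvd
  have hp : p ∣ deg ψ := by
    by_contra hp
    obtain ⟨χ', hχ'⟩ := h.frob.deg ψ hp
    obtain ⟨χf, hχf⟩ := h.frob.deg (linIrr 1) (by
      rw [deg_linIrr]
      intro h1
      exact h.frob.hp.one_lt.ne' (Nat.dvd_one.mp h1))
    rw [deg_linIrr, mul_one] at hχf
    have h1 := h.ndad χf χ' (by rw [hχf]; exact h.idx) (by rw [hχf, hχ']; exact Dvd.intro _ rfl)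
    rw [hχf, hχ'] at h1
    apply hψ
    have h2 : 0 < L.index := Nat.pos_of_ne_zero Subgroup.index_ne_zero_of_finite
    have h3 : L.index * 1 = L.index * deg ψ := by rw [mul_one]; exact h1
    exact (Nat.eq_of_mul_eq_mul_left h2 h3).symm
  have hcop : (deg χ).Coprime L.index := by
    rcases h.tri χ with h1 | h1 | h1
    · exfalso
      apply hψ
      exact Nat.dvd_one.mp (h1 ▸ hχ.dvd)
    · exfalso
      apply h.frob.hpi
      rw [← h1]
      exact hp.trans hχ.dvd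
    · exact h1.2
  have h1 : m = 1 := by
    apply Nat.dvd_one.mp
    rw [← hcop]
    exact Nat.dvd_gcd (hm ▸ Dvd.intro_left _ rfl) hmi
  rw [h1, mul_one] at hm
  have h2 := eq_of_degree_le (isCharacter_restrict (irr_isCharacter χ) L) ψ.2
    ((over_iff L _ _).mp hχ) (deg_spec ψ) (n := deg χ) (by
      show (χ : G → ℂ) 1 = _
      exact deg_spec χ) (by rw [hm])
  refine ⟨χ, fun l => congrFun h2 l, hm, hp, ?_⟩
  rw [← hm]
  exact hcop

theorem Hyp.inv (h : Hyp G K L p) [hL : L.Normal] (ψ : IrrCharacter L) (hψ : deg ψ ≠ 1) (g : G) (l : L) :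
    (ψ : L → ℂ) ⟨g * l * g⁻¹, hL.conj_mem l l.2 g⟩ = (ψ : L → ℂ) l := by
  obtain ⟨χ, hχ, -⟩ := h.ext ψ hψ
  rw [← hχ, ← hχ]
  exact irr_isClassFunction χ _ _

theorem Hyp.anti (h : Hyp G K L p) (ψ ψ' : IrrCharacter L) (hψ : deg ψ ≠ 1) (hd : deg ψ ∣ deg ψ') :
    deg ψ = deg ψ' := by
  have hψ' : deg ψ' ≠ 1 := by
    intro h1
    rw [h1] at hd
    exact hψ (Nat.dvd_one.mp hd)
  obtain ⟨χ, -, hχ, -⟩ := h.ext ψ hψ
  obtain ⟨χ', -, hχ', -⟩ := h.ext ψ' hψ'
  rw [← hχ, ← hχ'] at hd ⊢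
  exact h.ndad χ χ' (by rw [hχ]; exact hψ) hd

theorem comm_subgroupOf (L : Subgroup G) : (⁅L, L⁆).subgroupOf L = commutator L := by
  rw [← Subgroup.map_subtype_commutator, Subgroup.subgroupOf,
    Subgroup.comap_map_eq_self_of_injective L.subtype_injective]

/-- the vanishing lemma -/
theorem Hyp.kl (h : Hyp G K L p) {x : G} (hx : x ∈ L) (y : G) (hxy : y * x * y⁻¹ * x⁻¹ ∉ ⁅L, L⁆) :
    Nat.card ↥(L ⊓ Subgroup.centralizer {x}) = ⁅L, L⁆.relIndex L := by
  classical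
  haveI := h.frob.hL
  have hmem : y * x * y⁻¹ ∈ L := h.frob.hL.conj_mem x hx y
  have h1 : (⟨y * x * y⁻¹, hmem⟩ * (⟨x, hx⟩ : L)⁻¹ : L) ∉ commutator L := by
    intro h2
    rw [← comm_subgroupOf, Subgroup.mem_subgroupOf] at h2
    exact hxy h2
  obtain ⟨φ, hφ⟩ := exists_hom_ne h1
  have hvan : ∀ ψ : IrrCharacter L, deg ψ ≠ 1 → (ψ : L → ℂ) ⟨x, hx⟩ = 0 := by
    intro ψ hψ
    obtain ⟨ψ', hψ', hd⟩ := exists_lin_mul ψ φ
    have e1 := h.inv ψ hψ y ⟨x, hx⟩
    have e2 := h.inv ψ' (by rw [hd]; exact hψ) y ⟨x, hx⟩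
    rw [hψ', hψ', e1] at e2
    by_contra hne
    have e3 := mul_right_cancel₀ hne e2
    apply hφ
    rw [map_mul, map_inv, mul_inv_eq_one]
    exact Units.ext e3
  have h2 := card_cent_of_vanish (⟨x, hx⟩ : L) hvan
  rw [Subgroup.relIndex, comm_subgroupOf, ← h2]
  refine Nat.card_congr ⟨fun a => ⟨⟨a, a.2.1⟩, ?_⟩, fun a => ⟨a, a.1.2, ?_⟩, fun a => rfl, fun a => rfl⟩
  · have h3 : (a : G) ∈ Subgroup.centralizer {x} := a.2.2
    rw [Subgroup.mem_centralizer_singleton_iff] at h3 ⊢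
    exact Subtype.ext h3
  · have h3 := a.2
    show ((a : L) : G) ∈ Subgroup.centralizer {x}
    rw [Subgroup.mem_centralizer_singleton_iff] at h3 ⊢
    exact congrArg Subtype.val h3

theorem Hyp.kl' (h : Hyp G K L p) {x : G} (hx : x ∈ L) (hxK : x ∉ K) :
    Nat.card ↥(L ⊓ Subgroup.centralizer {x}) = ⁅L, L⁆.relIndex L := by
  obtain ⟨t, ht⟩ : ∃ t, t ∉ L := by
    by_contra hcon
    push Not at hcon
    exact h.frob.hLtop (eq_top_iff.mpr fun x _ => hcon x)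
  refine h.kl hx t ?_
  intro h1
  apply hxK
  refine h.frob.inj ht hx ?_
  have h2 := K.inv_mem (h.frob.hLL h1)
  have h3 : (t * x * t⁻¹ * x⁻¹)⁻¹ = x * t * x⁻¹ * t⁻¹ := by group
  rwa [h3] at h2

/-- characters of `L` over a complemented normal subgroup -/
theorem Hyp.deg_L (h : Hyp G K L p) (M U : Subgroup G) [hM : M.Normal] (hML : M ≤ ⁅L, L⁆)
    (h1 : M ⊓ U = ⊥) (h2 : M ⊔ U = L) (μ : M →* ℂˣ) (hμ : μ ≠ 1) :
    (∃ ψ : IrrCharacter L, deg ψ ≠ 1 ∧ deg ψ = (inertia M (linIrr μ : M → ℂ)).relIndex L) ∧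
      ∀ a ∈ U ⊓ inertia M (linIrr μ : M → ℂ), ∀ b ∈ U ⊓ inertia M (linIrr μ : M → ℂ), a * b = b * a := by
  classical
  have hML' : M ≤ L := h2 ▸ le_sup_left
  have hUL : U ≤ L := h2 ▸ le_sup_right
  let M' : Subgroup L := M.subgroupOf L
  let U' : Subgroup L := U.subgroupOf L
  haveI : M'.Normal := inferInstance
  let e : M' ≃* M := Subgroup.subgroupOfEquivOfLe hML'
  have he : ∀ k : M', ((e k : M) : G) = ((k : L) : G) := fun k => rfl
  let μ' : M' →* ℂˣ := μ.comp (e : M' →* M)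
  have hT : (inertia M (linIrr μ : M → ℂ)).subgroupOf L = inertia M' (linIrr μ' : M' → ℂ) := by
    ext g
    rw [Subgroup.mem_subgroupOf, mem_inertia_iff, mem_inertia_iff]
    constructor
    · intro h3 n
      exact h3 (e n)
    · intro h3 n
      exact h3 (e.symm n)
  have k1 : M' ⊓ U' = ⊥ := by
    rw [eq_bot_iff]
    rintro x ⟨hx1, hx2⟩
    have : (x : G) ∈ M ⊓ U := ⟨hx1, hx2⟩
    rw [h1, Subgroup.mem_bot] at this
    exact Subtype.ext this
  have k2 : M' ⊔ U' = ⊤ := by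
    rw [eq_top_iff]
    rintro x -
    have hx : (x : G) ∈ M ⊔ U := by rw [h2]; exact x.2
    obtain ⟨v, hv, n, hn, hvn⟩ := Subgroup.mem_sup_of_normal_left.mp hx
    have : x = (⟨v, hML' hv⟩ : L) * ⟨n, hUL hn⟩ := Subtype.ext hvn.symm
    rw [this]
    exact Subgroup.mul_mem_sup hv hn
  have key : ∀ β : IrrCharacter ↥(U' ⊓ (inertia M (linIrr μ : M → ℂ)).subgroupOf L),
      ∃ ψ : IrrCharacter L, deg ψ ≠ 1 ∧ deg ψ = ((inertia M (linIrr μ : M → ℂ)).subgroupOf L).index * deg β := by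
    intro β
    obtain ⟨ψ, hψ, hd⟩ := compl_deg2 M' U' k1 k2 μ' _ hT β
    refine ⟨ψ, ?_, hd⟩
    intro hd1
    obtain ⟨φ, rfl⟩ := linIrr_surj ψ hd1
    apply hμ
    ext m
    have hm : (⟨(m : G), hML' m.2⟩ : L) ∈ commutator L := by
      rw [← comm_subgroupOf, Subgroup.mem_subgroupOf]
      exact hML m.2
    have hφ : φ ⟨(m : G), hML' m.2⟩ = 1 := Abelianization.commutator_subset_ker φ hm
    have h5 := hψ.kills (x := e.symm m) (by
      rw [linIrr_apply, linIrr_apply, map_one]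
      exact congrArg Units.val hφ)
    rw [linIrr_apply, linIrr_apply, map_one] at h5
    exact h5
  obtain ⟨ψ₀, hψ₀, hd₀⟩ := key (linIrr 1)
  rw [deg_linIrr, mul_one] at hd₀
  refine ⟨⟨ψ₀, hψ₀, hd₀⟩, ?_⟩
  have hlin : ∀ β : IrrCharacter ↥(U' ⊓ (inertia M (linIrr μ : M → ℂ)).subgroupOf L), deg β = 1 := by
    intro β
    obtain ⟨ψ, hψ, hd⟩ := key β
    have h5 := h.anti ψ₀ ψ hψ₀ (by rw [hd₀, hd]; exact Dvd.intro _ rfl)
    rw [hd₀, hd] at h5
    have h6 : 0 < ((inertia M (linIrr μ : M → ℂ)).subgroupOf L).index :=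
      Nat.pos_of_ne_zero Subgroup.index_ne_zero_of_finite
    exact (Nat.eq_of_mul_eq_mul_left h6 ((mul_one _).trans h5)).symm
  intro a ha b hb
  have h7 := comm_of_all_linear hlin ⟨⟨a, hUL ha.1⟩, ha.1, ha.2⟩ ⟨⟨b, hUL hb.1⟩, hb.1, hb.2⟩
  exact congrArg (fun z : ↥(U' ⊓ (inertia M (linIrr μ : M → ℂ)).subgroupOf L) => ((z : L) : G)) h7

theorem relIndex_dvd_index' (T L : Subgroup G) [L.Normal] : T.relIndex L ∣ T.index := by
  have h1 : T.relIndex L * Nat.card ↥(T ⊓ L) = Nat.card L := by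
    rw [← Subgroup.inf_relIndex_right, mul_comm]
    rw [← Subgroup.relIndex_bot_left (T ⊓ L), Subgroup.relIndex_mul_relIndex _ _ _ bot_le inf_le_right,
      Subgroup.relIndex_bot_left]
  have h2 : L.relIndex T * Nat.card ↥(T ⊓ L) = Nat.card T := by
    rw [← Subgroup.inf_relIndex_left, mul_comm]
    rw [← Subgroup.relIndex_bot_left (T ⊓ L), Subgroup.relIndex_mul_relIndex _ _ _ bot_le inf_le_left,
      Subgroup.relIndex_bot_left]
  obtain ⟨c, hc⟩ := Subgroup.relIndex_dvd_index_of_normal L T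
  have h3 := Subgroup.card_mul_index T
  have h4 := Subgroup.card_mul_index L
  refine ⟨c, ?_⟩
  have h5 : 0 < Nat.card T := Nat.card_pos
  apply Nat.eq_of_mul_eq_mul_left h5
  rw [h3, ← h4, ← h1, hc, ← h2]
  ring

theorem sup_index_dvd (T L : Subgroup G) : (L ⊔ T).index ∣ L.index ∧ (L ⊔ T).index ∣ T.index :=
  ⟨Subgroup.index_dvd_of_le le_sup_left, Subgroup.index_dvd_of_le le_sup_right⟩

/-- characters of `G` over a complemented normal subgroup -/
theorem Hyp.deg_G (h : Hyp G K L p) (M U : Subgroup G) [hM : M.Normal] (hML : M ≤ ⁅L, L⁆)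
    (h1 : M ⊓ U = ⊥) (h2 : M ⊔ U = ⊤) (μ : M →* ℂˣ) (hμ : μ ≠ 1) (T : Subgroup G)
    (hT : T = inertia M (linIrr μ : M → ℂ)) :
    (∃ χ : IrrCharacter G, deg χ ≠ 1 ∧ deg χ = T.index ∧ p ∣ deg χ) ∧
      L ⊔ T = ⊤ ∧ ∀ a ∈ U ⊓ T, ∀ b ∈ U ⊓ T, a * b = b * a := by
  classical
  haveI := h.frob.hL
  have hML' : M ≤ L := hML.trans (Subgroup.commutator_le_left L L)
  have k1 : M ⊓ (U ⊓ L) = ⊥ := by
    rw [eq_bot_iff, ← h1]
    exact inf_le_inf le_rfl inf_le_left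
  have k2 : M ⊔ (U ⊓ L) = L := by
    apply le_antisymm (sup_le hML' inf_le_right)
    intro x hx
    have hx' : x ∈ M ⊔ U := by rw [h2]; trivial
    obtain ⟨v, hv, n, hn, rfl⟩ := Subgroup.mem_sup_of_normal_left.mp hx'
    refine Subgroup.mul_mem_sup hv ⟨hn, ?_⟩
    have := L.mul_mem (L.inv_mem (hML' hv)) hx
    rwa [inv_mul_cancel_left] at this
  obtain ⟨⟨ψ, hψ, hψd⟩, -⟩ := h.deg_L M (U ⊓ L) hML k1 k2 μ hμ
  rw [← hT] at hψd
  obtain ⟨-, -, -, hp, -⟩ := h.ext ψ hψ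
  have hpT : p ∣ T.index := (hψd ▸ hp).trans (relIndex_dvd_index' T L)
  have hp1 := h.frob.hp.one_lt
  have key : ∀ β : IrrCharacter ↥(U ⊓ T), ∃ χ : IrrCharacter G, deg χ = T.index * deg β := by
    intro β
    obtain ⟨χ, -, hχ⟩ := compl_deg2 M U h1 h2 μ T hT β
    exact ⟨χ, hχ⟩
  obtain ⟨χ₀, hχ₀⟩ := key (linIrr 1)
  rw [deg_linIrr, mul_one] at hχ₀
  have hTpos : 0 < T.index := Nat.pos_of_ne_zero Subgroup.index_ne_zero_of_finite
  have hne : deg χ₀ ≠ 1 := by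
    intro h3
    rw [hχ₀] at h3
    rw [h3] at hpT
    have := Nat.le_of_dvd one_pos hpT
    omega
  refine ⟨⟨χ₀, hne, hχ₀, by rw [hχ₀]; exact hpT⟩, ?_, ?_⟩
  · rcases h.tri χ₀ with h3 | h3 | h3
    · exact absurd h3 hne
    · exfalso
      apply h.frob.hpi
      rw [← h3, hχ₀]
      exact hpT
    · obtain ⟨h4, h5⟩ := sup_index_dvd T L
      have h6 : (L ⊔ T).index ∣ 1 := by
        rw [← h3.2]
        exact Nat.dvd_gcd (by rw [hχ₀]; exact h5) h4
      exact Subgroup.index_eq_one.mp (Nat.dvd_one.mp h6)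
  · have hlin : ∀ β : IrrCharacter ↥(U ⊓ T), deg β = 1 := by
      intro β
      obtain ⟨χ, hχ⟩ := key β
      have h5 := h.ndad χ₀ χ hne (by rw [hχ₀, hχ]; exact Dvd.intro _ rfl)
      rw [hχ₀, hχ] at h5
      exact (Nat.eq_of_mul_eq_mul_left hTpos ((mul_one _).trans h5)).symm
    intro a ha b hb
    exact congrArg Subtype.val (comm_of_all_linear hlin ⟨a, ha⟩ ⟨b, hb⟩)

end Cfsg.Agent.H53.D3
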