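import Cfsg.Agent.H53.T2

/-!
# Two components, no divisibility: the core configuration (owner: helper53)
-/

set_option autoImplicit false
set_option linter.style.haveILetI false
set_option linter.unusedSectionVars false

namespace Cfsg.Agent.H53.D3

open scoped ComplexConjugate BigOperators commutatorElement
open Cfsg Cfsg.Agent.CharBase Cfsg.Agent.Char Cfsg.Agent.H75

universe u

/-- core configuration -/
structure Core (G : Type u) [Group G] [Finite G] (K L Y : Subgroup G) (p : ℕ) : Prop where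
  hyp : Hyp G K L p
  sol : Group.IsSolvable G
  h1 : ⁅L, L⁆ ⊓ Y = ⊥
  h2 : ⁅L, L⁆ ⊔ Y = ⊤
  hB : ∀ a ∈ L ⊓ Y, ∀ b ∈ L ⊓ Y, a * b = b * a

variable {G : Type u} [Group G] [Finite G]

/-- the stabiliser of a linear character of a normal subgroup -/
noncomputable abbrev St (M : Subgroup G) [M.Normal] (μ : M →* ℂˣ) : Subgroup G :=
  inertia M (linIrr μ : M → ℂ)

theorem mem_St (M : Subgroup G) [hM : M.Normal] (μ : M →* ℂˣ) (g : G) :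
    g ∈ St M μ ↔ ∀ m : M, μ ⟨g * m * g⁻¹, hM.conj_mem m m.2 g⟩ = μ m := by
  rw [St, mem_inertia_iff]
  constructor
  · intro h m
    exact Units.ext (h m)
  · intro h m
    exact congrArg Units.val (h m)

theorem le_St (M : Subgroup G) [hM : M.Normal] (μ : M →* ℂˣ) : M ≤ St M μ := le_inertia' M (linIrr μ)

/-- conjugate character: `(cjh M g μ) m = μ (g m g⁻¹)` -/
noncomputable def cjh (M : Subgroup G) [M.Normal] (g : G) (μ : M →* ℂˣ) : M →* ℂˣ :=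
  μ.comp ((cjEquiv M g : M ≃* M) : M →* M)

theorem cjh_apply (M : Subgroup G) [hM : M.Normal] (g : G) (μ : M →* ℂˣ) (m : M) :
    cjh M g μ m = μ ⟨g * m * g⁻¹, hM.conj_mem m m.2 g⟩ := rfl

theorem mem_St' (M : Subgroup G) [hM : M.Normal] (μ : M →* ℂˣ) (g : G) :
    g ∈ St M μ ↔ cjh M g μ = μ := by
  rw [mem_St]
  constructor
  · intro h
    ext m
    exact congrArg Units.val (h m)
  · intro h m
    exact DFunLike.congr_fun h m

theorem cjh_mul (M : Subgroup G) [hM : M.Normal] (g : G) (μ ν : M →* ℂˣ) :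
    cjh M g (μ * ν) = cjh M g μ * cjh M g ν := rfl

theorem cjh_inv (M : Subgroup G) [hM : M.Normal] (g : G) (μ : M →* ℂˣ) :
    cjh M g μ⁻¹ = (cjh M g μ)⁻¹ := rfl

theorem cjh_cjh (M : Subgroup G) [hM : M.Normal] (g k : G) (μ : M →* ℂˣ) :
    cjh M g (cjh M k μ) = cjh M (k * g) μ := by
  ext m
  rw [cjh_apply, cjh_apply, cjh_apply]
  congr 3
  show k * (g * (m : G) * g⁻¹) * k⁻¹ = k * g * m * (k * g)⁻¹
  group

theorem cjh_one (M : Subgroup G) [hM : M.Normal] (μ : M →* ℂˣ) :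
    cjh M 1 μ = μ := by
  ext m
  rw [cjh_apply]
  congr 2
  apply Subtype.ext
  simp

/-- the action on linear characters: `(g • μ) m = μ (g⁻¹ m g)` -/
@[reducible] noncomputable def homAct (M : Subgroup G) [M.Normal] (Y : Subgroup G) : MulDistribMulAction Y (M →* ℂˣ) where
  smul y μ := cjh M ((y : G)⁻¹) μ
  one_smul μ := by
    show cjh M (((1 : Y) : G)⁻¹) μ = μ
    rw [Subgroup.coe_one, inv_one, cjh_one]
  mul_smul x y μ := by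
    show cjh M (((x * y : Y) : G)⁻¹) μ = cjh M ((x : G)⁻¹) (cjh M ((y : G)⁻¹) μ)
    rw [cjh_cjh, Subgroup.coe_mul, mul_inv_rev]
  smul_mul y μ ν := rfl
  smul_one y := rfl

theorem homAct_fix (M : Subgroup G) [M.Normal] (Y : Subgroup G) (y : Y) (μ : M →* ℂˣ) :
    (homAct M Y).toMulAction.toSMul.smul y μ = μ ↔ (y : G) ∈ St M μ := by
  rw [← Subgroup.inv_mem_iff, mem_St']
  exact Iff.rfl

theorem card_hom' (M : Subgroup G) : Nat.card (M →* ℂˣ) = ⁅M, M⁆.relIndex M := by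
  rw [card_hom, Subgroup.relIndex, comm_subgroupOf]

instance homFin (M : Subgroup G) : Finite (M →* ℂˣ) := by
  apply Nat.finite_of_card_ne_zero
  rw [card_hom]
  exact Subgroup.index_ne_zero_of_finite

theorem card_sup_of_disjoint (A B : Subgroup G) [A.Normal] (h : A ⊓ B = ⊥) :
    Nat.card ↥(A ⊔ B) = Nat.card A * Nat.card B := by
  have h1 : A.relIndex (A ⊔ B) = Nat.card B := by
    rw [Subgroup.relIndex_sup_left, ← Subgroup.inf_relIndex_right, h, Subgroup.relIndex_bot_left]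
  have h2 := Subgroup.relIndex_mul_relIndex ⊥ A (A ⊔ B) bot_le le_sup_left
  rw [Subgroup.relIndex_bot_left, Subgroup.relIndex_bot_left, h1] at h2
  exact h2.symm

variable {K L Y : Subgroup G} {p : ℕ}

namespace Core

theorem h3 (c : Core G K L Y p) : ⁅L, L⁆ ⊓ (L ⊓ Y) = ⊥ := by
  rw [eq_bot_iff, ← c.h1]
  exact inf_le_inf le_rfl inf_le_right

theorem h4 (c : Core G K L Y p) : ⁅L, L⁆ ⊔ (L ⊓ Y) = L := by
  haveI := c.hyp.frob.hL
  apply le_antisymm (sup_le (Subgroup.commutator_le_left L L) inf_le_left)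
  intro x hx
  have hx' : x ∈ ⁅L, L⁆ ⊔ Y := by rw [c.h2]; trivial
  obtain ⟨v, hv, n, hn, rfl⟩ := Subgroup.mem_sup_of_normal_left.mp hx'
  refine Subgroup.mul_mem_sup hv ⟨?_, hn⟩
  have := L.mul_mem (L.inv_mem (Subgroup.commutator_le_left L L hv)) hx
  rwa [inv_mul_cancel_left] at this

theorem hHK (c : Core G K L Y p) : ⁅L, L⁆ ≤ K := c.hyp.frob.hLL

/-- `x ∈ (L ⊓ Y) \ K` -/
theorem exists_x (c : Core G K L Y p) : ∃ x ∈ L ⊓ Y, x ∉ K := by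
  by_contra hcon
  push Not at hcon
  have h5 : L ≤ K := by
    rw [← c.h4]
    exact sup_le c.hHK hcon
  obtain ⟨k, hk0, hk⟩ := c.hyp.frob.hLp
  have h1 : K.relIndex L = 1 := Subgroup.relIndex_eq_one.mpr h5
  rw [hk] at h1
  have h2 := Nat.one_lt_pow hk0.ne' c.hyp.frob.hp.one_lt
  omega

/-- an element commuting with some `t ∉ L` lies in `K` -/
theorem mem_K_of_comm (c : Core G K L Y p) {x t : G} (hx : x ∈ L) (ht : t ∉ L)
    (h : x * t * x⁻¹ * t⁻¹ ∈ K) : x ∈ K := c.hyp.frob.inj ht hx h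

variable [hL : L.Normal]

/-- some element of `Y` outside `L` fixes `λ` -/
theorem exists_y (c : Core G K L Y p) (μ : ↥⁅L, L⁆ →* ℂˣ) (hμ : μ ≠ 1) :
    ∃ y ∈ Y, y ∉ L ∧ y ∈ St ⁅L, L⁆ μ := by
  obtain ⟨-, h5, -⟩ := c.hyp.deg_G ⁅L, L⁆ Y le_rfl c.h1 c.h2 μ hμ _ rfl
  by_contra hcon
  push Not at hcon
  apply c.hyp.frob.hLtop
  rw [← h5]
  symm
  rw [sup_eq_left]
  intro x hx
  have hx' : x ∈ ⁅L, L⁆ ⊔ Y := by rw [c.h2]; trivial
  obtain ⟨v, hv, n, hn, rfl⟩ := Subgroup.mem_sup_of_normal_left.mp hx'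
  refine L.mul_mem (Subgroup.commutator_le_left L L hv) ?_
  by_contra hnL
  refine hcon n hn hnL ?_
  have := (St ⁅L, L⁆ μ).mul_mem ((St ⁅L, L⁆ μ).inv_mem (le_St _ _ hv)) hx
  rwa [inv_mul_cancel_left] at this

theorem Ytransit (c : Core G K L Y p) (μ : ↥⁅L, L⁆ →* ℂˣ) (y : G) :
    ∃ b ∈ L ⊓ Y, b⁻¹ * y ∈ St ⁅L, L⁆ μ := by
  by_cases hμ : μ = 1
  · refine ⟨1, Subgroup.one_mem _, ?_⟩
    rw [mem_St]
    intro m
    rw [hμ]; rfl
  obtain ⟨-, h5, -⟩ := c.hyp.deg_G ⁅L, L⁆ Y le_rfl c.h1 c.h2 μ hμ _ rfl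
  have hy : y ∈ L ⊔ St ⁅L, L⁆ μ := by rw [h5]; trivial
  obtain ⟨l, hl, t, ht, rfl⟩ := Subgroup.mem_sup_of_normal_left.mp hy
  have hl' : l ∈ ⁅L, L⁆ ⊔ (L ⊓ Y) := by rw [c.h4]; exact hl
  obtain ⟨v, hv, b, hb, rfl⟩ := Subgroup.mem_sup_of_normal_left.mp hl'
  refine ⟨b, hb, ?_⟩
  have h6 : b⁻¹ * (v * b * t) = (b⁻¹ * v * (b⁻¹)⁻¹) * t := by group
  rw [h6]
  exact (St ⁅L, L⁆ μ).mul_mem (le_St _ _ (Subgroup.Normal.conj_mem inferInstance v hv b⁻¹)) ht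

/-- elements of `L ⊓ Y` not central in `Y` act fixed point freely -/
theorem cl (c : Core G K L Y p) {b y : G} (hb : b ∈ L ⊓ Y) (hy : y ∈ Y) (hby : y * b ≠ b * y)
    {h : G} (hh : h ∈ ⁅L, L⁆) (hhb : h * b = b * h) : h = 1 := by
  classical
  have h5 : y * b * y⁻¹ * b⁻¹ ∉ ⁅L, L⁆ := by
    intro h6
    apply hby
    have h7 : y * b * y⁻¹ * b⁻¹ ∈ ⁅L, L⁆ ⊓ Y :=
      ⟨h6, Y.mul_mem (Y.mul_mem (Y.mul_mem hy hb.2) (Y.inv_mem hy)) (Y.inv_mem hb.2)⟩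
    rw [c.h1, Subgroup.mem_bot, mul_inv_eq_one, mul_inv_eq_iff_eq_mul] at h7
    exact h7
  have h6 := c.hyp.kl hb.1 y h5
  have h7 : ⁅L, L⁆.relIndex L = Nat.card ↥(L ⊓ Y) := by
    have e1 := card_sup_of_disjoint ⁅L, L⁆ (L ⊓ Y) c.h3
    rw [c.h4] at e1
    have e2 := Subgroup.relIndex_mul_relIndex ⊥ ⁅L, L⁆ L bot_le (Subgroup.commutator_le_left L L)
    rw [Subgroup.relIndex_bot_left, Subgroup.relIndex_bot_left, e1] at e2
    exact Nat.eq_of_mul_eq_mul_left Nat.card_pos e2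
  have h8 : L ⊓ Y ≤ L ⊓ Subgroup.centralizer {b} := by
    intro a ha
    refine ⟨ha.1, ?_⟩
    show a ∈ Subgroup.centralizer {b}
    rw [Subgroup.mem_centralizer_singleton_iff]
    exact c.hB a ha b hb
  have h9 : L ⊓ Y = L ⊓ Subgroup.centralizer {b} :=
    Subgroup.eq_of_le_of_card_ge h8 (by rw [h6, h7])
  have h10 : h ∈ L ⊓ Subgroup.centralizer {b} := by
    refine ⟨Subgroup.commutator_le_left L L hh, ?_⟩
    show h ∈ Subgroup.centralizer {b}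
    rw [Subgroup.mem_centralizer_singleton_iff]
    exact hhb
  rw [← h9] at h10
  have h11 : h ∈ ⁅L, L⁆ ⊓ Y := ⟨hh, h10.2⟩
  rwa [c.h1, Subgroup.mem_bot] at h11

/-- an element of `L ⊓ Y` stabilising a nontrivial linear character of a normal subgroup `M` of
`G` contained in `L'` is central in `Y` -/
theorem central_of_fix (c : Core G K L Y p) (M : Subgroup G) [hM : M.Normal] (hML : M ≤ ⁅L, L⁆)
    (μ : M →* ℂˣ) (hμ : μ ≠ 1) {b : G} (hb : b ∈ L ⊓ Y) (hbμ : b ∈ St M μ) :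
    ∀ y ∈ Y, y * b = b * y := by
  intro y hy
  by_contra hby
  apply hμ
  let f : M → M := fun m => ⟨b * m * b⁻¹ * (m : G)⁻¹, M.mul_mem (hM.conj_mem m m.2 b) (M.inv_mem m.2)⟩
  have hinj : Function.Injective f := by
    intro m n hmn
    have h5 : b * m * b⁻¹ * (m : G)⁻¹ = b * n * b⁻¹ * (n : G)⁻¹ := congrArg Subtype.val hmn
    have h6 : ((n : G)⁻¹ * m) * b = b * ((n : G)⁻¹ * m) := by
      have h7 : b * ((n : G)⁻¹ * m) * b⁻¹ = (n : G)⁻¹ * m := by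
        have h8 : b * ((n : G)⁻¹ * m) * b⁻¹ = (b * n * b⁻¹)⁻¹ * (b * m * b⁻¹ * (m : G)⁻¹) * m := by group
        rw [h8, h5]; group
      conv_lhs => rw [← h7]
      group
    have h7 := c.cl hb hy hby (M.mul_mem (M.inv_mem n.2) m.2 |> fun h => hML h) h6
    rw [inv_mul_eq_one] at h7
    exact Subtype.ext h7.symm
  have hsurj := Finite.surjective_of_injective hinj
  ext m
  obtain ⟨n, rfl⟩ := hsurj m
  rw [mem_St] at hbμ
  have h5 : f n = ⟨b * n * b⁻¹, hM.conj_mem n n.2 b⟩ * n⁻¹ := rfl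
  rw [h5, map_mul, map_inv, hbμ, mul_inv_cancel]
  rfl

/-- comparison of stabilisers -/
theorem stab_anti (c : Core G K L Y p) (μ ν : ↥⁅L, L⁆ →* ℂˣ) (hμ : μ ≠ 1) (hν : ν ≠ 1)
    (h : L ⊓ St ⁅L, L⁆ μ ≤ St ⁅L, L⁆ ν) : L ⊓ St ⁅L, L⁆ μ = L ⊓ St ⁅L, L⁆ ν := by
  obtain ⟨⟨ψ, hψ, hψd⟩, -⟩ := c.hyp.deg_L ⁅L, L⁆ (L ⊓ Y) le_rfl c.h3 c.h4 μ hμ
  obtain ⟨⟨ψ', hψ', hψd'⟩, -⟩ := c.hyp.deg_L ⁅L, L⁆ (L ⊓ Y) le_rfl c.h3 c.h4 ν hν
  have hle : L ⊓ St ⁅L, L⁆ μ ≤ L ⊓ St ⁅L, L⁆ ν := le_inf inf_le_left h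
  have h5 : deg ψ' ∣ deg ψ := by
    rw [hψd, hψd', ← Subgroup.inf_relIndex_left L (St _ ν), ← Subgroup.inf_relIndex_left L (St _ μ)]
    exact Subgroup.relIndex_dvd_of_le_left L hle
  have h6 := c.hyp.anti ψ' ψ hψ' h5
  rw [hψd, hψd', ← Subgroup.inf_relIndex_left L (St _ ν), ← Subgroup.inf_relIndex_left L (St _ μ)] at h6
  apply Subgroup.eq_of_le_of_card_ge hle
  have e1 := Subgroup.relIndex_mul_relIndex ⊥ (L ⊓ St ⁅L, L⁆ μ) L bot_le inf_le_left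
  have e2 := Subgroup.relIndex_mul_relIndex ⊥ (L ⊓ St ⁅L, L⁆ ν) L bot_le inf_le_left
  rw [Subgroup.relIndex_bot_left, Subgroup.relIndex_bot_left] at e1 e2
  have h7 : (L ⊓ St ⁅L, L⁆ μ).relIndex L ≠ 0 := by
    intro h0
    rw [h0, mul_zero] at e1
    exact Nat.card_pos.ne e1
  have h8 : Nat.card ↥(L ⊓ St ⁅L, L⁆ μ) * (L ⊓ St ⁅L, L⁆ μ).relIndex L =
      Nat.card ↥(L ⊓ St ⁅L, L⁆ ν) * (L ⊓ St ⁅L, L⁆ μ).relIndex L := by
    rw [e1, ← e2]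
    congr 1
  exact (Nat.eq_of_mul_eq_mul_right (Nat.pos_of_ne_zero h7) h8).ge

theorem conj_stab (c : Core G K L Y p) (μ : ↥⁅L, L⁆ →* ℂˣ) {b x : G} (hb : b ∈ L)
    (hx : x ∈ L ⊓ St ⁅L, L⁆ μ) : x ∈ St ⁅L, L⁆ (cjh _ b μ) := by
  rw [mem_St', cjh_cjh]
  -- `μ^(b x) = μ^b`
  have h5 : b * x = (b * x * b⁻¹ * x⁻¹) * (x * b) := by group
  have h6 : b * x * b⁻¹ * x⁻¹ ∈ ⁅L, L⁆ := Subgroup.commutator_mem_commutator hb hx.1
  rw [h5, ← cjh_cjh, (mem_St' _ _ _).mp (le_St _ μ h6), ← cjh_cjh, (mem_St' _ _ _).mp hx.2]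

theorem stab_eq (c : Core G K L Y p) (lam μ : ↥⁅L, L⁆ →* ℂˣ) (hl : lam ≠ 1) (hμ : μ ≠ 1) :
    L ⊓ St ⁅L, L⁆ lam = L ⊓ St ⁅L, L⁆ μ := by
  by_contra hne
  have h5 : ¬ L ⊓ St ⁅L, L⁆ lam ≤ St ⁅L, L⁆ μ := fun h => hne (c.stab_anti lam μ hl hμ h)
  obtain ⟨b, hb, hbμ⟩ := Set.not_subset.mp h5
  let ν : ↥⁅L, L⁆ →* ℂˣ := μ⁻¹ * cjh _ b μ
  have hν : ∀ m, ν m = (μ m)⁻¹ * cjh _ b μ m := fun m => rfl
  have hν1 : ν ≠ 1 := by
    intro h6
    apply hbμ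
    show b ∈ St _ _
    rw [mem_St']
    ext m
    have h7 := DFunLike.congr_fun h6 m
    rw [hν, MonoidHom.one_apply, inv_mul_eq_one] at h7
    rw [← h7]
  have hbl : cjh _ b lam = lam := (mem_St' _ _ _).mp hb.2
  have hν2 : ∀ m, ν m = ((lam * μ) m)⁻¹ * cjh _ b (lam * μ) m := by
    intro m
    rw [hν, cjh_mul, hbl, MonoidHom.mul_apply, MonoidHom.mul_apply, mul_inv]
    have : (lam m)⁻¹ * (μ m)⁻¹ * (lam m * cjh _ b μ m) = (μ m)⁻¹ * cjh _ b μ m * ((lam m)⁻¹ * lam m) := by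
      rw [mul_mul_mul_comm]; rw [mul_comm]
    rw [this, inv_mul_cancel, mul_one]
  have hlm : lam * μ ≠ 1 := by
    intro h6
    apply hne
    have h7 : ∀ m, lam m = (μ m)⁻¹ := by
      intro m
      have h8 := DFunLike.congr_fun h6 m
      rw [MonoidHom.mul_apply, MonoidHom.one_apply] at h8
      exact mul_eq_one_iff_eq_inv.mp h8
    congr 1
    ext x
    rw [mem_St, mem_St]
    constructor
    · intro h8 m
      have := h8 m
      rw [h7, h7, inv_inj] at this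
      exact this
    · intro h8 m
      rw [h7, h7, h8 m]
  have gen : ∀ κ : ↥⁅L, L⁆ →* ℂˣ, κ ≠ 1 → (∀ m, ν m = (κ m)⁻¹ * cjh _ b κ m) →
      L ⊓ St ⁅L, L⁆ κ = L ⊓ St ⁅L, L⁆ ν := by
    intro κ hκ hκν
    apply c.stab_anti κ ν hκ hν1
    intro x hx
    rw [mem_St]
    intro m
    rw [hκν, hκν]
    have h7 := (mem_St _ _ _).mp hx.2 m
    have h8 := (mem_St _ _ _).mp (c.conj_stab κ hb.1 hx) m
    rw [h7, h8]
  have e1 := gen μ hμ hν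
  have e2 := gen (lam * μ) hlm hν2
  apply hne
  symm
  apply c.stab_anti μ lam hμ hl
  intro x hx
  have h6 : x ∈ L ⊓ St ⁅L, L⁆ (lam * μ) := by rw [e2, ← e1]; exact hx
  rw [mem_St]
  intro m
  have h7 := (mem_St _ _ _).mp h6.2 m
  rw [MonoidHom.mul_apply, MonoidHom.mul_apply, (mem_St _ _ _).mp hx.2 m, mul_left_inj] at h7
  exact h7

end Core

/-- core configuration with the common stabiliser -/
structure Core2 (G : Type u) [Group G] [Finite G] (K L Y C : Subgroup G) [L.Normal] (p r k : ℕ) : Prop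
    extends Core G K L Y p where
  hCB : C ≤ L ⊓ Y
  hCc : ∀ c ∈ C, ∀ y ∈ Y, y * c = c * y
  hCs : ∀ (μ : ↥⁅L, L⁆ →* ℂˣ), μ ≠ 1 → ∀ b ∈ L ⊓ Y, (b ∈ St ⁅L, L⁆ μ ↔ b ∈ C)
  hr : r.Prime
  hk : 0 < k
  hV : ⁅⁅L, L⁆, ⁅L, L⁆⁆.relIndex ⁅L, L⁆ = r ^ k
  hCK : C ≤ K
  hdeg : ∃ ψ : IrrCharacter L, deg ψ ≠ 1 ∧ deg ψ = (⁅L, L⁆ ⊔ C).relIndex L

namespace Core2

variable {C : Subgroup G} [hL : L.Normal] {r k : ℕ}

/-- elements outside `C` act fixed point freely on `H/H'` -/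
theorem fpV (c : Core2 G K L Y C p r k) {b : G} (hb : b ∈ L ⊓ Y) (hbC : b ∉ C) {h : G}
    (hh : h ∈ ⁅L, L⁆) (hbh : b * h * b⁻¹ * h⁻¹ ∈ ⁅⁅L, L⁆, ⁅L, L⁆⁆) : h ∈ ⁅⁅L, L⁆, ⁅L, L⁆⁆ := by
  classical
  have hHn : (⁅L, L⁆).Normal := inferInstance
  by_contra hcon
  have h1 : (⟨h, hh⟩ : ↥⁅L, L⁆) ∉ commutator ↥⁅L, L⁆ := by
    intro h2
    apply hcon
    rw [← Subgroup.map_subtype_commutator]
    exact ⟨_, h2, rfl⟩
  obtain ⟨φ, hφ⟩ := exists_hom_ne h1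
  let f : (↥⁅L, L⁆ →* ℂˣ) → (↥⁅L, L⁆ →* ℂˣ) := fun μ => μ⁻¹ * cjh _ b μ
  have hf : ∀ μ m, f μ m = (μ m)⁻¹ * cjh _ b μ m := fun μ m => rfl
  have hinj : Function.Injective f := by
    intro μ ν hμν
    let κ : ↥⁅L, L⁆ →* ℂˣ := μ * ν⁻¹
    have hκ : ∀ m, κ m = μ m * (ν m)⁻¹ := fun m => rfl
    by_contra hne
    have hκ1 : κ ≠ 1 := by
      intro h2
      apply hne
      ext m
      have h3 := DFunLike.congr_fun h2 m
      rw [hκ, MonoidHom.one_apply, mul_inv_eq_one] at h3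
      rw [h3]
    apply hbC
    rw [← c.hCs κ hκ1 b hb, mem_St]
    intro m
    have h3 := DFunLike.congr_fun hμν m
    rw [hf, hf, cjh_apply, cjh_apply] at h3
    rw [hκ, hκ]
    have h4 : μ ⟨b * m * b⁻¹, hHn.conj_mem m m.2 b⟩ =
        μ m * (ν m)⁻¹ * ν ⟨b * m * b⁻¹, hHn.conj_mem m m.2 b⟩ := by
      rw [inv_mul_eq_iff_eq_mul] at h3
      exact h3.trans (mul_assoc _ _ _).symm
    rw [h4, mul_inv_cancel_right]
  obtain ⟨μ, rfl⟩ := Finite.surjective_of_injective hinj φ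
  apply hφ
  rw [hf, cjh_apply, inv_mul_eq_one]
  have h5 : (⟨b * h * b⁻¹, hHn.conj_mem h hh b⟩ : ↥⁅L, L⁆) =
      ⟨b * h * b⁻¹ * h⁻¹, Subgroup.commutator_le_left _ _ hbh⟩ * ⟨h, hh⟩ := by
    apply Subtype.ext
    show b * h * b⁻¹ = (b * h * b⁻¹ * h⁻¹) * h
    group
  have h6 : μ ⟨b * h * b⁻¹ * h⁻¹, Subgroup.commutator_le_left _ _ hbh⟩ = 1 := by
    have h7 : (⟨b * h * b⁻¹ * h⁻¹, Subgroup.commutator_le_left _ _ hbh⟩ : ↥⁅L, L⁆) ∈ commutator ↥⁅L, L⁆ := by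
      rw [← comm_subgroupOf, Subgroup.mem_subgroupOf]
      exact hbh
    exact Abelianization.commutator_subset_ker μ h7
  rw [h5, map_mul, h6, one_mul]

end Core2

end Cfsg.Agent.H53.D3
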