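import Cfsg.Agent.H53.T3
import Cfsg.Agent.H39.S4781G

/-!
# Two components, no divisibility: the common stabiliser, quotients (owner: helper53)
-/

set_option autoImplicit false
set_option linter.style.haveILetI false
set_option linter.unusedSectionVars false

namespace Cfsg.Agent.H53.D3

open scoped ComplexConjugate BigOperators commutatorElement
open Cfsg Cfsg.Agent.CharBase Cfsg.Agent.Char Cfsg.Agent.H75

universe u

variable {G : Type u} [Group G] [Finite G] {K L Y : Subgroup G} {p : ℕ}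

theorem exists_hom_of_solvable (hs : Group.IsSolvable G) (H : Subgroup G) (hH : H ≠ ⊥) :
    ∃ μ : H →* ℂˣ, μ ≠ 1 := by
  haveI : Group.IsSolvable G := hs
  have h1 : ⁅H, H⁆ < H := Group.IsSolvable.commutator_lt_of_ne_bot hH
  obtain ⟨x, hx, hx'⟩ := SetLike.exists_of_lt h1
  have h2 : (⟨x, hx⟩ : H) ∉ commutator H := by
    intro h
    apply hx'
    rw [← comm_subgroupOf, Subgroup.mem_subgroupOf] at h
    exact h
  obtain ⟨μ, hμ⟩ := exists_hom_ne h2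
  refine ⟨μ, ?_⟩
  rintro rfl
  exact hμ rfl

namespace Core

variable [hL : L.Normal]

theorem St_eq (c : Core G K L Y p) (μ : ↥⁅L, L⁆ →* ℂˣ) :
    St ⁅L, L⁆ μ = ⁅L, L⁆ ⊔ (Y ⊓ St ⁅L, L⁆ μ) := by
  apply le_antisymm
  · intro x hx
    have hx' : x ∈ ⁅L, L⁆ ⊔ Y := by rw [c.h2]; trivial
    obtain ⟨v, hv, n, hn, rfl⟩ := Subgroup.mem_sup_of_normal_left.mp hx'
    refine Subgroup.mul_mem_sup hv ⟨hn, ?_⟩
    have := (St ⁅L, L⁆ μ).mul_mem ((St ⁅L, L⁆ μ).inv_mem (le_St _ _ hv)) hx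
    rwa [inv_mul_cancel_left] at this
  · exact sup_le (le_St _ _) inf_le_right

theorem card_stab (c : Core G K L Y p) (μ : ↥⁅L, L⁆ →* ℂˣ) (hμ : μ ≠ 1) :
    Nat.card ↥⁅L, L⁆ * Nat.card ↥(Y ⊓ St ⁅L, L⁆ μ) = Nat.card ↥(L ⊓ St ⁅L, L⁆ μ) * L.index := by
  obtain ⟨-, h5, -⟩ := c.hyp.deg_G ⁅L, L⁆ Y le_rfl c.h1 c.h2 μ hμ _ rfl
  have e1 := card_sup_of_disjoint ⁅L, L⁆ (Y ⊓ St ⁅L, L⁆ μ) (by
    rw [eq_bot_iff, ← c.h1]
    exact inf_le_inf le_rfl inf_le_left)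
  rw [← c.St_eq μ] at e1
  rw [← e1]
  have e2 := Subgroup.relIndex_mul_relIndex ⊥ (L ⊓ St ⁅L, L⁆ μ) (St ⁅L, L⁆ μ) bot_le inf_le_right
  rw [Subgroup.relIndex_bot_left, Subgroup.relIndex_bot_left, Subgroup.inf_relIndex_right] at e2
  have e3 : L.relIndex (St ⁅L, L⁆ μ) = L.index := by
    rw [← Subgroup.relIndex_sup_left, h5, Subgroup.relIndex_top_right]
  rw [← e2, e3]

theorem exists_core2 (c : Core G K L Y p) (hne : ⁅L, L⁆ ≠ ⊥) :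
    ∃ (C : Subgroup G) (r k : ℕ), Core2 G K L Y C p r k := by
  classical
  obtain ⟨lam, hlam⟩ := exists_hom_of_solvable c.sol ⁅L, L⁆ hne
  set C : Subgroup G := (L ⊓ Y) ⊓ St ⁅L, L⁆ lam with hC
  have hCc : ∀ x ∈ C, ∀ y ∈ Y, y * x = x * y := fun x hx =>
    c.central_of_fix ⁅L, L⁆ le_rfl lam hlam hx.1 hx.2
  obtain ⟨y, hyY, hyL, hyl⟩ := c.exists_y lam hlam
  have hCK : C ≤ K := by
    intro x hx
    refine c.mem_K_of_comm hx.1.1 hyL ?_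
    have h5 : x * y * x⁻¹ * y⁻¹ = 1 := by
      rw [← hCc x hx y hyY]; group
    rw [h5]
    exact K.one_mem
  have hCs : ∀ (μ : ↥⁅L, L⁆ →* ℂˣ), μ ≠ 1 → ∀ b ∈ L ⊓ Y, (b ∈ St ⁅L, L⁆ μ ↔ b ∈ C) := by
    intro μ hμ b hb
    have h5 := c.stab_eq μ lam hμ hlam
    constructor
    · intro h6
      refine ⟨hb, ?_⟩
      have h7 : b ∈ L ⊓ St ⁅L, L⁆ μ := ⟨hb.1, h6⟩
      rw [h5] at h7
      exact h7.2
    · intro h6
      have h7 : b ∈ L ⊓ St ⁅L, L⁆ lam := ⟨hb.1, h6.2⟩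
      rw [← h5] at h7
      exact h7.2
  have hdeg : ∃ ψ : IrrCharacter L, deg ψ ≠ 1 ∧ deg ψ = (⁅L, L⁆ ⊔ C).relIndex L := by
    obtain ⟨⟨ψ, hψ, hψd⟩, -⟩ := c.hyp.deg_L ⁅L, L⁆ (L ⊓ Y) le_rfl c.h3 c.h4 lam hlam
    refine ⟨ψ, hψ, ?_⟩
    rw [hψd, ← Subgroup.inf_relIndex_left L]
    congr 1
    apply le_antisymm
    · intro x hx
      have hx' : x ∈ ⁅L, L⁆ ⊔ (L ⊓ Y) := by rw [c.h4]; exact hx.1
      obtain ⟨v, hv, n, hn, rfl⟩ := Subgroup.mem_sup_of_normal_left.mp hx'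
      refine Subgroup.mul_mem_sup hv ⟨hn, ?_⟩
      have := (St ⁅L, L⁆ lam).mul_mem ((St ⁅L, L⁆ lam).inv_mem (le_St _ _ hv)) hx.2
      rwa [inv_mul_cancel_left] at this
    · exact sup_le (le_inf (Subgroup.commutator_le_left L L) (le_St _ _))
        (le_inf (fun x hx => hx.1.1) inf_le_right)
  letI := homAct ⁅L, L⁆ Y
  have hst : ∀ μ : ↥⁅L, L⁆ →* ℂˣ, ∀ a : Y, a ∈ MulAction.stabilizer Y μ ↔ (a : G) ∈ St ⁅L, L⁆ μ := by
    intro μ a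
    rw [MulAction.mem_stabilizer_iff]
    exact homAct_fix ⁅L, L⁆ Y a μ
  have hcard : ∀ w w' : ↥⁅L, L⁆ →* ℂˣ, w ≠ 1 → w' ≠ 1 →
      Nat.card (MulAction.stabilizer Y w) = Nat.card (MulAction.stabilizer Y w') := by
    intro w w' hw hw'
    have e : ∀ μ : ↥⁅L, L⁆ →* ℂˣ, Nat.card (MulAction.stabilizer Y μ) = Nat.card ↥(Y ⊓ St ⁅L, L⁆ μ) := by
      intro μ
      exact Nat.card_congr ⟨fun a => ⟨a.1.1, a.1.2, (hst μ a.1).mp a.2⟩,
        fun a => ⟨⟨a.1, a.2.1⟩, (hst μ _).mpr a.2.2⟩, fun a => rfl, fun a => rfl⟩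
    rw [e, e]
    have e1 := c.card_stab w hw
    have e2 := c.card_stab w' hw'
    rw [c.stab_eq w w' hw hw', ← e2] at e1
    exact Nat.eq_of_mul_eq_mul_left Nat.card_pos e1
  rcases Cfsg.Agent.H39.S4781G.prime_or_const (Y := Y) (W := ↥⁅L, L⁆ →* ℂˣ) hcard with ⟨r, k, hr, hk⟩ | hall
  · rw [card_hom'] at hk
    refine ⟨C, r, k, c, inf_le_left, hCc, hCs, hr, ?_, hk, hCK, hdeg⟩
    rcases Nat.eq_zero_or_pos k with h0 | h0
    · exfalso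
      rw [h0, pow_zero, Subgroup.relIndex_eq_one] at hk
      haveI : Group.IsSolvable G := c.sol
      exact absurd (Group.IsSolvable.commutator_lt_of_ne_bot hne) (not_lt_of_ge hk)
    · exact h0
  · exfalso
    obtain ⟨x, hx, hxK⟩ := c.exists_x
    apply hxK
    refine c.mem_K_of_comm hx.1 hyL ?_
    apply hCK
    have hxn : x * y * x⁻¹ * y⁻¹ ∈ L := by
      have h5 : x * y * x⁻¹ * y⁻¹ = x * (y * x⁻¹ * y⁻¹) := by group
      rw [h5]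
      exact L.mul_mem hx.1 (hL.conj_mem _ (L.inv_mem hx.1) y)
    refine ⟨⟨hxn, Y.mul_mem (Y.mul_mem (Y.mul_mem hx.2 hyY) (Y.inv_mem hx.2)) (Y.inv_mem hyY)⟩, ?_⟩
    refine (St ⁅L, L⁆ lam).mul_mem ?_ ((St ⁅L, L⁆ lam).inv_mem hyl)
    -- `x y x⁻¹` fixes `lam`
    set w : ↥⁅L, L⁆ →* ℂˣ := (⟨x, hx.2⟩ : Y)⁻¹ • lam with hw
    have hw1 : w ≠ 1 := by
      intro h6
      apply hlam
      have : lam = (⟨x, hx.2⟩ : Y) • w := by rw [hw, smul_inv_smul]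
      rw [this, h6]
      exact (homAct ⁅L, L⁆ Y).smul_one _
    have h7 : (⟨y, hyY⟩ : Y) ∈ MulAction.stabilizer Y w := by
      rw [hall w lam hw1 hlam, hst]
      exact hyl
    rw [MulAction.mem_stabilizer_iff] at h7
    have h8 : (⟨x, hx.2⟩ * ⟨y, hyY⟩ * (⟨x, hx.2⟩ : Y)⁻¹ : Y) ∈ MulAction.stabilizer Y lam := by
      rw [MulAction.mem_stabilizer_iff, mul_smul, mul_smul, ← hw, h7, hw, smul_inv_smul]
    rw [hst] at h8
    exact h8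

end Core

end Cfsg.Agent.H53.D3
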