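import Cfsg.Agent.H53.T3

/-!
# Two components, no divisibility: quotients of the core configuration (owner: helper53)
-/

set_option autoImplicit false
set_option linter.style.haveILetI false
set_option linter.unusedSectionVars false

namespace Cfsg.Agent.H53.D3

open scoped ComplexConjugate BigOperators commutatorElement
open Cfsg Cfsg.Agent.CharBase Cfsg.Agent.Char Cfsg.Agent.H75

universe u

variable {G : Type u} [Group G] [Finite G] {K L Y : Subgroup G} {p : ℕ}

theorem mk_mem_map {M L : Subgroup G} [M.Normal] (hML : M ≤ L) (g : G) :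
    QuotientGroup.mk' M g ∈ L.map (QuotientGroup.mk' M) ↔ g ∈ L := by
  constructor
  · rintro ⟨l, hl, hlg⟩
    have h1 : l⁻¹ * g ∈ M := QuotientGroup.eq.mp hlg
    have := L.mul_mem hl (hML h1)
    rwa [mul_inv_cancel_left] at this
  · intro h
    exact ⟨g, h, rfl⟩

theorem Frob.quot (h : Frob G K L p) (M : Subgroup G) [hM : M.Normal] (hMK : M ≤ K) :
    Frob (G ⧸ M) (K.map (QuotientGroup.mk' M)) (L.map (QuotientGroup.mk' M)) p := by
  haveI := h.hK
  haveI := h.hL
  have hs : Function.Surjective (QuotientGroup.mk' M) := QuotientGroup.mk'_surjective M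
  have hML : M ≤ L := hMK.trans h.hKL
  have hidx : (L.map (QuotientGroup.mk' M)).index = L.index :=
    Subgroup.index_map_eq L hs (by rw [QuotientGroup.ker_mk']; exact hML)
  refine ⟨Subgroup.Normal.map h.hK _ hs, Subgroup.Normal.map h.hL _ hs, Subgroup.map_mono h.hKL,
    ?_, ?_, ?_, ?_, h.hp, ?_, ?_⟩
  · have : (commutator G).map (QuotientGroup.mk' M) = commutator (G ⧸ M) := by
      rw [commutator_def, commutator_def, Subgroup.map_commutator, Subgroup.map_top_of_surjective _ hs]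
    rw [← this]
    exact Subgroup.map_mono h.hcomm
  · rw [← Subgroup.map_commutator]
    exact Subgroup.map_mono h.hLL
  · obtain ⟨k, hk0, hk⟩ := h.hLp
    refine ⟨k, hk0, ?_⟩
    rw [Subgroup.relIndex_map_map, QuotientGroup.ker_mk', sup_eq_left.mpr hMK, sup_eq_left.mpr hML, hk]
  · intro h1
    apply h.hLtop
    rw [eq_top_iff]
    intro g _
    rw [← mk_mem_map hML g, h1]
    trivial
  · rw [hidx]
    exact h.hpi
  · intro t ht y hy
    obtain ⟨t, rfl⟩ := hs t
    obtain ⟨y, rfl⟩ := hs y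
    rw [mk_mem_map hML] at ht hy
    obtain ⟨x, hx, k, hk, hxy⟩ := h.hfp t ht y hy
    refine ⟨QuotientGroup.mk' M x, ⟨x, hx, rfl⟩, QuotientGroup.mk' M k, ⟨k, hk, rfl⟩, ?_⟩
    rw [← hxy]
    simp

theorem Hyp.quot (h : Hyp G K L p) (M : Subgroup G) [hM : M.Normal] (hMK : M ≤ K) :
    Hyp (G ⧸ M) (K.map (QuotientGroup.mk' M)) (L.map (QuotientGroup.mk' M)) p := by
  have hs : Function.Surjective (QuotientGroup.mk' M) := QuotientGroup.mk'_surjective M
  have hML : M ≤ L := hMK.trans h.frob.hKL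
  have hidx : (L.map (QuotientGroup.mk' M)).index = L.index :=
    Subgroup.index_map_eq L hs (by rw [QuotientGroup.ker_mk']; exact hML)
  refine ⟨h.frob.quot M hMK, ?_, ?_⟩
  · intro χ ψ hχ hd
    obtain ⟨χ', -, hχ'⟩ := inflate M χ
    obtain ⟨ψ', -, hψ'⟩ := inflate M ψ
    rw [← hχ', ← hψ'] at hd ⊢
    rw [← hχ'] at hχ
    exact h.ndad χ' ψ' hχ hd
  · intro χ
    obtain ⟨χ', -, hχ'⟩ := inflate M χ
    have := h.tri χ'
    rw [hχ'] at this
    rw [hidx]
    exact this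

theorem Core.quot (c : Core G K L Y p) (M : Subgroup G) [hM : M.Normal] (hMH : M ≤ ⁅L, L⁆) :
    Core (G ⧸ M) (K.map (QuotientGroup.mk' M)) (L.map (QuotientGroup.mk' M))
      (Y.map (QuotientGroup.mk' M)) p := by
  have hs : Function.Surjective (QuotientGroup.mk' M) := QuotientGroup.mk'_surjective M
  have hMK : M ≤ K := hMH.trans c.hHK
  have hML : M ≤ L := hMK.trans c.hyp.frob.hKL
  haveI : Group.IsSolvable G := c.sol
  refine ⟨c.hyp.quot M hMK, inferInstance, ?_, ?_, ?_⟩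
  · rw [← Subgroup.map_commutator, eq_bot_iff]
    rintro _ ⟨⟨h, hh, rfl⟩, ⟨y, hy, hyh⟩⟩
    have h1 : y⁻¹ * h ∈ M := QuotientGroup.eq.mp hyh
    have h2 : y ∈ ⁅L, L⁆ := by
      have h3 : y = h * (y⁻¹ * h)⁻¹ := by group
      rw [h3]
      exact Subgroup.mul_mem _ hh (Subgroup.inv_mem _ (hMH h1))
    have h3 : y ∈ ⁅L, L⁆ ⊓ Y := ⟨h2, hy⟩
    rw [c.h1, Subgroup.mem_bot] at h3
    rw [Subgroup.mem_bot, ← hyh, h3, map_one]
  · rw [← Subgroup.map_commutator, ← Subgroup.map_sup, c.h2, Subgroup.map_top_of_surjective _ hs]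
  · have key : ∀ a ∈ L.map (QuotientGroup.mk' M) ⊓ Y.map (QuotientGroup.mk' M),
        ∃ a' ∈ L ⊓ Y, QuotientGroup.mk' M a' = a := by
      rintro _ ⟨⟨l, hl, rfl⟩, ⟨y, hy, hyh⟩⟩
      have h1 : y⁻¹ * l ∈ M := QuotientGroup.eq.mp hyh
      refine ⟨y, ⟨?_, hy⟩, hyh⟩
      have h3 : y = l * (y⁻¹ * l)⁻¹ := by group
      rw [h3]
      exact Subgroup.mul_mem _ hl (Subgroup.inv_mem _ (hML h1))
    intro a ha b hb
    obtain ⟨a', ha', rfl⟩ := key a ha
    obtain ⟨b', hb', rfl⟩ := key b hb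
    rw [← map_mul, ← map_mul, c.hB a' ha' b' hb']

end Cfsg.Agent.H53.D3
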