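import Cfsg.Agent.H53.T4
import Cfsg.Agent.H53.T5
import Cfsg.Agent.JY.S4781A
import Cfsg.Agent.JY.S4781I
import Cfsg.Agent.JY.S4781S10
import Cfsg.Agent.CIT.S4781S11a
import Cfsg.Agent.H75.S4781S11b
import Cfsg.Agent.H10.S4781S12

/-!
# Two components, no divisibility: the core (owner: helper53)
-/

set_option autoImplicit false
set_option linter.style.haveILetI false
set_option linter.unusedSectionVars false

namespace Cfsg.Agent.H53.D3

open scoped ComplexConjugate BigOperators commutatorElement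
open Cfsg Cfsg.Agent.CharBase Cfsg.Agent.Char Cfsg.Agent.H75

universe u

theorem comm_iff {G : Type u} [Group G] (A B : Subgroup G) :
    ⁅A, B⁆ = ⊥ ↔ ∀ a ∈ A, ∀ b ∈ B, a * b = b * a := by
  rw [eq_bot_iff, Subgroup.commutator_le]
  constructor
  · intro h a ha b hb
    have h1 := h a ha b hb
    rw [Subgroup.mem_bot, commutatorElement_eq_one_iff_mul_comm] at h1
    exact h1
  · intro h a ha b hb
    rw [Subgroup.mem_bot, commutatorElement_eq_one_iff_mul_comm]
    exact h a ha b hb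

/-- in a `p`-group `[M, H] = M` is impossible -/
theorem eq_bot_of_comm_eq {G : Type u} [Group G] [Finite G] {r : ℕ} (hr : r.Prime) (H M : Subgroup G)
    (hMH : M ≤ H) (hH : IsPGroup r H) (h : ⁅M, H⁆ = M) : M = ⊥ := by
  haveI : Fact r.Prime := ⟨hr⟩
  have hnil : Group.IsNilpotent H := hH.isNilpotent
  obtain ⟨n, hn⟩ := (Subgroup.isNilpotent_iff_lowerCentralSeries H).mp hnil
  have key : ∀ n, M ≤ H.lowerCentralSeries n := by
    intro n
    induction n with
    | zero => exact hMH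
    | succ n ih =>
      rw [Subgroup.lowerCentralSeries_succ]
      calc M = ⁅M, H⁆ := h.symm
        _ ≤ _ := Subgroup.commutator_mono ih le_rfl
  have h2 := key n
  rwa [hn, le_bot_iff] at h2

theorem core_abelian : ∀ (n : ℕ) (G : Type u) [Group G] [Finite G] (K L Y : Subgroup G) [L.Normal]
    (p : ℕ), Nat.card G = n → Core G K L Y p → ∀ a ∈ ⁅L, L⁆, ∀ b ∈ ⁅L, L⁆, a * b = b * a := by
  intro n
  induction n using Nat.strong_induction_on with
  | _ n ih =>
  intro G _ _ K L Y hL p hn c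
  classical
  haveI : Group.IsSolvable G := c.sol
  by_contra hab
  have hH1 : ⁅⁅L, L⁆, ⁅L, L⁆⁆ ≠ ⊥ := fun h => hab ((comm_iff _ _).mp h)
  have hH : ⁅L, L⁆ ≠ ⊥ := by
    intro h
    apply hH1
    rw [eq_bot_iff, ← h]
    exact Subgroup.commutator_le_left _ _ |>.trans (by rw [h])
  have hlt : ⁅⁅L, L⁆, ⁅L, L⁆⁆ < ⁅L, L⁆ := Group.IsSolvable.commutator_lt_of_ne_bot hH
  have key : ∀ M : Subgroup G, M.Normal → M ≤ ⁅L, L⁆ → M ≠ ⊥ → ⁅⁅L, L⁆, ⁅L, L⁆⁆ ≤ M := by
    intro M hM hMH hMne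
    haveI := hM
    have hs : Function.Surjective (QuotientGroup.mk' M) := QuotientGroup.mk'_surjective M
    haveI : (L.map (QuotientGroup.mk' M)).Normal := Subgroup.Normal.map hL _ hs
    have hcard : Nat.card (G ⧸ M) < n := by
      have h1 := Subgroup.card_mul_index M
      rw [Subgroup.index_eq_card, hn] at h1
      have h2 : 1 < Nat.card M := by
        rw [Subgroup.one_lt_card_iff_ne_bot]
        exact hMne
      have h3 : 0 < Nat.card (G ⧸ M) := Nat.card_pos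
      nlinarith
    have h1 := ih _ hcard (G ⧸ M) _ _ _ p rfl (c.quot M hMH)
    rw [Subgroup.commutator_le]
    intro a ha b hb
    rw [← Subgroup.map_commutator] at h1
    have h2 := h1 _ (Subgroup.mem_map_of_mem _ ha) _ (Subgroup.mem_map_of_mem _ hb)
    have h3 : QuotientGroup.mk' M ⁅a, b⁆ = 1 := by
      rw [map_commutatorElement, commutatorElement_eq_one_iff_mul_comm]
      exact h2
    exact (QuotientGroup.eq_one_iff _).mp h3
  have hH1ab : ∀ a ∈ ⁅⁅L, L⁆, ⁅L, L⁆⁆, ∀ b ∈ ⁅⁅L, L⁆, ⁅L, L⁆⁆, a * b = b * a := by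
    rw [← comm_iff]
    by_contra h1
    have h2 := key ⁅⁅⁅L, L⁆, ⁅L, L⁆⁆, ⁅⁅L, L⁆, ⁅L, L⁆⁆⁆ inferInstance
      ((Subgroup.commutator_le_left _ _).trans hlt.le) h1
    exact absurd (Group.IsSolvable.commutator_lt_of_ne_bot hH1) (not_lt_of_ge h2)
  obtain ⟨C, r, k, c2⟩ := c.exists_core2 hH
  by_cases hcen : ⁅⁅⁅L, L⁆, ⁅L, L⁆⁆, ⁅L, L⁆⁆ = ⊥
  · rw [comm_iff] at hcen
    have h5 := c2.s11a hcen hH1
    obtain ⟨x, hx, hx', μ, hμ, hxμ⟩ := Cfsg.Agent.JY.S4781I.small_comm hcen (SetLike.exists_of_lt hlt) h5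
    exact c2.s11b hcen hx hx' μ hμ hxμ
  · have h6 : ⁅⁅⁅L, L⁆, ⁅L, L⁆⁆, ⁅L, L⁆⁆ = ⁅⁅L, L⁆, ⁅L, L⁆⁆ := by
      apply le_antisymm (Subgroup.commutator_le_left _ _)
      exact key _ inferInstance ((Subgroup.commutator_le_left _ _).trans hlt.le) hcen
    refine c2.s10 hH1ab hH1 ?_ h6
    intro hd
    haveI : Fact r.Prime := ⟨c2.hr⟩
    -- the elements of order dividing `r`
    let M : Subgroup G :=
      { carrier := {x | x ∈ ⁅⁅L, L⁆, ⁅L, L⁆⁆ ∧ x ^ r = 1}
        one_mem' := ⟨Subgroup.one_mem _, one_pow _⟩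
        mul_mem' := by
          intro a b ha hb
          refine ⟨Subgroup.mul_mem _ ha.1 hb.1, ?_⟩
          have : Commute a b := hH1ab a ha.1 b hb.1
          rw [this.mul_pow, ha.2, hb.2, one_mul]
        inv_mem' := by
          intro a ha
          exact ⟨Subgroup.inv_mem _ ha.1, by rw [inv_pow, ha.2, inv_one]⟩ }
    have hMn : M.Normal := by
      constructor
      intro x hx g
      refine ⟨Subgroup.Normal.conj_mem inferInstance x hx.1 g, ?_⟩
      rw [conj_pow, hx.2]; group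
    have hMH1 : M ≤ ⁅⁅L, L⁆, ⁅L, L⁆⁆ := fun x hx => hx.1
    have hMne : M ≠ ⊥ := by
      intro h7
      obtain ⟨x, hx⟩ := exists_prime_orderOf_dvd_card' (G := ↥⁅⁅L, L⁆, ⁅L, L⁆⁆) r hd
      have h8 : (x : G) ∈ M := by
        refine ⟨x.2, ?_⟩
        have : x ^ r = 1 := by rw [← hx]; exact pow_orderOf_eq_one x
        exact congrArg Subtype.val this
      rw [h7, Subgroup.mem_bot] at h8
      have h9 : x = 1 := Subtype.ext h8
      rw [h9, orderOf_one] at hx
      exact c2.hr.one_lt.ne hx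
    have h7 := key M hMn (hMH1.trans hlt.le) hMne
    have h8 : IsPGroup r ↥⁅⁅L, L⁆, ⁅L, L⁆⁆ := by
      intro x
      exact ⟨1, Subtype.ext (by rw [pow_one]; exact (h7 x.2).2)⟩
    obtain ⟨j, hj⟩ := (IsPGroup.iff_card (p := r)).mp h8
    have h9 : IsPGroup r ↥⁅L, L⁆ := by
      apply IsPGroup.of_card (n := j + k)
      have e := Subgroup.relIndex_mul_relIndex ⊥ ⁅⁅L, L⁆, ⁅L, L⁆⁆ ⁅L, L⁆ bot_le hlt.le
      rw [Subgroup.relIndex_bot_left, Subgroup.relIndex_bot_left, c2.hV, hj] at e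
      rw [← e, pow_add]
    exact hH1 (eq_bot_of_comm_eq c2.hr _ _ hlt.le h9 h6)

end Cfsg.Agent.H53.D3
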