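import Cfsg.Agent.H53.T6
import Cfsg.Agent.H9.S4781N
import Cfsg.Agent.H9.S4781F
import Cfsg.Prelude.Def_DegreeGraph

/-!
# Two components, no divisibility: assembly (owner: helper53)
-/

set_option autoImplicit false
set_option linter.style.haveILetI false
set_option linter.unusedSectionVars false

namespace Cfsg.Agent.H53.D3

open scoped ComplexConjugate BigOperators commutatorElement
open Cfsg Cfsg.Agent.CharBase Cfsg.Agent.Char Cfsg.Agent.H75

universe u

variable {G : Type u} [Group G] [Finite G] {K L : Subgroup G} {p : ℕ}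

theorem Hyp.main (h : Hyp G K L p) (hs : Group.IsSolvable G) (χ ψ : IrrCharacter G)
    (hχ : p ∣ deg χ) (hψ : p ∣ deg ψ) : deg χ = deg ψ := by
  classical
  haveI := h.frob.hL
  haveI := h.frob.hK
  haveI : Fact p.Prime := ⟨h.frob.hp⟩
  have hp := h.frob.hp
  obtain ⟨Q0, hQ0, hQp, k, hk⟩ := S4456.result (G := L) p hp (fun ψ hψ' => by
    rw [charDegree_eq_deg] at hψ' ⊢
    obtain ⟨-, -, -, h1, -⟩ := h.ext ψ hψ'
    exact h1)
  haveI := hQ0
  have hQp' : ¬ p ∣ Nat.card Q0 := by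
    intro h
    have := Nat.dvd_gcd h (dvd_refl p)
    rw [hQp] at this
    exact hp.one_lt.ne' (Nat.dvd_one.mp this)
  have hcop : (Nat.card Q0).Coprime Q0.index := by
    rw [hk]; exact Nat.Coprime.pow_right k hQp
  haveI : Q0.Characteristic := hall_char Q0 hcop
  let Q : Subgroup G := Q0.map L.subtype
  haveI hQn : Q.Normal := inferInstance
  have hQL : Q ≤ L := by
    rintro _ ⟨x, -, rfl⟩
    exact x.2
  have hcQ : Nat.card Q = Nat.card Q0 :=
    (Nat.card_congr (Q0.equivMapOfInjective L.subtype L.subtype_injective).toEquiv).symm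
  have hQp2 : ¬ p ∣ Nat.card Q := by rw [hcQ]; exact hQp'
  have hQsub : Q.subgroupOf L = Q0 := by
    rw [Subgroup.subgroupOf, Subgroup.comap_map_eq_self_of_injective L.subtype_injective]
  have hLQ : ∃ k, Q.relIndex L = p ^ k := ⟨k, by rw [Subgroup.relIndex, hQsub, hk]⟩
  by_cases hH : ⁅L, L⁆ ⊓ Q = ⊥
  · -- `Q` is central in `L`
    have hQab : ∀ a ∈ Q0, ∀ b ∈ Q0, a * b = b * a := by
      intro a ha b hb
      have h1 : ⁅(a : G), (b : G)⁆ ∈ ⁅L, L⁆ ⊓ Q := by
        refine ⟨Subgroup.commutator_mem_commutator a.2 b.2, ?_⟩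
        exact ⟨⁅a, b⁆, Subgroup.mul_mem _ (Subgroup.mul_mem _ (Subgroup.mul_mem _ ha hb)
          (Subgroup.inv_mem _ ha)) (Subgroup.inv_mem _ hb), rfl⟩
      rw [hH, Subgroup.mem_bot, commutatorElement_eq_one_iff_mul_comm] at h1
      exact Subtype.ext h1
    have key : ∀ χ : IrrCharacter G, p ∣ deg χ → ∃ i, deg χ = p ^ i := by
      intro χ hχ
      have hc : (deg χ).Coprime L.index := by
        rcases h.tri χ with h1 | h1 | h1
        · rw [h1] at hχ
          exact absurd (Nat.dvd_one.mp hχ) hp.one_lt.ne'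
        · rw [h1] at hχ
          exact absurd hχ h.frob.hpi
        · exact h1.2
      have h2 := restrict_irr (N := L) χ hc
      have h3 : deg (⟨_, h2⟩ : IrrCharacter L) = deg χ := by
        have h4 : ((deg (⟨_, h2⟩ : IrrCharacter L) : ℕ) : ℂ) = ((deg χ : ℕ) : ℂ) := by
          rw [← deg_spec, ← deg_spec]
          rfl
        exact_mod_cast h4
      have h5 := ito (⟨_, h2⟩ : IrrCharacter L) Q0 hQab
      rw [h3, hk] at h5
      obtain ⟨i, -, hi⟩ := (Nat.dvd_prime_pow hp).mp h5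
      exact ⟨i, hi⟩
    obtain ⟨i, hi⟩ := key χ hχ
    obtain ⟨j, hj⟩ := key ψ hψ
    have hne : ∀ χ : IrrCharacter G, p ∣ deg χ → deg χ ≠ 1 := by
      intro χ h1 h2
      rw [h2] at h1
      exact hp.one_lt.ne' (Nat.dvd_one.mp h1)
    rcases le_total i j with hij | hij
    · exact h.ndad χ ψ (hne χ hχ) (by rw [hi, hj]; exact pow_dvd_pow p hij)
    · exact (h.ndad ψ χ (hne ψ hψ) (by rw [hi, hj]; exact pow_dvd_pow p hij)).symm
  · have hLK : ∃ x ∈ L, x ∉ K := by
      by_contra hcon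
      push Not at hcon
      obtain ⟨k, hk0, hk⟩ := h.frob.hLp
      have h1 : K.relIndex L = 1 := Subgroup.relIndex_eq_one.mpr hcon
      rw [hk] at h1
      have h2 := Nat.one_lt_pow hk0.ne' hp.one_lt
      omega
    obtain ⟨S, Y, hSp, hSL, hSY, hYS, hSi, hSK, h1, h2, hA, hB, -, hLQ'⟩ :=
      Cfsg.Agent.H9.S4781.struct hp h.frob.hKL hLK hQL h.frob.hLL hQp2 hLQ
        (by obtain ⟨k, -, hk⟩ := h.frob.hLp; exact ⟨k, hk⟩) (fun x hx hxK => h.kl' hx hxK)
    have hSab := h.sylow_comm hs hQL hQp2 hLQ hH hSp hSL hSY hYS hSi hSK h1 h2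
    have hle := hLQ' hSab
    have heq : ⁅L, L⁆ ⊓ Q = ⁅L, L⁆ := inf_eq_left.mpr hle
    rw [heq] at h1 h2 hH
    have c : Core G K L Y p := by
      refine ⟨h, hs, h1, h2, ?_⟩
      intro a ha b hb
      obtain ⟨a1, ha1, s, hs1, rfl⟩ := hB a ha
      obtain ⟨b1, hb1, t, ht1, rfl⟩ := hB b hb
      have e1 : Commute a1 b1 := hA a1 ha1 b1 ⟨hQL hb1.1, hb1.2⟩
      have e2 : Commute a1 t := hA a1 ha1 t ⟨hSL ht1, hSY ht1⟩
      have e3 : Commute b1 s := hA b1 hb1 s ⟨hSL hs1, hSY hs1⟩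
      have e4 : Commute s t := hSab s hs1 t ht1
      exact ((e1.mul_right e2).mul_left (e3.symm.mul_right e4)).eq
    exact c.s12 (core_abelian _ G K L Y p rfl c) hH χ ψ hχ hψ

theorem mem_cd {d : ℕ} : d ∈ charDegrees G ↔ ∃ χ : IrrCharacter G, deg χ = d := by
  unfold charDegrees
  constructor
  · rintro ⟨χ, hχ⟩
    exact ⟨χ, by rw [← charDegree_eq_deg]; exact hχ⟩
  · rintro ⟨χ, hχ⟩
    exact ⟨χ, by rw [charDegree_eq_deg]; exact hχ⟩

/-- a two-colouring of the primes -/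
theorem two_comp (htwo : Nat.card ((degreeGraph G).induce (degreePrimes G)).ConnectedComponent = 2) :
    ∃ P : ℕ → Prop, (∀ χ : IrrCharacter G, ∀ q q' : ℕ, q.Prime → q'.Prime → q ∣ deg χ → q' ∣ deg χ →
      (P q ↔ P q')) ∧ (∃ χ : IrrCharacter G, ∃ q : ℕ, q.Prime ∧ q ∣ deg χ ∧ P q) ∧
      ∃ χ : IrrCharacter G, ∃ q : ℕ, q.Prime ∧ q ∣ deg χ ∧ ¬ P q := by
  classical
  obtain ⟨c1, c2, hc, -⟩ := Nat.card_eq_two_iff.mp htwo
  refine ⟨fun q => ∃ hq : q ∈ degreePrimes G, ((degreeGraph G).induce (degreePrimes G)).connectedComponentMk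
    ⟨q, hq⟩ = c1, ?_, ?_, ?_⟩
  · intro χ q q' hq hq' hqd hqd'
    have m1 : q ∈ degreePrimes G := ⟨hq, deg χ, mem_cd.mpr ⟨χ, rfl⟩, hqd⟩
    have m2 : q' ∈ degreePrimes G := ⟨hq', deg χ, mem_cd.mpr ⟨χ, rfl⟩, hqd'⟩
    by_cases hqq : q = q'
    · subst hqq; rfl
    have hadj : ((degreeGraph G).induce (degreePrimes G)).Adj ⟨q, m1⟩ ⟨q', m2⟩ := by
      rw [SimpleGraph.comap_adj]
      refine ⟨hqq, hq, hq', deg χ, mem_cd.mpr ⟨χ, rfl⟩, ?_⟩
      exact Nat.Coprime.mul_dvd_of_dvd_of_dvd ((Nat.coprime_primes hq hq').mpr hqq) hqd hqd'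
    have heq : ((degreeGraph G).induce (degreePrimes G)).connectedComponentMk ⟨q, m1⟩ =
        ((degreeGraph G).induce (degreePrimes G)).connectedComponentMk ⟨q', m2⟩ :=
      SimpleGraph.ConnectedComponent.sound hadj.reachable
    constructor
    · rintro ⟨_, h⟩
      exact ⟨m2, by rw [← heq]; exact h⟩
    · rintro ⟨_, h⟩
      exact ⟨m1, by rw [heq]; exact h⟩
  · induction c1 using SimpleGraph.ConnectedComponent.ind with
    | h v =>
      obtain ⟨q, hq⟩ := v
      obtain ⟨d, hd, hqd⟩ := hq.2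
      obtain ⟨χ, rfl⟩ := mem_cd.mp hd
      exact ⟨χ, q, hq.1, hqd, hq, rfl⟩
  · induction c2 using SimpleGraph.ConnectedComponent.ind with
    | h v =>
      obtain ⟨q, hq⟩ := v
      obtain ⟨d, hd, hqd⟩ := hq.2
      obtain ⟨χ, rfl⟩ := mem_cd.mp hd
      refine ⟨χ, q, hq.1, hqd, ?_⟩
      rintro ⟨_, h⟩
      exact hc h.symm

/-- the final result -/
theorem main_result (hs : Group.IsSolvable G)
    (hnd : ∀ χ ψ : IrrCharacter G, deg χ ≠ 1 → deg χ ∣ deg ψ → deg χ = deg ψ)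
    (P : ℕ → Prop) (hP : ∀ χ : IrrCharacter G, ∀ q q' : ℕ, q.Prime → q'.Prime → q ∣ deg χ → q' ∣ deg χ →
      (P q ↔ P q')) (hP1 : ∃ χ : IrrCharacter G, ∃ q : ℕ, q.Prime ∧ q ∣ deg χ ∧ P q)
    (hP2 : ∃ χ : IrrCharacter G, ∃ q : ℕ, q.Prime ∧ q ∣ deg χ ∧ ¬ P q) :
    ∃ f d : ℕ, 1 ≠ f ∧ 1 ≠ d ∧ f ≠ d ∧ charDegrees G = {1, f, d} := by
  classical
  haveI := hs
  -- the other colour
  have other : ∀ q0 : ℕ, ∃ χ : IrrCharacter G, ∃ q : ℕ, q.Prime ∧ q ∣ deg χ ∧ ¬ (P q ↔ P q0) := by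
    intro q0
    by_cases h0 : P q0
    · obtain ⟨χ, q, hq, hqd, hn⟩ := hP2
      exact ⟨χ, q, hq, hqd, fun h => hn (h.mpr h0)⟩
    · obtain ⟨χ, q, hq, hqd, hn⟩ := hP1
      exact ⟨χ, q, hq, hqd, fun h => h0 (h.mp hn)⟩
  have hna : ¬ commutator G ≤ ⊥ := by
    intro h
    obtain ⟨χ, q, hq, hqd, -⟩ := hP1
    have h1 : ∀ a b : G, a * b = b * a := by
      intro a b
      have h2 : ⁅a, b⁆ ∈ (⊥ : Subgroup G) := h (by
        rw [commutator_def]
        exact Subgroup.commutator_mem_commutator (Subgroup.mem_top _) (Subgroup.mem_top _))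
      rw [Subgroup.mem_bot, commutatorElement_eq_one_iff_mul_comm] at h2
      exact h2
    have h3 := irr_one_of_comm h1 χ
    rw [deg_spec] at h3
    have h4 : deg χ = 1 := by exact_mod_cast h3
    rw [h4] at hqd
    exact hq.one_lt.ne' (Nat.dvd_one.mp hqd)
  haveI : Group.IsSolvable (G ⧸ (⊥ : Subgroup G)) := inferInstance
  obtain ⟨K, hK, -, hKc, p, hp, hcase⟩ := exists_min_quot (⊥ : Subgroup G) hna
  haveI := hK
  haveI : Fact p.Prime := ⟨hp⟩
  rcases hcase with hpG | ⟨L, hF⟩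
  · exfalso
    obtain ⟨β, hβ⟩ := exists_nonlinear_quot K hKc
    obtain ⟨j, hj⟩ := (IsPGroup.iff_card (p := p)).mp hpG
    have hKi : K.index = p ^ j := by rw [Subgroup.index_eq_card, hj]
    have h1 := deg_quot_dvd K β
    rw [hKi] at h1
    obtain ⟨i, -, hi⟩ := (Nat.dvd_prime_pow hp).mp h1
    have hpβ : p ∣ deg β := by
      rw [hi]
      refine dvd_pow_self p ?_
      rintro rfl
      exact hβ (by rw [hi, pow_zero])
    obtain ⟨β', -, hβ'⟩ := inflate K β
    obtain ⟨ψ, q, hq, hqd, hnP⟩ := other p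
    have hpψ : ¬ p ∣ deg ψ := fun h => hnP (hP ψ q p hq hp hqd h)
    have hirr := restrict_irr (N := K) ψ (by
      rw [hKi]
      exact Nat.Coprime.pow_right j ((Nat.Prime.coprime_iff_not_dvd hp).mpr hpψ).symm)
    obtain ⟨φ, -, hφ⟩ := gallagher_mul K ψ hirr β
    apply hnP
    apply hP φ q p hq hp
    · rw [hφ]; exact Dvd.dvd.mul_left hqd _
    · rw [hφ]; exact Dvd.dvd.mul_right hpβ _
  · haveI := hF.hL
    have hidx : L.index ≠ 1 := by
      rw [Ne, Subgroup.index_eq_one]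
      exact hF.hLtop
    obtain ⟨χf, hχf⟩ := hF.deg (linIrr 1) (by
      rw [deg_linIrr]
      intro h1
      exact hp.one_lt.ne' (Nat.dvd_one.mp h1))
    rw [deg_linIrr, mul_one] at hχf
    -- characters of degree prime to `p`
    have hprime : ∀ χ : IrrCharacter G, ¬ p ∣ deg χ → deg χ = 1 ∨ deg χ = L.index := by
      intro χ hχ
      obtain ⟨ψ, hψ⟩ := exists_under L χ
      obtain ⟨m, hm, hmi⟩ := hψ.deg_dvd
      have hpψ : ¬ p ∣ deg ψ := fun h => hχ (h.trans hψ.dvd)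
      obtain ⟨χ', hχ'⟩ := hF.deg ψ hpψ
      have h1 := hnd χf χ' (by rw [hχf]; exact hidx) (by rw [hχf, hχ']; exact Dvd.intro _ rfl)
      rw [hχf, hχ'] at h1
      have h2 : 0 < L.index := Nat.pos_of_ne_zero Subgroup.index_ne_zero_of_finite
      have h3 : L.index * 1 = L.index * deg ψ := by rw [mul_one]; exact h1
      have h4 := Nat.eq_of_mul_eq_mul_left h2 h3
      by_cases h5 : deg χ = 1
      · exact Or.inl h5
      · right
        rw [← hχf]
        apply hnd χ χf h5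
        rw [hm, ← h4, one_mul, hχf]
        exact hmi
    obtain ⟨q1, hq1, hq1f⟩ := Nat.exists_prime_and_dvd hidx
    obtain ⟨χ0, q0, hq0, hq0d, hn0⟩ := other q1
    have hχ01 : deg χ0 ≠ 1 := by
      intro h
      rw [h] at hq0d
      exact hq0.one_lt.ne' (Nat.dvd_one.mp hq0d)
    have hp0 : p ∣ deg χ0 := by
      by_contra h
      rcases hprime χ0 h with h1 | h1
      · exact hχ01 h1
      · apply hn0
        exact hP χ0 q0 q1 hq0 hq1 hq0d (by rw [h1]; exact hq1f)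
    have hpq : ¬ (P p ↔ P q1) := by
      intro h
      apply hn0
      rw [← h]
      exact hP χ0 q0 p hq0 hp hq0d hp0
    have htri : ∀ χ : IrrCharacter G, deg χ = 1 ∨ deg χ = L.index ∨ (p ∣ deg χ ∧ (deg χ).Coprime L.index) := by
      intro χ
      by_cases hpχ : p ∣ deg χ
      · right; right
        refine ⟨hpχ, ?_⟩
        apply Nat.Coprime.symm
        rw [Nat.coprime_iff_gcd_eq_one]
        by_contra hg
        obtain ⟨q, hq, hqg⟩ := Nat.exists_prime_and_dvd hg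
        have e1 : q ∣ L.index := hqg.trans (Nat.gcd_dvd_left _ _)
        have e2 : q ∣ deg χ := hqg.trans (Nat.gcd_dvd_right _ _)
        apply hpq
        rw [hP χ p q hp hq hpχ e2]
        exact hP χf q q1 hq hq1 (by rw [hχf]; exact e1) (by rw [hχf]; exact hq1f)
      · rcases hprime χ hpχ with h | h
        · exact Or.inl h
        · exact Or.inr (Or.inl h)
    have hHyp : Hyp G K L p := ⟨hF, hnd, htri⟩
    refine ⟨L.index, deg χ0, hidx.symm, hχ01.symm, ?_, ?_⟩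
    · intro h
      apply hF.hpi
      rw [h]
      exact hp0
    · ext d
      rw [mem_cd]
      simp only [Set.mem_insert_iff, Set.mem_singleton_iff]
      constructor
      · rintro ⟨χ, rfl⟩
        rcases htri χ with h | h | h
        · exact Or.inl h
        · exact Or.inr (Or.inl h)
        · exact Or.inr (Or.inr (hHyp.main hs χ χ0 h.1 hp0))
      · rintro (rfl | rfl | rfl)
        · exact ⟨linIrr 1, deg_linIrr 1⟩
        · exact ⟨χf, hχf⟩
        · exact ⟨χ0, rfl⟩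

end Cfsg.Agent.H53.D3
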